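import Groth.Agent.Lib.FEt.GaloisCat

/-!
# A criterion for base change of finite etale covers to be fully faithful

If the image of `g : X' ⟶ X` meets every nonempty clopen subset and, for every finite etale
cover `W` of `X`, every clopen subset of `W ×_X X'` comes from a clopen subset of `W`, then
`FEt.restrict g` is fully faithful.
-/

universe u

open CategoryTheory CategoryTheory.Limits AlgebraicGeometry

namespace Groth.Agent.Lib.FEt.FullyFaithful

variable {X X' : Scheme.{u}} (g : X' ⟶ X)

/-- The geometric point over a point. -/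
noncomputable def geomPt (x : X) :
    Spec (CommRingCat.of (AlgebraicClosure (X.residueField x))) ⟶ X :=
  Spec.map (CommRingCat.ofHom (algebraMap (X.residueField x) (AlgebraicClosure (X.residueField x)))) ≫
    X.fromSpecResidueField x

theorem point_geomPt (x : X) : Fiber.point (geomPt x) = x :=
  Scheme.fromSpecResidueField_apply x _

theorem point_comp {Ω : Type u} [Field Ω] {W V : Scheme.{u}} (s : Spec (CommRingCat.of Ω) ⟶ W)
    (f : W ⟶ V) : Fiber.point (s ≫ f) = f.base (Fiber.point s) := rfl

theorem faithful (hmeet : Conservative.MeetsClopens X (Set.range g.base)) :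
    (FEt.restrict g).Faithful := by
  refine ⟨fun {Y Z a b} hab => MorphismProperty.Over.Hom.ext ?_⟩
  have hw : a.left ≫ Z.hom = b.left ≫ Z.hom := (Over.w a.hom).trans (Over.w b.hom).symm
  refine Basic.eq_of_eqSet_eq_univ Z.hom a.left b.left hw (by_contra fun hne => ?_)
  obtain ⟨x, ⟨y, hy, hyx⟩, x', rfl⟩ := hmeet _
    (Basic.isClopen_image Y.hom (Basic.isClopen_eqSet Z.hom a.left b.left hw).compl)
    ((Set.nonempty_compl.mpr hne).image _)
  obtain ⟨t, rfl, -⟩ := Scheme.Pullback.exists_preimage_pullback (f := Y.hom) (g := g) y x' hyx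
  exact hy (Basic.mem_eqSet_of_agree Z.hom a.left b.left hw _
    (Basic.fst_comp_eq_of_restrict_map_eq g hab) t)

theorem reflectsIsomorphisms (hmeet : Conservative.MeetsClopens X (Set.range g.base)) :
    (FEt.restrict g).ReflectsIsomorphisms := by
  refine ⟨fun {Y Z} φ _ => Conservative.isIso_of_bijective (fun x' : X' => geomPt x' ≫ g) ?_ φ
    fun x' => ?_⟩
  · rwa [show (Set.range fun x' : X' => Fiber.point (geomPt x' ≫ g)) = Set.range g.base from
      congrArg Set.range (funext fun x' => (point_comp _ g).trans (congrArg g.base (point_geomPt x')))]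
  · have : IsIso ((FEt.fiber (geomPt x' ≫ g)).map φ) :=
      (NatIso.isIso_map_iff (GaloisCat.restrictFiberIso g (geomPt x')) φ).mp
        (inferInstanceAs (IsIso ((FEt.fiber (geomPt x')).map ((FEt.restrict g).map φ))))
    exact (isIso_iff_bijective _).mp this

variable {g} in
/-- A section whose image comes from a clopen of the base becomes, up to isomorphism, the base
change of a summand. -/
theorem exists_hom_of_section (hmeet : Conservative.MeetsClopens X (Set.range g.base))
    {W Y : FEt.Cat X} (p : W ⟶ Y) (γ : (FEt.restrict g).obj Y ⟶ (FEt.restrict g).obj W)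
    (hγ : γ ≫ (FEt.restrict g).map p = 𝟙 _)
    (hcl : ∃ D : Set W.left, IsClopen D ∧
      (pullback.fst W.hom g).base ⁻¹' D = Set.range γ.left.base) :
    ∃ s : Y ⟶ W, (FEt.restrict g).map s = γ := by
  obtain ⟨D, hD, hDC⟩ := hcl
  have : Mono γ := (IsSplitMono.mk' ⟨(FEt.restrict g).map p, hγ⟩).mono
  have := Summand.isOpenImmersion_left γ
  let V : W.left.Opens := ⟨D, hD.isOpen⟩
  let incl := Summand.clopenIncl W V hD.isClosed
  let Ri := (FEt.restrict g).map incl
  have hRi : ∀ v, Ri.left.base v ∈ Set.range γ.left.base := fun v => by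
    have h1 : (pullback.fst W.hom g).base (Ri.left.base v) ∈ D := by
      exact Set.mem_of_eq_of_mem (congrArg (fun f => f.base v) (Basic.restrict_map_fst g incl))
        (SetLike.coe_mem ((pullback.fst (Summand.clopenSub W V hD.isClosed).hom g).base v : V))
    exact hDC ▸ h1
  have hk0 : IsOpenImmersion.lift γ.left Ri.left (Set.range_subset_iff.mpr hRi) ≫
      ((FEt.restrict g).obj Y).hom = ((FEt.restrict g).obj (Summand.clopenSub W V hD.isClosed)).hom :=
    (congrArg (_ ≫ ·) (Over.w γ.hom).symm).trans ((Category.assoc _ _ _).symm.trans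
      ((congrArg (· ≫ ((FEt.restrict g).obj W).hom) (IsOpenImmersion.lift_fac _ _ _)).trans
        (Over.w Ri.hom)))
  let k : (FEt.restrict g).obj (Summand.clopenSub W V hD.isClosed) ⟶ (FEt.restrict g).obj Y :=
    MorphismProperty.Over.homMk (IsOpenImmersion.lift γ.left Ri.left (Set.range_subset_iff.mpr hRi)) hk0
  have hk : k ≫ γ = Ri := MorphismProperty.Over.Hom.ext (IsOpenImmersion.lift_fac _ _ _)
  have ha : ∀ v, (γ.left ≫ pullback.fst W.hom g).base v ∈ Set.range V.ι.base := fun v => by
    rw [Scheme.Opens.range_ι]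
    exact (show γ.left.base v ∈ (pullback.fst W.hom g).base ⁻¹' D from hDC.symm ▸ ⟨v, rfl⟩)
  let l := IsOpenImmersion.lift V.ι (γ.left ≫ pullback.fst W.hom g) (Set.range_subset_iff.mpr ha)
  have hl : l ≫ V.ι = γ.left ≫ pullback.fst W.hom g := IsOpenImmersion.lift_fac _ _ _
  have hl2 : l ≫ (Summand.clopenSub W V hD.isClosed).hom = ((FEt.restrict g).obj Y).hom ≫ g :=
    (Category.assoc _ _ _).symm.trans ((congrArg (· ≫ W.hom) hl).trans ((Category.assoc _ _ _).trans
      ((congrArg (γ.left ≫ ·) pullback.condition).trans ((Category.assoc _ _ _).symm.trans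
        (congrArg (· ≫ g) (Over.w γ.hom))))))
  let e : (FEt.restrict g).obj Y ⟶ (FEt.restrict g).obj (Summand.clopenSub W V hD.isClosed) :=
    MorphismProperty.Over.homMk (pullback.lift l ((FEt.restrict g).obj Y).hom hl2)
      (pullback.lift_snd _ _ _)
  have he : e ≫ Ri = γ := MorphismProperty.Over.Hom.ext <| pullback.hom_ext
    ((Category.assoc _ _ _).trans ((congrArg (e.left ≫ ·) (Basic.restrict_map_fst g incl)).trans
      ((Category.assoc _ _ _).symm.trans
        ((congrArg (· ≫ V.ι) (pullback.lift_fst _ _ _)).trans hl))))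
    ((Over.w (e ≫ Ri).hom).trans (Over.w γ.hom).symm)
  have hkp : (FEt.restrict g).map (incl ≫ p) = k := by
    rw [Functor.map_comp, show (FEt.restrict g).map incl = k ≫ γ from hk.symm, Category.assoc, hγ,
      Category.comp_id]
  have : Mono ((MorphismProperty.Over.forget FEt.prop.{u} ⊤ X ⋙ Over.forget X).map incl) :=
    inferInstanceAs (Mono V.ι)
  have : Mono incl :=
    Functor.mono_of_mono_map (MorphismProperty.Over.forget FEt.prop.{u} ⊤ X ⋙ Over.forget X) this
  have : Mono Ri := inferInstanceAs (Mono ((FEt.restrict g).map incl))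
  have : IsIso k := ⟨⟨e, by
    rw [← cancel_mono Ri, Category.assoc, he, Category.id_comp, hk], by
    rw [← cancel_mono γ, Category.assoc, hk, he, Category.id_comp]⟩⟩
  have := reflectsIsomorphisms g hmeet
  have : IsIso (incl ≫ p) := by
    have : IsIso ((FEt.restrict g).map (incl ≫ p)) := hkp ▸ inferInstance
    exact isIso_of_reflects_iso _ (FEt.restrict g)
  refine ⟨inv (incl ≫ p) ≫ incl, ?_⟩
  rw [Functor.map_comp, Functor.map_inv, ← he]
  congr 1
  exact IsIso.inv_eq_of_hom_inv_id (by rw [hkp]; rw [← cancel_mono Ri, Category.assoc, he, Category.id_comp, hk])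

theorem full (hmeet : Conservative.MeetsClopens X (Set.range g.base))
    (hcl : ∀ (W : FEt.Cat X) (C : Set (pullback W.hom g : Scheme.{u})), IsClopen C →
      ∃ D : Set W.left, IsClopen D ∧ (pullback.fst W.hom g).base ⁻¹' D = C) :
    (FEt.restrict g).Full := by
  refine ⟨fun {Y Z} β => ?_⟩
  let γ := prod.lift (𝟙 _) β ≫ inv (prodComparison (FEt.restrict g) Y Z)
  have hγ : γ ≫ (FEt.restrict g).map prod.fst = 𝟙 _ :=
    (Category.assoc _ _ _).trans ((congrArg (_ ≫ ·) (inv_prodComparison_map_fst _)).trans
      (prod.lift_fst _ _))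
  have hγ' : γ ≫ (FEt.restrict g).map prod.snd = β :=
    (Category.assoc _ _ _).trans ((congrArg (_ ≫ ·) (inv_prodComparison_map_snd _)).trans
      (prod.lift_snd _ _))
  have : Mono γ := (IsSplitMono.mk' ⟨_, hγ⟩).mono
  have := Summand.isOpenImmersion_left γ
  have := Basic.isFinite_left γ
  obtain ⟨s, hs⟩ := exists_hom_of_section hmeet prod.fst γ hγ (hcl _ _
    ⟨γ.left.isClosedMap.isClosed_range, γ.left.isOpenEmbedding.isOpen_range⟩)
  exact ⟨s ≫ prod.snd, by rw [Functor.map_comp, hs, hγ']⟩

theorem full_and_faithful (hmeet : Conservative.MeetsClopens X (Set.range g.base))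
    (hcl : ∀ (W : FEt.Cat X) (C : Set (pullback W.hom g : Scheme.{u})), IsClopen C →
      ∃ D : Set W.left, IsClopen D ∧ (pullback.fst W.hom g).base ⁻¹' D = C) :
    (FEt.restrict g).Full ∧ (FEt.restrict g).Faithful :=
  ⟨full g hmeet hcl, faithful g hmeet⟩

theorem meetsClopens_of_surjective [Surjective g] : Conservative.MeetsClopens X (Set.range g.base) := by
  rw [g.surjective.range_eq]; exact Conservative.meetsClopens_univ

theorem meetsClopens_of_preconnected [PreconnectedSpace X] [Nonempty X'] :
    Conservative.MeetsClopens X (Set.range g.base) := fun s hs hne => by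
  rw [hs.eq_univ hne, Set.univ_inter]; exact Set.range_nonempty _

/-- A morphism which is a homeomorphism after every base change to a cover. -/
theorem of_isHomeomorph [Surjective g]
    (h : ∀ W : FEt.Cat X, IsHomeomorph (pullback.fst W.hom g).base) :
    (FEt.restrict g).Full ∧ (FEt.restrict g).Faithful :=
  full_and_faithful g (meetsClopens_of_surjective g) fun W C hC => by
    let e := (h W).homeomorph
    exact ⟨e '' C, ⟨e.isClosed_image.mpr hC.1, e.isOpen_image.mpr hC.2⟩, e.injective.preimage_image C⟩

end Groth.Agent.Lib.FEt.FullyFaithful
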