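import Mathlib.RingTheory.Smooth.IntegralClosure
import Mathlib.RingTheory.Smooth.Flat
import Mathlib.RingTheory.Etale.Field
import Mathlib.RingTheory.Unramified.Field
import Mathlib.RingTheory.IntegralClosure.IntegrallyClosed
import Mathlib.RingTheory.Artinian.Ring
import Mathlib.RingTheory.Flat.Basic
import Mathlib.RingTheory.LocalRing.Basic

/-!
# Local rings of etale algebras over normal domains are normal domains
-/

universe u

open scoped TensorProduct

namespace Groth.Agent.Lib.FEt.NormalAlg

theorem isUnit_or_eq_zero {T : Type u} [CommRing T] [IsArtinianRing T] [IsReduced T]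
    (h : ∀ e : T, IsIdempotentElem e → e = 0 ∨ e = 1) (x : T) : x = 0 ∨ IsUnit x := by
  classical
  let φ := IsArtinianRing.equivPi T
  have key : ∀ I J : MaximalSpectrum T, I = J := by
    intro I J
    by_contra hne
    have hI : I.asIdeal.IsMaximal := I.isMaximal
    have hJ : J.asIdeal.IsMaximal := J.isMaximal
    have he : IsIdempotentElem (φ.symm (Pi.single I 1)) := by
      unfold IsIdempotentElem
      rw [← map_mul, ← Pi.single_mul, one_mul]
    rcases h _ he with h0 | h1
    · have h' := congrFun (((φ.apply_symm_apply _).symm.trans (congrArg φ h0)).trans (map_zero φ)) I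
      rw [Pi.single_eq_same, Pi.zero_apply] at h'
      exact one_ne_zero h'
    · have h' := congrFun (((φ.apply_symm_apply _).symm.trans (congrArg φ h1)).trans (map_one φ)) J
      rw [Pi.single_eq_of_ne (Ne.symm hne), Pi.one_apply] at h'
      exact zero_ne_one h'
  by_cases hx : IsUnit x
  · exact Or.inr hx
  · refine Or.inl ?_
    obtain ⟨M, hM, hxM⟩ := exists_max_ideal_of_mem_nonunits hx
    have hnil : x ∈ nilradical T := by
      rw [nilradical_eq_sInf]
      refine Submodule.mem_sInf.mpr fun (P : Ideal T) hP => ?_
      have : P.IsPrime := hP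
      have hPm : P.IsMaximal := IsArtinianRing.isMaximal_of_isPrime P
      have := congrArg MaximalSpectrum.asIdeal (key ⟨P, hPm⟩ ⟨M, hM⟩)
      exact (SetLike.ext_iff.mp this x).mpr hxM
    rwa [nilradical_eq_zero, Ideal.zero_eq_bot, Ideal.mem_bot] at hnil

variable (R : Type u) [CommRing R] [IsDomain R] [IsIntegrallyClosed R]

theorem isDomain_and_isIntegrallyClosed (L : Type u) [CommRing L] [IsLocalRing L] [Algebra R L]
    [Module.Flat R L] [Algebra.FormallyEtale R L] [Algebra.EssFiniteType R L]
    (hbij : Function.Bijective (TensorProduct.toIntegralClosure R L (FractionRing R))) :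
    IsDomain L ∧ IsIntegrallyClosed L := by
  let K := FractionRing R
  let T := L ⊗[R] K
  let ι : L →ₐ[L] T := Algebra.ofId L T
  have hι : Function.Injective (algebraMap L T) := by
    have h := Module.Flat.lTensor_preserves_injective_linearMap (M := L) (Algebra.linearMap R K)
      (IsFractionRing.injective R K)
    have h' : ∀ x : L, algebraMap L T x = (Algebra.linearMap R K).lTensor L (x ⊗ₜ[R] 1) := fun x => by
      rw [LinearMap.lTensor_tmul, Algebra.linearMap_apply, map_one]; rfl
    intro x y hxy
    rw [h', h'] at hxy
    have := congrArg (TensorProduct.rid R L) (h hxy)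
    simpa using this
  -- elements integral over `L` come from `L`
  have hint : ∀ z : T, IsIntegral L z → ∃ x : L, algebraMap L T x = z := by
    intro z hz
    obtain ⟨w, hw⟩ := hbij.2 ⟨z, hz⟩
    have hw' : Algebra.TensorProduct.map (AlgHom.id L L) (integralClosure R K).val w = z :=
      congrArg Subtype.val hw
    rw [← hw']
    clear hw hw' hz z
    induction w with
    | zero => exact ⟨0, by simp⟩
    | add a b iha ihb =>
      obtain ⟨x, hx⟩ := iha
      obtain ⟨y, hy⟩ := ihb
      exact ⟨x + y, by rw [map_add, map_add, hx, hy]⟩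
    | tmul x y =>
      obtain ⟨r, hr⟩ := IsIntegrallyClosed.isIntegral_iff.mp y.2
      refine ⟨r • x, ?_⟩
      change (r • x) ⊗ₜ[R] (1 : K) = x ⊗ₜ[R] (y : K)
      rw [← hr, Algebra.algebraMap_eq_smul_one, TensorProduct.smul_tmul]
  let e : K ⊗[R] L ≃+* T := (Algebra.TensorProduct.comm R K L).toRingEquiv
  have : Module.Finite K (K ⊗[R] L) := Algebra.FormallyUnramified.finite_of_free K (K ⊗[R] L)
  have : IsArtinianRing (K ⊗[R] L) := IsArtinianRing.of_finite K _
  have : IsArtinianRing T := e.isArtinianRing
  have : IsReduced (K ⊗[R] L) := Algebra.FormallyUnramified.isReduced_of_field K (K ⊗[R] L)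
  have : IsReduced T := isReduced_of_injective e.symm e.symm.injective
  have : Nontrivial T := hι.nontrivial
  have hfield : IsField T := by
    refine ⟨exists_pair_ne T, mul_comm, fun {x} hx => ?_⟩
    refine (isUnit_or_eq_zero (fun a ha => ?_) x).resolve_left hx |>.exists_right_inv
    obtain ⟨b, rfl⟩ := hint a ⟨Polynomial.X ^ 2 - Polynomial.X, Polynomial.monic_X_pow_sub (by simp),
      by simp [sq, ha.eq]⟩
    have hb : IsIdempotentElem b := hι (by rw [map_mul]; exact ha)
    rcases IsLocalRing.isUnit_or_isUnit_one_sub_self b with hu | hu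
    · exact Or.inr (by rw [(IsIdempotentElem.iff_eq_one_of_isUnit hu).mp hb, map_one])
    · refine Or.inl ?_
      rw [sub_eq_self.mp ((IsIdempotentElem.iff_eq_one_of_isUnit hu).mp hb.one_sub), map_zero]
  let := hfield.toField
  have hdom : IsDomain L := hι.isDomain _
  refine ⟨hdom, (isIntegrallyClosed_iff (FractionRing L)).mpr fun {z} hz => ?_⟩
  let ψ : FractionRing L →ₐ[L] T := IsFractionRing.liftAlgHom (g := Algebra.ofId L T) hι
  obtain ⟨x, hx⟩ := hint (ψ z) (hz.map ψ)
  exact ⟨x, ψ.toRingHom.injective (by simpa using hx)⟩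

theorem normal_localization (B : Type u) [CommRing B] [Algebra R B] [Algebra.Etale R B]
    (q : Ideal B) [q.IsPrime] (L : Type u) [CommRing L] [Algebra B L] [Algebra R L]
    [IsScalarTower R B L] [IsLocalization.AtPrime L q] :
    IsDomain L ∧ IsIntegrallyClosed L := by
  have : IsLocalRing L := IsLocalization.AtPrime.isLocalRing L q
  have : Module.Flat B L := IsLocalization.flat L q.primeCompl
  have : Module.Flat R L := Module.Flat.trans R B L
  have : Algebra.FormallyEtale B L := Algebra.FormallyEtale.of_isLocalization q.primeCompl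
  have : Algebra.FormallyEtale R L := Algebra.FormallyEtale.comp R B L
  have : Algebra.EssFiniteType B L := Algebra.EssFiniteType.of_isLocalization L q.primeCompl
  have : Algebra.EssFiniteType R L := Algebra.EssFiniteType.comp R B L
  exact isDomain_and_isIntegrallyClosed R L (TensorProduct.toIntegralClosure_bijective_of_tower
    (S := B) TensorProduct.toIntegralClosure_bijective_of_smooth
    (TensorProduct.toIntegralClosure_bijective_of_isLocalization q.primeCompl))

end Groth.Agent.Lib.FEt.NormalAlg
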