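import Mathlib.AlgebraicGeometry.Morphisms.QuasiFinite
import Mathlib.AlgebraicGeometry.Stalk
import Groth.Prelude.Def_Pi1
import Groth.Agent.S2102
import Groth.Agent.Lib.FEt.NormalAlg
import Groth.Agent.Lib.FEt.FullyFaithful

/-!
# Finite etale covers of a normal integral scheme
-/

universe u

open CategoryTheory CategoryTheory.Limits AlgebraicGeometry

namespace Groth.Agent.Lib.FEt.NormalCover

variable {X : Scheme.{u}} [IsIntegral X] (hX : Pi1.IsNormalScheme X)

include hX in
theorem isIntegrallyClosed_sections {U : X.Opens} [Nonempty U] :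
    IsIntegrallyClosed Γ(X, U) := by
  have : IsIntegral (U : Scheme.{u}) := isIntegral_of_isOpenImmersion U.ι
  have hU : Pi1.IsNormalScheme (U : Scheme.{u}) := fun x => by
    have e := (asIso (U.ι.stalkMap x)).commRingCatIsoToRingEquiv
    obtain ⟨h1, h2⟩ := hX (U.ι.base x)
    exact ⟨e.toMulEquiv.isDomain_iff.mp h1, IsIntegrallyClosed.of_equiv e⟩
  have := S2102.result (U : Scheme.{u}) hU
  exact IsIntegrallyClosed.of_equiv U.topIso.commRingCatIsoToRingEquiv

include hX in
theorem isNormalScheme_of_etale {Y : Scheme.{u}} (p : Y ⟶ X) [Etale p] :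
    Pi1.IsNormalScheme Y := by
  intro y
  obtain ⟨_, ⟨U, hU, rfl⟩, hyU, -⟩ :=
    X.isBasis_affineOpens.exists_subset_of_mem_open (Set.mem_univ (p.base y)) isOpen_univ
  obtain ⟨_, ⟨V, hV, rfl⟩, hyV, hVU⟩ :=
    Y.isBasis_affineOpens.exists_subset_of_mem_open (show y ∈ p ⁻¹ᵁ U from hyU) (p ⁻¹ᵁ U).isOpen
  have : Nonempty U := ⟨⟨_, hyU⟩⟩
  have := isIntegrallyClosed_sections hX (U := U)
  algebraize [(p.appLE U V hVU).hom]
  have : Algebra.Etale Γ(X, U) Γ(Y, V) := p.etale_appLE hU hV hVU
  let := Y.presheaf.algebra_section_stalk (⟨y, hyV⟩ : V)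
  let : Algebra Γ(X, U) (Y.presheaf.stalk y) :=
    ((algebraMap Γ(Y, V) (Y.presheaf.stalk y)).comp (algebraMap Γ(X, U) Γ(Y, V))).toAlgebra
  have : IsScalarTower Γ(X, U) Γ(Y, V) (Y.presheaf.stalk y) := .of_algebraMap_eq' rfl
  have := hV.isLocalization_stalk ⟨y, hyV⟩
  exact NormalAlg.normal_localization Γ(X, U) Γ(Y, V) (hV.primeIdealOf ⟨y, hyV⟩).asIdeal _

theorem eq_of_specializes_fibre {Y : Scheme.{u}} (p : Y ⟶ X) [IsFinite p] {g a : Y}
    (hg : p.base g = genericPoint X) (ha : p.base a = genericPoint X) (h : g ⤳ a) : g = a := by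
  have hd := p.isDiscrete_preimage_singleton (genericPoint X)
  have := hd.to_subtype
  have h' : (⟨g, hg⟩ : (p.base ⁻¹' {genericPoint X} : Set Y)) ⤳ ⟨a, ha⟩ :=
    Topology.IsInducing.subtypeVal.specializes_iff.mp h
  exact congrArg Subtype.val h'.eq

include hX in
/-- Every point has exactly one generalization over the generic point. -/
theorem existsUnique_generalization {Y : Scheme.{u}} (p : Y ⟶ X) [IsFinite p] [Etale p] (y : Y) :
    ∃! g : Y, p.base g = genericPoint X ∧ g ⤳ y := by
  obtain ⟨a, hay, ha⟩ := Flat.generalizingMap p (genericPoint_specializes (p.base y))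
  have := (isNormalScheme_of_etale hX p y).1
  refine ⟨a, ⟨ha, hay⟩, ?_⟩
  have key : ∀ b : Y, p.base b = genericPoint X → b ⤳ y →
      b = (Y.fromSpecStalk y).base (genericPoint (Spec (Y.presheaf.stalk y))) := by
    intro b hb hby
    obtain ⟨t, rfl⟩ : b ∈ Set.range (Y.fromSpecStalk y).base := by
      rw [Scheme.range_fromSpecStalk]; exact hby
    have hsp := (genericPoint_specializes t).map (Y.fromSpecStalk y).continuous
    refine (eq_of_specializes_fibre p ?_ hb hsp).symm
    exact ((hsp.map p.continuous).trans (hb ▸ specializes_rfl)).antisymm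
      (genericPoint_specializes _) |>.eq
  rintro b ⟨hb, hby⟩
  rw [key b hb hby, key a ha hay]

include hX in
theorem isClopen_closure {Y : Scheme.{u}} (p : Y ⟶ X) [IsFinite p] [Etale p] {g : Y}
    (hg : p.base g = genericPoint X) : IsClopen (closure {g}) := by
  refine ⟨isClosed_closure, ?_⟩
  have heq : (closure {g})ᶜ = ⋃ h ∈ p.base ⁻¹' {genericPoint X} \ {g}, closure {h} := by
    ext y
    simp only [Set.mem_compl_iff, ← specializes_iff_mem_closure, Set.mem_iUnion, Set.mem_diff,
      Set.mem_preimage, Set.mem_singleton_iff, exists_prop]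
    constructor
    · intro hy
      obtain ⟨h, ⟨hh, hhy⟩, -⟩ := existsUnique_generalization hX p y
      exact ⟨h, ⟨hh, fun e => hy (e ▸ hhy)⟩, hhy⟩
    · rintro ⟨h, ⟨hh, hne⟩, hhy⟩ hgy
      exact hne ((existsUnique_generalization hX p y).unique ⟨hh, hhy⟩ ⟨hg, hgy⟩)
  rw [← isClosed_compl_iff, heq]
  exact ((p.finite_preimage_singleton _).subset Set.diff_subset).isClosed_biUnion
    fun _ _ => isClosed_closure

include hX in
theorem irreducibleSpace {Y : Scheme.{u}} (p : Y ⟶ X) [IsFinite p] [Etale p] [ConnectedSpace Y] :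
    IrreducibleSpace Y := by
  obtain ⟨y⟩ := (inferInstance : Nonempty Y)
  obtain ⟨g, ⟨hg, -⟩, -⟩ := existsUnique_generalization hX p y
  rw [irreducibleSpace_def, Set.top_eq_univ,
    ← (isClopen_closure hX p hg).eq_univ ⟨g, subset_closure rfl⟩]
  exact isIrreducible_singleton.closure

include hX in
theorem isIntegral {Y : Scheme.{u}} (p : Y ⟶ X) [IsFinite p] [Etale p] [ConnectedSpace Y] :
    IsIntegral Y := by
  have := irreducibleSpace hX p
  have : ∀ y : Y, _root_.IsReduced (Y.presheaf.stalk y) := fun y =>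
    have := (isNormalScheme_of_etale hX p y).1
    inferInstance
  have : IsReduced Y := isReduced_of_isReduced_stalk Y
  exact isIntegral_of_irreducibleSpace_of_isReduced Y

include hX in
/-- Base change to a subspace containing the generic point is fully faithful. -/
theorem full_and_faithful {X' : Scheme.{u}} (i : X' ⟶ X) [IsPreimmersion i]
    (hi : genericPoint X ∈ Set.range i.base) :
    (FEt.restrict i).Full ∧ (FEt.restrict i).Faithful := by
  refine FullyFaithful.full_and_faithful i (fun s hs hne => ?_) fun W C hC => ?_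
  · exact ⟨genericPoint X, by rw [hs.eq_univ hne]; trivial, hi⟩
  let q := pullback.fst W.hom i
  have : IsPreimmersion q := inferInstanceAs (IsPreimmersion (pullback.fst W.hom i))
  let G := W.hom.base ⁻¹' {genericPoint X} ∩ q.base '' C
  have hGfin : G.Finite := (W.hom.finite_preimage_singleton _).subset Set.inter_subset_left
  refine ⟨⋃ g ∈ G, closure {g}, hGfin.isClopen_biUnion fun g hg => isClopen_closure hX W.hom hg.1, ?_⟩
  ext t
  obtain ⟨g, ⟨hg, hgt⟩, huniq⟩ := existsUnique_generalization hX W.hom (q.base t)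
  obtain ⟨x', hx'⟩ := hi
  obtain ⟨s, hs, -⟩ :=
    Scheme.Pullback.exists_preimage_pullback (f := W.hom) (g := i) g x' (hg.trans hx'.symm)
  have hst : s ⤳ t := q.isEmbedding.toIsInducing.specializes_iff.mp (hs.symm ▸ hgt)
  simp only [Set.mem_preimage, Set.mem_iUnion, ← specializes_iff_mem_closure, exists_prop]
  constructor
  · rintro ⟨h, ⟨hh, c, hc, hch⟩, hht⟩
    obtain rfl : c = s := q.isEmbedding.injective (hch.trans ((huniq h ⟨hh, hht⟩).trans hs.symm))
    exact hst.mem_closed hC.1 hc
  · intro htC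
    exact ⟨g, ⟨hg, s, hst.mem_open hC.2 htC, hs⟩, hgt⟩

end Groth.Agent.Lib.FEt.NormalCover
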