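import Groth.Agent.Lib.FEt.FullyFaithful
import Groth.Agent.Lib.Depth.Local

/-!
# Depth two and connectedness of punctured spectra

Hartshorne's connectedness of the punctured spectrum in depth at least two, and the consequence
for an open subset whose complement consists of such points: its clopen subsets extend to the
whole space, and restriction of finite etale covers to it is fully faithful.
-/

universe u

open RingTheory.Sequence IsLocalRing TopologicalSpace Pointwise

namespace Groth.Agent.Lib.FEt.DepthTwo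

section Pair

variable {R : Type u} [CommRing R] {a b : R}

theorem dvd_of_dvd_mul (ha : IsSMulRegular R a) (hb : ∀ x, a ∣ b * x → a ∣ x) :
    ∀ (n : ℕ) (x : R), a ^ n ∣ b * x → a ^ n ∣ x
  | 0, x, _ => by simp
  | n + 1, x, h => by
    obtain ⟨x', rfl⟩ := hb x ((dvd_pow_self a n.succ_ne_zero).trans h)
    obtain ⟨c, hc⟩ := h
    have hc' : b * x' = a ^ n * c := ha (show a * (b * x') = a * (a ^ n * c) by linear_combination hc)
    rw [pow_succ']
    exact mul_dvd_mul_left a (dvd_of_dvd_mul ha hb n x' ⟨c, hc'⟩)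

theorem dvd_of_dvd_pow_mul (ha : IsSMulRegular R a) (hb : ∀ x, a ∣ b * x → a ∣ x) (n : ℕ) :
    ∀ (k : ℕ) (x : R), a ^ n ∣ b ^ k * x → a ^ n ∣ x
  | 0, x, h => by simpa using h
  | k + 1, x, h => dvd_of_dvd_mul ha hb n x <| dvd_of_dvd_pow_mul ha hb n k (b * x) <| by
      rwa [pow_succ, mul_assoc] at h

variable (S : Type u) [CommRing S] [Algebra R S]

theorem isClopen_preimage_of_away (c : R) [IsLocalization.Away c S] {V₁ V₂ : Set (PrimeSpectrum R)}
    (h₁ : IsOpen V₁) (h₂ : IsOpen V₂) (hd : Disjoint V₁ V₂)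
    (hc : (PrimeSpectrum.basicOpen c : Set (PrimeSpectrum R)) ⊆ V₁ ∪ V₂) :
    IsClopen (PrimeSpectrum.comap (algebraMap R S) ⁻¹' V₁) := by
  refine ⟨⟨?_⟩, h₁.preimage (PrimeSpectrum.continuous_comap _)⟩
  convert h₂.preimage (PrimeSpectrum.continuous_comap (algebraMap R S)) using 1
  ext q
  have hq : PrimeSpectrum.comap (algebraMap R S) q ∈ (PrimeSpectrum.basicOpen c : Set _) := by
    rw [← PrimeSpectrum.localization_away_comap_range S c]; exact Set.mem_range_self q
  exact ⟨fun h => (hc hq).resolve_left h, fun h h' => Set.disjoint_left.mp hd h' h⟩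

/-- An idempotent on `D(a) ∪ D(b)` for a regular pair comes from an idempotent of the ring. -/
theorem exists_idempotent_of_regular_pair (ha : IsSMulRegular R a) (hb : ∀ x, a ∣ b * x → a ∣ x)
    {V₁ V₂ : Set (PrimeSpectrum R)} (h₁ : IsOpen V₁) (h₂ : IsOpen V₂) (hd : Disjoint V₁ V₂)
    (hVa : (PrimeSpectrum.basicOpen a : Set (PrimeSpectrum R)) ⊆ V₁ ∪ V₂)
    (hVb : (PrimeSpectrum.basicOpen b : Set (PrimeSpectrum R)) ⊆ V₁ ∪ V₂) :
    ∃ z : R, IsIdempotentElem z ∧
      ∀ p : PrimeSpectrum R, a ∉ p.asIdeal → (p ∈ V₁ ↔ z ∉ p.asIdeal) := by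
  let A := Localization.Away a
  let B := Localization.Away b
  let C := Localization.Away (a * b)
  obtain ⟨e, he, hse⟩ := PrimeSpectrum.isClopen_iff.mp
    (isClopen_preimage_of_away A a h₁ h₂ hd hVa)
  obtain ⟨f, hf, hsf⟩ := PrimeSpectrum.isClopen_iff.mp
    (isClopen_preimage_of_away B b h₁ h₂ hd hVb)
  have hau : IsUnit (algebraMap R C a) :=
    isUnit_of_dvd_unit (map_dvd _ (dvd_mul_right a b)) (IsLocalization.Away.algebraMap_isUnit (a * b))
  have hbu : IsUnit (algebraMap R C b) :=
    isUnit_of_dvd_unit (map_dvd _ (dvd_mul_left b a)) (IsLocalization.Away.algebraMap_isUnit (a * b))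
  let φ : A →+* C := IsLocalization.Away.lift a hau
  let ψ : B →+* C := IsLocalization.Away.lift b hbu
  have hφ : φ.comp (algebraMap R A) = algebraMap R C := IsLocalization.Away.lift_comp a hau
  have hψ : ψ.comp (algebraMap R B) = algebraMap R C := IsLocalization.Away.lift_comp b hbu
  have hef : φ e = ψ f := PrimeSpectrum.basicOpen_injOn_isIdempotentElem (he.map φ) (hf.map ψ) (by
    refine SetLike.ext' ?_
    change PrimeSpectrum.comap φ ⁻¹' (PrimeSpectrum.basicOpen e : Set _) =
      PrimeSpectrum.comap ψ ⁻¹' (PrimeSpectrum.basicOpen f : Set _)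
    rw [← hse, ← hsf, ← Set.preimage_comp, ← Set.preimage_comp, ← PrimeSpectrum.comap_comp,
      ← PrimeSpectrum.comap_comp, hφ, hψ])
  obtain ⟨n, x, hx⟩ := IsLocalization.Away.surj a e
  obtain ⟨m, y, hy⟩ := IsLocalization.Away.surj b f
  have hx' : φ e * algebraMap R C a ^ n = algebraMap R C x := by
    have h := congrArg φ hx
    rwa [map_mul, map_pow, ← φ.comp_apply, ← φ.comp_apply, hφ] at h
  have hy' : φ e * algebraMap R C b ^ m = algebraMap R C y := by
    have h := congrArg ψ hy
    rwa [map_mul, map_pow, ← ψ.comp_apply, ← ψ.comp_apply, hψ, ← hef] at h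
  have hxy : algebraMap R C (x * b ^ m) = algebraMap R C (y * a ^ n) := by
    rw [map_mul, map_mul, map_pow, map_pow, ← hx', ← hy']; ring
  obtain ⟨k, hk⟩ := IsLocalization.Away.exists_of_eq (a * b) hxy
  have hk' : b ^ k * (x * b ^ m) = b ^ k * (y * a ^ n) :=
    (ha.pow k) (show a ^ k * (b ^ k * (x * b ^ m)) = a ^ k * (b ^ k * (y * a ^ n)) by
      linear_combination hk)
  obtain ⟨z, rfl⟩ := dvd_of_dvd_pow_mul ha hb n (k + m) x
    ⟨b ^ k * y, by rw [pow_add]; linear_combination hk'⟩
  have hze : algebraMap R A z = e := by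
    refine ((IsLocalization.Away.algebraMap_isUnit a).pow n).mul_left_injective ?_
    dsimp only
    rw [hx, map_mul, map_pow]; ring
  have hinj : Function.Injective (algebraMap R A) := IsLocalization.injective A
    (Submonoid.powers_le.mpr (mem_nonZeroDivisors_iff_right.mpr fun t ht =>
      ha (show a * t = a * 0 by rw [mul_zero, mul_comm, ht])))
  refine ⟨z, hinj (by rw [map_mul, hze]; exact he), fun p hp => ?_⟩
  obtain ⟨q, rfl⟩ : p ∈ Set.range (PrimeSpectrum.comap (algebraMap R A)) := by
    rw [PrimeSpectrum.localization_away_comap_range A a]; exact hp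
  rw [PrimeSpectrum.comap_asIdeal, Ideal.mem_comap, hze]
  exact Set.ext_iff.mp hse q

end Pair

theorem isSMulRegular_of_mem_nonZeroDivisors {R : Type u} [CommRing R] {c : R}
    (h : c ∈ nonZeroDivisors R) : IsSMulRegular R c := fun _ _ hxy =>
  mul_cancel_left_mem_nonZeroDivisors h |>.mp hxy

theorem mem_nonZeroDivisors_of_isSMulRegular {R : Type u} [CommRing R] {c : R}
    (h : IsSMulRegular R c) : c ∈ nonZeroDivisors R :=
  mem_nonZeroDivisors_iff_right.mpr fun t ht => h (show c * t = c * 0 by rw [mul_zero, mul_comm, ht])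

section Local

variable {R : Type u} [CommRing R] [IsLocalRing R] [IsNoetherianRing R]

omit [IsNoetherianRing R] in
theorem exists_regular (h : (2 : ℕ∞) ≤ LocCoh.depth R R) :
    ∃ a ∈ maximalIdeal R, IsSMulRegular R a := by
  obtain ⟨x, hx, hr, -⟩ := Depth.Basic.exists_isSMulRegular_of_succ_le
    (Depth.Basic.smul_top_ne_top (M := R) (Ideal.IsPrime.ne_top' (I := maximalIdeal R)))
    (n := 1) (by exact_mod_cast h)
  exact ⟨x, hx, hr⟩

theorem exists_regular_mod (h : (2 : ℕ∞) ≤ LocCoh.depth R R) {a : R} (ha : a ∈ maximalIdeal R)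
    (hreg : IsSMulRegular R a) : ∃ b ∈ maximalIdeal R, ∀ x, a ∣ b * x → a ∣ x := by
  have hI := Depth.Basic.smul_top_ne_top (M := R) (Ideal.IsPrime.ne_top' (I := maximalIdeal R))
  have h1 : (1 : ℕ∞) ≤ LocCoh.idealDepth (maximalIdeal R) (QuotSMulTop a R) := by
    refine (ENat.add_le_add_iff_right ENat.one_ne_top).mp ?_
    rw [Depth.SES.idealDepth_quotSMulTop (maximalIdeal R) ha hreg, one_add_one_eq_two]
    exact h
  obtain ⟨b, hb, hbreg⟩ :=
    (Depth.Basic.one_le_idealDepth_iff.mp h1).resolve_left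
      (mt (Depth.SES.smul_top_quotSMulTop_eq_top_iff ha).mp hI)
  refine ⟨b, hb, fun x hx => ?_⟩
  have hmem : ∀ t : R, t ∈ a • (⊤ : Submodule R R) ↔ a ∣ t := fun t => by
    rw [← Submodule.ideal_span_singleton_smul, smul_eq_mul, Ideal.mul_top,
      Ideal.mem_span_singleton]
  rw [← hmem, ← Submodule.Quotient.mk_eq_zero]
  refine hbreg ?_
  change b • _ = b • (0 : QuotSMulTop a R)
  rw [smul_zero, ← Submodule.Quotient.mk_smul, Submodule.Quotient.mk_eq_zero, hmem, smul_eq_mul]
  exact hx

omit [IsNoetherianRing R] in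
theorem mem_punctured_of_notMem {a : R} (ha : a ∈ maximalIdeal R) {p : PrimeSpectrum R}
    (hp : a ∉ p.asIdeal) : p.asIdeal ≠ maximalIdeal R :=
  fun e => hp (e ▸ ha)

omit [IsNoetherianRing R] in
theorem exists_notMem_of_regular {a : R} (hreg : IsSMulRegular R a) :
    ∃ p : PrimeSpectrum R, a ∉ p.asIdeal := by
  by_contra! hne
  obtain ⟨n, hn⟩ : IsNilpotent a := nilpotent_iff_mem_prime.mpr fun J hJ => hne ⟨J, hJ⟩
  exact one_ne_zero ((hreg.pow n) (show a ^ n * (1 : R) = a ^ n * 0 by rw [hn]; simp))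

theorem basicOpen_subset_left {a : R} (h : (2 : ℕ∞) ≤ LocCoh.depth R R) (ha : a ∈ maximalIdeal R)
    (hreg : IsSMulRegular R a) {V₁ V₂ : Set (PrimeSpectrum R)} (h₁ : IsOpen V₁) (h₂ : IsOpen V₂)
    (hd : Disjoint V₁ V₂) (hV : ∀ p : PrimeSpectrum R, p.asIdeal ≠ maximalIdeal R → p ∈ V₁ ∪ V₂) :
    (∀ p : PrimeSpectrum R, a ∉ p.asIdeal → p ∈ V₁) ∨
      (∀ p : PrimeSpectrum R, a ∉ p.asIdeal → p ∈ V₂) := by
  obtain ⟨b, hb, hbreg⟩ := exists_regular_mod h ha hreg
  obtain ⟨z, hz, hzp⟩ := exists_idempotent_of_regular_pair hreg hbreg h₁ h₂ hd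
    (fun p hp => hV p (mem_punctured_of_notMem ha hp))
    (fun p hp => hV p (mem_punctured_of_notMem hb hp))
  rcases IsLocalRing.isUnit_or_isUnit_one_sub_self z with hu | hu
  · left
    intro p hp
    exact (hzp p hp).mpr fun hmem => p.2.ne_top (Ideal.eq_top_of_isUnit_mem _ hmem hu)
  · right
    intro p hp
    refine (hV p (mem_punctured_of_notMem ha hp)).resolve_left fun hp1 => (hzp p hp).mp hp1 ?_
    have h0 : z = 0 := hu.mul_left_eq_zero.mp (by rw [mul_sub, mul_one, hz.eq, sub_self])
    rw [h0]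
    exact zero_mem _

/-- Hartshorne: the punctured spectrum in depth at least two is connected. -/
theorem isConnected_punctured (h : (2 : ℕ∞) ≤ LocCoh.depth R R) :
    IsConnected {p : PrimeSpectrum R | p.asIdeal ≠ maximalIdeal R} := by
  obtain ⟨a, ha, hreg⟩ := exists_regular h
  obtain ⟨p₀, hp₀⟩ := exists_notMem_of_regular hreg
  refine ⟨⟨p₀, mem_punctured_of_notMem ha hp₀⟩, ?_⟩
  intro U V hU hV hsub hsU hsV
  by_contra hint
  let W : Set (PrimeSpectrum R) := {p | p.asIdeal ≠ maximalIdeal R}
  have hWopen : IsOpen W := by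
    have : W = (PrimeSpectrum.zeroLocus (maximalIdeal R : Set R))ᶜ := by
      ext p
      exact not_congr ⟨fun e => e.ge,
        fun e => ((maximalIdeal.isMaximal R).eq_of_le p.2.ne_top e).symm⟩
    rw [this]
    exact (PrimeSpectrum.isClosed_zeroLocus _).isOpen_compl
  have hd : Disjoint (W ∩ U) (W ∩ V) :=
    Set.disjoint_left.mpr fun p hp hp' => hint ⟨p, hp.1, hp.2, hp'.2⟩
  have hcov : ∀ p : PrimeSpectrum R, p.asIdeal ≠ maximalIdeal R → p ∈ W ∩ U ∪ W ∩ V :=
    fun p hp => (hsub hp).imp (fun h => ⟨hp, h⟩) fun h => ⟨hp, h⟩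
  have key : ∀ {U V : Set (PrimeSpectrum R)}, IsOpen U → IsOpen V → Disjoint U V →
      (∀ p : PrimeSpectrum R, p.asIdeal ≠ maximalIdeal R → p ∈ U ∪ V) →
      (∀ p : PrimeSpectrum R, a ∉ p.asIdeal → p ∈ U) →
      ∀ p : PrimeSpectrum R, p.asIdeal ≠ maximalIdeal R → p ∈ V → False := by
    intro U V hU hV hd hcov hl p hp hpV
    -- every regular element of the maximal ideal vanishes at `p`
    have hall : ∀ c ∈ maximalIdeal R, IsSMulRegular R c → c ∈ p.asIdeal := by
      intro c hc hcreg
      by_contra hcp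
      rcases basicOpen_subset_left h hc hcreg hU hV hd hcov with hcU | hcV
      · exact Set.disjoint_left.mp hd (hcU p hcp) hpV
      · obtain ⟨q, hq⟩ := exists_notMem_of_regular (hreg.mul hcreg)
        exact Set.disjoint_left.mp hd (hl q fun h => hq (q.asIdeal.mul_mem_right c h))
          (hcV q fun h => hq (q.asIdeal.mul_mem_left a h))
    obtain ⟨q, hq, hle⟩ : ∃ q ∈ insert p.asIdeal (associatedPrimes R R), maximalIdeal R ≤ q := by
      refine ((Ideal.subset_union_prime_finite
        ((associatedPrimes.finite R R).insert p.asIdeal) (f := id) p.asIdeal p.asIdeal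
        fun q hq _ _ => ?_).mp fun c hc => ?_)
      · rcases hq with rfl | hq
        · exact p.2
        · exact hq.isPrime
      · rw [Set.biUnion_insert]
        by_cases hcr : IsSMulRegular R c
        · exact Or.inl (hall c hc hcr)
        · refine Or.inr ?_
          simp only [id, biUnion_associatedPrimes_eq_compl_nonZeroDivisors R]
          exact fun hnzd => hcr (isSMulRegular_of_mem_nonZeroDivisors hnzd)
    rcases hq with rfl | hq
    · exact hp ((maximalIdeal.isMaximal R).eq_of_le p.2.ne_top hle).symm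
    · have hmem : a ∈ ⋃ q ∈ associatedPrimes R R, (q : Set R) := Set.mem_biUnion hq (hle ha)
      rw [biUnion_associatedPrimes_eq_compl_nonZeroDivisors R] at hmem
      exact hmem (mem_nonZeroDivisors_of_isSMulRegular hreg)
  obtain ⟨p₁, hp₁, hp₁U⟩ := hsU
  obtain ⟨p₂, hp₂, hp₂V⟩ := hsV
  rcases basicOpen_subset_left h ha hreg (hWopen.inter hU) (hWopen.inter hV) hd hcov with hl | hl
  · exact key (hWopen.inter hU) (hWopen.inter hV) hd hcov hl p₂ hp₂ ⟨hp₂, hp₂V⟩
  · exact key (hWopen.inter hV) (hWopen.inter hU) hd.symm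
      (fun p hp => (hcov p hp).symm) hl p₁ hp₁ ⟨hp₁, hp₁U⟩

end Local

theorem depth_eq_of_ringEquiv {R S : Type u} [CommRing R] [CommRing S] [IsLocalRing R] [IsLocalRing S]
    (e : R ≃+* S) : LocCoh.depth R R = LocCoh.depth S S := by
  let : Algebra R S := e.toRingHom.toAlgebra
  exact (Depth.Basic.depth_congr
      { e with map_smul' := fun r x => by simp [Algebra.smul_def]; rfl }).trans
    (Depth.Basic.depth_eq_of_surjective (M := S)
      (show Function.Surjective (algebraMap R S) from e.surjective))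

section Topology

variable {X : Type u} [TopologicalSpace X]

/-- Every point has an open neighbourhood which is a Noetherian space. -/
def LocNoetherian (X : Type u) [TopologicalSpace X] : Prop :=
  ∀ x : X, ∃ V : Set X, IsOpen V ∧ x ∈ V ∧ NoetherianSpace V

variable [QuasiSober X]

theorem exists_specializes_of_mem_closure (hX : LocNoetherian X) {C : Set X} (hC : IsOpen C)
    {z : X} (hz : z ∈ closure C) : ∃ η ∈ C, η ⤳ z := by
  obtain ⟨V, hV, hzV, hN⟩ := hX z
  have hfin : (irreducibleComponents V).Finite := NoetherianSpace.finite_irreducibleComponents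
  have hsub : C ∩ V ⊆ ⋃ T ∈ irreducibleComponents V, C ∩ (Subtype.val '' T) := by
    rintro x ⟨hxC, hxV⟩
    exact Set.mem_biUnion (irreducibleComponent_mem_irreducibleComponents (⟨x, hxV⟩ : V))
      ⟨hxC, ⟨x, hxV⟩, mem_irreducibleComponent, rfl⟩
  have hzcl : z ∈ closure (C ∩ V) := by
    rw [Set.inter_comm]
    exact hV.inter_closure ⟨hzV, hz⟩
  have := closure_mono hsub hzcl
  rw [hfin.closure_biUnion] at this
  obtain ⟨T, hT, hzT⟩ := Set.mem_iUnion₂.mp this
  have hTirr : IsIrreducible (Subtype.val '' T) :=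
    hT.1.image _ continuous_subtype_val.continuousOn
  obtain ⟨t, htC, htT⟩ : (C ∩ (Subtype.val '' T)).Nonempty := by
    by_contra hne
    rw [Set.not_nonempty_iff_eq_empty] at hne
    rw [hne, closure_empty] at hzT
    exact hzT
  have hgen := hTirr.isGenericPoint_genericPoint_closure
  exact ⟨hTirr.genericPoint, (hgen.specializes (subset_closure htT)).mem_open hC htC,
    hgen.specializes (closure_mono Set.inter_subset_right hzT)⟩

variable [T0Space X]

omit [QuasiSober X] in
theorem eq_of_specializes_of_specializes {x y : X} (h : x ⤳ y) (h' : y ⤳ x) : x = y :=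
  (h.antisymm h').eq

/-- A nonempty closed subset has a point with no proper generalization inside it. -/
theorem exists_maximal_mem {Z : Set X} (hZ : IsClosed Z) {z : X} (hz : z ∈ Z) :
    ∃ η ∈ Z, η ⤳ z ∧ ∀ y ∈ Z, y ⤳ η → y = η := by
  have : QuasiSober Z := hZ.isClosedEmbedding_subtypeVal.quasiSober
  have hirr : IsIrreducible (irreducibleComponent (⟨z, hz⟩ : Z)) := isIrreducible_irreducibleComponent
  have hgen : IsGenericPoint hirr.genericPoint (irreducibleComponent (⟨z, hz⟩ : Z)) := by
    have := hirr.isGenericPoint_genericPoint_closure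
    rwa [isClosed_irreducibleComponent.closure_eq] at this
  refine ⟨hirr.genericPoint.1, hirr.genericPoint.2,
    (hgen.specializes mem_irreducibleComponent).map continuous_subtype_val, fun y hy hyη => ?_⟩
  have hle : irreducibleComponent (⟨z, hz⟩ : Z) ⊆ closure {(⟨y, hy⟩ : Z)} := by
    rw [← hgen.def]
    exact specializes_iff_closure_subset.mp ((subtype_specializes_iff (⟨y, hy⟩ : Z) _).mpr hyη)
  have heq := (irreducibleComponent_mem_irreducibleComponents (⟨z, hz⟩ : Z)).2
    (⟨isIrreducible_singleton.closure.1, isIrreducible_singleton.closure.2⟩ :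
      IsIrreducible (closure {(⟨y, hy⟩ : Z)})) hle
  exact congrArg Subtype.val ((show IsGenericPoint (⟨y, hy⟩ : Z) _ from
    (le_antisymm heq hle : closure {(⟨y, hy⟩ : Z)} = irreducibleComponent (⟨z, hz⟩ : Z))).eq hgen)

variable {U : Set X} (hU : IsOpen U)
  (hpunct : ∀ x ∉ U, IsConnected {y | y ⤳ x ∧ y ≠ x})

include hpunct in
theorem exists_mem_specializes (x : X) : ∃ η ∈ U, η ⤳ x := by
  obtain ⟨η, -, hηx, hmax⟩ := exists_maximal_mem isClosed_univ (Set.mem_univ x)
  refine ⟨η, by_contra fun h => ?_, hηx⟩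
  obtain ⟨y, hy, hne⟩ := (hpunct η h).nonempty
  exact hne (hmax y trivial hy)

include hpunct in
theorem closure_eq_univ : closure U = Set.univ :=
  Set.eq_univ_of_forall fun x =>
    let ⟨_, hη, hηx⟩ := exists_mem_specializes hpunct x
    hηx.mem_closed isClosed_closure (subset_closure hη)

include hpunct in
/-- Clopen subsets of `U` extend to clopen subsets of the whole space. -/
theorem exists_isClopen_inter (hX : LocNoetherian X) {C : Set X} (hCU : C ⊆ U) (hC : IsOpen C)
    (hC' : IsOpen (U \ C)) : ∃ D, IsClopen D ∧ D ∩ U = C := by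
  have hdisj : closure C ∩ closure (U \ C) = ∅ := by
    by_contra hne
    obtain ⟨z, hz⟩ := Set.nonempty_iff_ne_empty.mpr hne
    obtain ⟨η, hη, -, hmax⟩ := exists_maximal_mem (isClosed_closure.inter isClosed_closure) hz
    have hηU : η ∉ U := by
      intro h
      by_cases hc : η ∈ C
      · obtain ⟨y, hy, hy'⟩ := mem_closure_iff.mp hη.2 C hC hc
        exact hy'.2 hy
      · obtain ⟨y, hy, hy'⟩ := mem_closure_iff.mp hη.1 (U \ C) hC' ⟨h, hc⟩
        exact hy.2 hy'
    obtain ⟨a, ha, haη⟩ := exists_specializes_of_mem_closure hX hC hη.1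
    obtain ⟨b, hb, hbη⟩ := exists_specializes_of_mem_closure hX hC' hη.2
    have hnot : ∀ {A B : Set X} {t : X}, IsOpen A → Disjoint A B → t ∈ A → t ∉ closure B :=
      fun hA hd ht hcl => Set.disjoint_left.mp (hd.closure_right hA) ht hcl
    obtain ⟨y, hy, hyu, hyv⟩ := (hpunct η hηU).isPreconnected (closure (U \ C))ᶜ (closure C)ᶜ
      isClosed_closure.isOpen_compl isClosed_closure.isOpen_compl
      (fun y hy => by
        by_contra hh
        rw [← Set.compl_inter, Set.notMem_compl_iff] at hh
        exact hy.2 (hmax y ⟨hh.2, hh.1⟩ hy.1))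
      ⟨a, ⟨haη, fun h => hηU (h ▸ hCU ha)⟩, hnot hC disjoint_sdiff_self_right ha⟩
      ⟨b, ⟨hbη, fun h => hηU (h ▸ hb.1)⟩, hnot hC' disjoint_sdiff_self_left hb⟩
    have : y ∈ closure (C ∪ U \ C) := by
      rw [Set.union_sdiff_cancel hCU, closure_eq_univ hpunct]; trivial
    rw [closure_union] at this
    exact this.elim hyv hyu
  have hcompl : (closure C)ᶜ = closure (U \ C) := by
    ext x
    refine ⟨fun hx => ?_, fun hx hx' => (hdisj ▸ Set.notMem_empty x) ⟨hx', hx⟩⟩
    have : x ∈ closure (C ∪ U \ C) := by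
      rw [Set.union_sdiff_cancel hCU, closure_eq_univ hpunct]; trivial
    rw [closure_union] at this
    exact this.resolve_left hx
  refine ⟨closure C, ⟨isClosed_closure, ?_⟩, ?_⟩
  · rw [← isClosed_compl_iff, hcompl]
    exact isClosed_closure
  · refine Set.Subset.antisymm (fun x hx => by_contra fun hc => ?_)
      (Set.subset_inter subset_closure hCU)
    exact (hcompl.ge (subset_closure ⟨hx.2, hc⟩)) hx.1

include hU hpunct in
theorem isPreconnected_of_preconnectedSpace (hX : LocNoetherian X) [PreconnectedSpace X] :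
    IsPreconnected U := by
  intro A B hA hB hsub ⟨a, haU, haA⟩ ⟨b, hbU, hbB⟩
  by_contra hne
  have hdiff : U \ (U ∩ A) = U ∩ B := Set.ext fun x =>
    ⟨fun hx => ⟨hx.1, (hsub hx.1).resolve_left fun h => hx.2 ⟨hx.1, h⟩⟩,
      fun hx => ⟨hx.1, fun h => hne ⟨x, hx.1, h.2, hx.2⟩⟩⟩
  obtain ⟨D, hD, hDU⟩ := exists_isClopen_inter hpunct hX (C := U ∩ A) Set.inter_subset_left
    (hU.inter hA) (hdiff ▸ hU.inter hB)
  have haD : a ∈ D := (hDU.ge ⟨haU, haA⟩).1
  exact hne ⟨b, hbU, (hDU.le ⟨hD.eq_univ ⟨a, haD⟩ ▸ trivial, hbU⟩).2, hbB⟩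

omit [QuasiSober X] [T0Space X] in
theorem isOpen_connectedComponent_of_locNoetherian (hX : LocNoetherian X) (x : X) :
    IsOpen (connectedComponent x) := by
  refine isOpen_iff_forall_mem_open.mpr fun y hy => ?_
  rw [connectedComponent_eq hy]
  obtain ⟨V, hV, hyV, hN⟩ := hX y
  have hfin : (irreducibleComponents V).Finite := NoetherianSpace.finite_irreducibleComponents
  let Z : Set V := ⋃ T ∈ {T ∈ irreducibleComponents V | (⟨y, hyV⟩ : V) ∉ T}, T
  have hZ : IsClosed Z := (hfin.subset fun T hT => hT.1).isClosed_biUnion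
    fun T hT => isClosed_of_mem_irreducibleComponents T hT.1
  refine ⟨Subtype.val '' Zᶜ, ?_, hV.isOpenEmbedding_subtypeVal.isOpenMap _ hZ.isOpen_compl,
    ⟨⟨y, hyV⟩, fun h => ?_, rfl⟩⟩
  · rintro _ ⟨w, hw, rfl⟩
    have hyT : (⟨y, hyV⟩ : V) ∈ irreducibleComponent w := by_contra fun h =>
      hw (Set.mem_biUnion ⟨irreducibleComponent_mem_irreducibleComponents w, h⟩ mem_irreducibleComponent)
    exact (isIrreducible_irreducibleComponent.image _
      continuous_subtype_val.continuousOn).isConnected.isPreconnected.subset_connectedComponent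
        ⟨_, hyT, rfl⟩ ⟨w, mem_irreducibleComponent, rfl⟩
  · obtain ⟨T, hT, hyT⟩ := Set.mem_iUnion₂.mp h
    exact hT.2 hyT

omit [QuasiSober X] [T0Space X] in
theorem LocNoetherian.subtype (hX : LocNoetherian X) (U : Set X) :
    LocNoetherian U := by
  intro x
  obtain ⟨V, hV, hxV, hN⟩ := hX x.1
  refine ⟨Subtype.val ⁻¹' V, hV.preimage continuous_subtype_val, hxV, ?_⟩
  have : NoetherianSpace (V : Set X) := hN
  let f : ((Subtype.val ⁻¹' V : Set U)) → (V : Set X) := fun w => ⟨w.1.1, w.2⟩
  have hf : Continuous f :=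
    (continuous_subtype_val.comp continuous_subtype_val).subtype_mk _
  have h2 : Topology.IsInducing (fun w : (Subtype.val ⁻¹' V : Set U) => (w.1 : X)) :=
    Topology.IsInducing.subtypeVal.comp Topology.IsInducing.subtypeVal
  have hind : Topology.IsInducing f := Topology.IsInducing.of_comp hf continuous_subtype_val h2
  exact hind.noetherianSpace

include hU hpunct in
theorem connectedComponentsMap_bijective (hX : LocNoetherian X) :
    Function.Bijective
      (Continuous.connectedComponentsMap (continuous_subtype_val : Continuous (fun x : U => (x : X)))) := by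
  have : QuasiSober U := hU.isOpenEmbedding_subtypeVal.quasiSober
  constructor
  · intro c d
    obtain ⟨a, rfl⟩ := ConnectedComponents.surjective_coe c
    obtain ⟨b, rfl⟩ := ConnectedComponents.surjective_coe d
    intro h
    have h' : connectedComponent (a : X) = connectedComponent (b : X) :=
      ConnectedComponents.coe_eq_coe.mp h
    have hCo := isOpen_connectedComponent_of_locNoetherian (hX.subtype U) a
    have hemb := hU.isOpenEmbedding_subtypeVal
    obtain ⟨D, hD, hDU⟩ := exists_isClopen_inter hpunct hX (C := Subtype.val '' connectedComponent a)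
      (Subtype.coe_image_subset _ _) (hemb.isOpenMap _ hCo) (by
        convert hemb.isOpenMap _ (isOpen_univ.sdiff (isClosed_connectedComponent (x := a))) using 1
        rw [Set.image_sdiff Subtype.val_injective, Set.image_univ, Subtype.range_coe])
    have haD : (a : X) ∈ D := (hDU.ge ⟨a, mem_connectedComponent, rfl⟩).1
    have hbD : (b : X) ∈ D := hD.connectedComponent_subset haD (h' ▸ mem_connectedComponent)
    obtain ⟨w, hw, hwb⟩ := hDU.le ⟨hbD, b.2⟩
    exact ConnectedComponents.coe_eq_coe'.mpr (Subtype.val_injective hwb ▸ hw) |>.symm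
  · intro c
    obtain ⟨x, rfl⟩ := ConnectedComponents.surjective_coe c
    obtain ⟨η, hη, hηx⟩ := exists_mem_specializes hpunct x
    refine ⟨ConnectedComponents.mk ⟨η, hη⟩, ConnectedComponents.coe_eq_coe'.mpr ?_⟩
    exact (isIrreducible_singleton.closure.isConnected.isPreconnected.subset_connectedComponent
      (specializes_iff_mem_closure.mp hηx)) (subset_closure rfl)

end Topology

section Spec

variable {A : Type u} [CommRing A] [IsNoetherianRing A]

theorem locNoetherian_primeSpectrum : LocNoetherian (PrimeSpectrum A) := fun _ =>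
  ⟨Set.univ, isOpen_univ, trivial, inferInstance⟩

theorem isConnected_generalizations (p : PrimeSpectrum A)
    (h : (2 : ℕ∞) ≤ LocCoh.depth (Localization.AtPrime p.asIdeal) (Localization.AtPrime p.asIdeal)) :
    IsConnected {q | q ⤳ p ∧ q ≠ p} := by
  let S := Localization.AtPrime p.asIdeal
  have hinj : Function.Injective (PrimeSpectrum.comap (algebraMap A S)) :=
    (PrimeSpectrum.localization_comap_isEmbedding S p.asIdeal.primeCompl).injective
  have hclosed : PrimeSpectrum.comap (algebraMap A S) (IsLocalRing.closedPoint S) = p :=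
    PrimeSpectrum.ext (IsLocalization.AtPrime.under_maximalIdeal S p.asIdeal)
  have heq : {q | q ⤳ p ∧ q ≠ p} = PrimeSpectrum.comap (algebraMap A S) ''
      {r | r.asIdeal ≠ maximalIdeal S} := by
    ext q
    constructor
    · rintro ⟨hq, hne⟩
      obtain ⟨r, rfl⟩ : q ∈ Set.range (PrimeSpectrum.comap (algebraMap A S)) := by
        rw [PrimeSpectrum.localization_comap_range S p.asIdeal.primeCompl]
        exact Set.disjoint_left.mpr fun a ha ha' => ha ((PrimeSpectrum.le_iff_specializes q p).mpr hq ha')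
      exact ⟨r, fun e => hne (by rw [show r = IsLocalRing.closedPoint S from PrimeSpectrum.ext e, hclosed]), rfl⟩
    · rintro ⟨r, hr, rfl⟩
      refine ⟨?_, fun e => hr ?_⟩
      · have := (IsLocalRing.specializes_closedPoint r).map
          (PrimeSpectrum.continuous_comap (algebraMap A S))
        rwa [hclosed] at this
      · rw [hinj (e.trans hclosed.symm)]
        rfl
  rw [heq]
  exact (isConnected_punctured h).image _ (PrimeSpectrum.continuous_comap _).continuousOn

end Spec

section Scheme

open CategoryTheory CategoryTheory.Limits AlgebraicGeometry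

variable {X : Scheme.{u}} [IsLocallyNoetherian X]

theorem locNoetherian_scheme : LocNoetherian X := fun x => by
  obtain ⟨V, hV, hxV, -⟩ := exists_isAffineOpen_mem_and_subset (x := x) (U := ⊤) trivial
  have : IsNoetherianRing Γ(X, V) := IsLocallyNoetherian.component_noetherian ⟨V, hV⟩
  exact ⟨V, V.2, hxV, noetherianSpace_of_isAffineOpen V hV⟩

theorem isConnected_generalizations_scheme (x : X)
    (h : (2 : ℕ∞) ≤ LocCoh.depth (X.presheaf.stalk x) (X.presheaf.stalk x)) :
    _root_.IsConnected {y | y ⤳ x ∧ y ≠ x} := by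
  have hinj : Function.Injective (X.fromSpecStalk x) :=
    (X.fromSpecStalk x).isEmbedding.injective
  have heq : {y | y ⤳ x ∧ y ≠ x} = (X.fromSpecStalk x) ''
      {r : PrimeSpectrum (X.presheaf.stalk x) | r.asIdeal ≠ maximalIdeal _} := by
    ext y
    constructor
    · rintro ⟨hy, hne⟩
      obtain ⟨r, rfl⟩ : y ∈ Set.range (X.fromSpecStalk x) := by
        rw [Scheme.range_fromSpecStalk]; exact hy
      exact ⟨r, fun e => hne (by
        rw [show r = IsLocalRing.closedPoint (X.presheaf.stalk x) from PrimeSpectrum.ext e,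
          Scheme.fromSpecStalk_closedPoint]), rfl⟩
    · rintro ⟨r, hr, rfl⟩
      refine ⟨?_, fun e => hr ?_⟩
      · exact Scheme.range_fromSpecStalk.le (Set.mem_range_self r)
      · rw [hinj (e.trans Scheme.fromSpecStalk_closedPoint.symm)]
        rfl
  rw [heq]
  exact (isConnected_punctured h).image _ (X.fromSpecStalk x).continuous.continuousOn

omit [IsLocallyNoetherian X] in
/-- Depth at least two ascends along flat morphisms. -/
theorem two_le_depth_of_flat {W : Scheme.{u}} [IsLocallyNoetherian W] (f : W ⟶ X) [Flat f] (w : W)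
    (h : (2 : ℕ∞) ≤ LocCoh.depth (X.presheaf.stalk (f.base w)) (X.presheaf.stalk (f.base w))) :
    (2 : ℕ∞) ≤ LocCoh.depth (W.presheaf.stalk w) (W.presheaf.stalk w) := by
  let A := X.presheaf.stalk (f.base w)
  let B := W.presheaf.stalk w
  let : Algebra A B := (f.stalkMap w).hom.toAlgebra
  have : Module.Flat A B := Flat.stalkMap f w
  have hloc : IsLocalHom (algebraMap A B) := inferInstanceAs (IsLocalHom (f.stalkMap w).hom)
  refine h.trans ((Depth.Local.idealDepth_le_baseChange (B := B) (M := A)
    (I := maximalIdeal A)).trans ?_)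
  rw [Depth.Basic.idealDepth_congr _ (TensorProduct.AlgebraTensorModule.rid A B B)]
  exact Depth.Basic.idealDepth_mono (((IsLocalRing.local_hom_TFAE (algebraMap A B)).out 0 2).mp hloc)
    (Depth.Basic.smul_top_ne_top (M := B) (Ideal.IsPrime.ne_top' (I := maximalIdeal B)))

theorem exists_isClopen_preimage {W : Scheme.{u}} (f : W ⟶ X) [Flat f] [LocallyOfFiniteType f]
    (U : X.Opens)
    (h : ∀ x : X, x ∉ U → (2 : ℕ∞) ≤ LocCoh.depth (X.presheaf.stalk x) (X.presheaf.stalk x))
    {C : Set (pullback f U.ι : Scheme.{u})} (hC : IsClopen C) :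
    ∃ D : Set W, IsClopen D ∧ (pullback.fst f U.ι).base ⁻¹' D = C := by
  have : IsLocallyNoetherian W := LocallyOfFiniteType.isLocallyNoetherian f
  let j := pullback.fst f U.ι
  have hrange : Set.range j.base = f.base ⁻¹' (U : Set X) := by
    change Set.range ⇑(pullback.fst f U.ι) = _
    rw [IsOpenImmersion.range_pullbackFst, Scheme.Opens.opensRange_ι]
    rfl
  have hopen : ∀ T : Set (pullback f U.ι : Scheme.{u}), IsOpen T → IsOpen (j.base '' T) :=
    fun T hT => j.isOpenEmbedding.isOpenMap T hT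
  obtain ⟨D, hD, hDC⟩ := exists_isClopen_inter (U := f.base ⁻¹' (U : Set X))
    (fun w hw => isConnected_generalizations_scheme w (two_le_depth_of_flat f w (h _ hw)))
    locNoetherian_scheme (C := j.base '' C) (hrange ▸ Set.image_subset_range _ _)
    (hopen C hC.isOpen) (by
      rw [← hrange, ← Set.image_univ, ← Set.image_sdiff j.isOpenEmbedding.injective]
      exact hopen _ (isOpen_univ.sdiff hC.isClosed))
  refine ⟨D, hD, ?_⟩
  rw [← Set.preimage_image_eq C j.isOpenEmbedding.injective, ← hDC, ← hrange,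
    Set.preimage_inter, Set.preimage_range, Set.inter_univ]

/-- Restriction of finite etale covers to an open subscheme whose complement consists of points of
depth at least two is fully faithful. -/
theorem restrict_full_and_faithful (U : X.Opens)
    (h : ∀ x : X, x ∉ U → (2 : ℕ∞) ≤ LocCoh.depth (X.presheaf.stalk x) (X.presheaf.stalk x)) :
    (FEt.restrict U.ι).Full ∧ (FEt.restrict U.ι).Faithful := by
  have hdense : Dense (U : Set X) := dense_iff_closure_eq.mpr <|
    closure_eq_univ fun x hx => isConnected_generalizations_scheme x (h x hx)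
  refine FullyFaithful.full_and_faithful U.ι (fun s hs hne => ?_) fun W C hC => ?_
  · rw [Scheme.Opens.range_ι]
    obtain ⟨x, hx, hxU⟩ := hdense.inter_open_nonempty s hs.isOpen hne
    exact ⟨x, hx, hxU⟩
  · have : IsFinite W.hom := W.prop.1
    have : Etale W.hom := W.prop.2
    exact exists_isClopen_preimage (X := X) W.hom U h hC

theorem depth_stalk_closedPoint {A : Type u} [CommRing A] [IsLocalRing A]
    (x : Spec (CommRingCat.of A)) (hx : (x : PrimeSpectrum A).asIdeal = maximalIdeal A) :
    LocCoh.depth ((Spec (CommRingCat.of A)).presheaf.stalk x)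
      ((Spec (CommRingCat.of A)).presheaf.stalk x) = LocCoh.depth A A := by
  have hp : (PrimeSpectrum.asIdeal (R := A) x).IsPrime := PrimeSpectrum.isPrime x
  have hu : ∀ y ∈ (PrimeSpectrum.asIdeal (R := A) x).primeCompl, IsUnit y :=
    fun y hy => IsLocalRing.notMem_maximalIdeal.mp (hx ▸ hy)
  exact depth_eq_of_ringEquiv
    ((Spec.stalkIso (CommRingCat.of A) x).commRingCatIsoToRingEquiv.trans
      (IsLocalization.atUnits A _ hu
        (S := Localization.AtPrime (PrimeSpectrum.asIdeal (R := A) x))).toRingEquiv.symm)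

end Scheme

end Groth.Agent.Lib.FEt.DepthTwo
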