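import Groth.Agent.Lib.FEt.DepthTwo

/-!
# Sections over opens containing the basic opens of a regular pair
-/

universe u

open CategoryTheory AlgebraicGeometry Opposite Pointwise

namespace Groth.Agent.Lib.FEt.DepthTwo

theorem isIso_restriction_of_regular_pair (X : Scheme.{u}) [IsAffine X] (V : X.Opens) (a b : Γ(X, ⊤))
    (ha : IsSMulRegular Γ(X, ⊤) a) (hb : ∀ x, a ∣ b * x → a ∣ x)
    (hVa : X.basicOpen a ≤ V) (hVb : X.basicOpen b ≤ V) :
    IsIso (X.presheaf.map (homOfLE (le_top : V ≤ ⊤)).op) := by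
  let r : ∀ {U W : X.Opens}, U ≤ W → Γ(X, W) → Γ(X, U) :=
    fun h => (X.presheaf.map (homOfLE h).op).hom
  have hrr : ∀ {U W T : X.Opens} (h : U ≤ W) (h' : W ≤ T) (t : Γ(X, T)),
      r h (r h' t) = r (h.trans h') t := fun h h' t => by
    change (X.presheaf.map _).hom ((X.presheaf.map _).hom t) = _
    rw [← CommRingCat.comp_apply, ← X.presheaf.map_comp]
    rfl
  have hrm : ∀ {U W : X.Opens} (h : U ≤ W) (s t : Γ(X, W)), r h (s * t) = r h s * r h t :=
    fun h s t => map_mul _ s t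
  have hrp : ∀ {U W : X.Opens} (h : U ≤ W) (s : Γ(X, W)) (n : ℕ), r h (s ^ n) = r h s ^ n :=
    fun h s n => map_pow _ s n
  have hloc := fun f : Γ(X, ⊤) => (isAffineOpen_top X).isLocalization_basicOpen f
  have hsurj : ∀ (f : Γ(X, ⊤)) (t : Γ(X, X.basicOpen f)),
      ∃ (n : ℕ) (x : Γ(X, ⊤)), t * r le_top f ^ n = r le_top x := by
    intro f t
    have := hloc f
    obtain ⟨n, x, hx⟩ := IsLocalization.Away.surj f t
    exact ⟨n, x, hx⟩
  have hzero : ∀ (f x : Γ(X, ⊤)), r (le_top : X.basicOpen f ≤ ⊤) x = 0 → ∃ k, f ^ k * x = 0 := by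
    intro f x hx
    have := hloc f
    obtain ⟨k, hk⟩ := IsLocalization.Away.exists_of_eq (S := Γ(X, X.basicOpen f)) f (a := x) (b := 0)
      (show r le_top x = r le_top 0 by rw [hx]; exact (map_zero _).symm)
    exact ⟨k, by simpa using hk⟩
  have hunit : ∀ f : Γ(X, ⊤), IsUnit (r (le_top : X.basicOpen f ≤ ⊤) f) := fun f => by
    have := hloc f
    exact IsLocalization.Away.algebraMap_isUnit (S := Γ(X, X.basicOpen f)) f
  have hle : ∀ f g : Γ(X, ⊤), X.basicOpen (f * g) ≤ X.basicOpen f ⊓ X.basicOpen g :=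
    fun f g => (X.basicOpen_mul f g).le
  rw [ConcreteCategory.isIso_iff_bijective]
  refine ⟨(injective_iff_map_eq_zero _).mpr fun z hz => ?_, fun s => ?_⟩
  · obtain ⟨k, hk⟩ := hzero a z (by
      rw [← hrr hVa le_top z, show r (le_top : V ≤ ⊤) z = 0 from hz]; exact map_zero _)
    exact (ha.pow k) (show a ^ k * z = a ^ k * 0 by rw [hk, mul_zero])
  · obtain ⟨n, x, hx⟩ := hsurj a (r hVa s)
    obtain ⟨m, y, hy⟩ := hsurj b (r hVb s)
    let w := a * b
    have hwa : X.basicOpen w ≤ X.basicOpen a := (hle a b).trans inf_le_left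
    have hwb : X.basicOpen w ≤ X.basicOpen b := (hle a b).trans inf_le_right
    have hx' : r (hwa.trans hVa) s * r le_top a ^ n = r le_top x := by
      have := congrArg (r hwa) hx
      rwa [hrm, hrp, hrr, hrr, hrr] at this
    have hy' : r (hwb.trans hVb) s * r le_top b ^ m = r le_top y := by
      have := congrArg (r hwb) hy
      rwa [hrm, hrp, hrr, hrr, hrr] at this
    obtain ⟨k, hk⟩ := hzero w (x * b ^ m - y * a ^ n) (by
      rw [show r (le_top : X.basicOpen w ≤ ⊤) (x * b ^ m - y * a ^ n) =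
        r le_top x * r le_top b ^ m - r le_top y * r le_top a ^ n by
          rw [← hrp, ← hrp, ← hrm, ← hrm]; exact map_sub _ _ _, ← hx', ← hy']
      ring)
    have hk' : b ^ k * (x * b ^ m - y * a ^ n) = 0 :=
      (ha.pow k) (show a ^ k * _ = a ^ k * 0 by rw [mul_zero]; linear_combination hk)
    obtain ⟨z, rfl⟩ := dvd_of_dvd_pow_mul ha hb n (k + m) x
      ⟨b ^ k * y, by rw [pow_add]; linear_combination hk'⟩
    refine ⟨z, ?_⟩
    have hza : r (le_top : X.basicOpen a ≤ ⊤) z = r hVa s := by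
      refine ((hunit a).pow n).mul_left_injective ?_
      dsimp only
      rw [hx, hrm, hrp, mul_comm]
    -- the difference vanishes on a basis of opens inside `V`
    refine TopCat.Sheaf.eq_of_locally_eq' X.sheaf
      (fun c : {c : Γ(X, ⊤) // X.basicOpen c ≤ V} => X.basicOpen c.1) V (fun c => homOfLE c.2)
      (fun p hp => ?_) _ _ fun c => ?_
    · obtain ⟨_, ⟨_, ⟨c, rfl⟩, rfl⟩, hpc, hc⟩ :=
        (isBasis_basicOpen X).exists_subset_of_mem_open (a := p) hp V.2
      exact TopologicalSpace.Opens.mem_iSup.mpr ⟨⟨c, hc⟩, hpc⟩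
    · obtain ⟨c, hc⟩ := c
      change r hc (r le_top z) = r hc s
      rw [← sub_eq_zero, hrr]
      obtain ⟨j, t, ht⟩ := hsurj c (r (le_top : X.basicOpen c ≤ ⊤) z - r hc s)
      have hca : X.basicOpen (a * c) ≤ X.basicOpen a := (hle a c).trans inf_le_left
      have hcc : X.basicOpen (a * c) ≤ X.basicOpen c := (hle a c).trans inf_le_right
      obtain ⟨i, hi⟩ := hzero (a * c) t (by
        have := congrArg (r hcc) ht
        rw [hrm, hrr, show r hcc (r (le_top : X.basicOpen c ≤ ⊤) z - r hc s) =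
          r hcc (r le_top z) - r hcc (r hc s) from map_sub _ _ _, hrr, hrr] at this
        rw [← this, ← hrr hca le_top z, hza, hrr, sub_self, zero_mul])
      have hi' : c ^ i * t = 0 :=
        (ha.pow i) (show a ^ i * _ = a ^ i * 0 by rw [mul_zero]; linear_combination hi)
      have ht0 : r (le_top : X.basicOpen c ≤ ⊤) t = 0 :=
        ((hunit c).pow i).mul_right_eq_zero.mp (by
          rw [← hrp, ← hrm, hi']; exact map_zero _)
      exact ((hunit c).pow j).mul_left_eq_zero.mp (ht.trans ht0)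

end Groth.Agent.Lib.FEt.DepthTwo

open CategoryTheory.Limits RingTheory.Sequence

namespace Groth.Agent.Lib.FEt.DepthTwo

theorem isIso_restriction_punctured {A : Type u} [CommRing A] [IsNoetherianRing A] [IsLocalRing A]
    (hA : (2 : ℕ∞) ≤ LocCoh.depth A A) {Y : Scheme.{u}} [IsAffine Y]
    (g : Y ⟶ Spec (CommRingCat.of A)) [Flat g] :
    IsIso (Y.presheaf.map (homOfLE (le_top : g ⁻¹ᵁ FEt.puncturedSpec A ≤ ⊤)).op) := by
  obtain ⟨a₀, ha₀, hreg⟩ := exists_regular hA
  obtain ⟨b₀, hb₀, hbreg⟩ := exists_regular_mod hA ha₀ hreg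
  let φ : A →+* Γ(Y, ⊤) := ((Scheme.ΓSpecIso (CommRingCat.of A)).inv ≫ g.appTop).hom
  have hflat : φ.Flat := by
    have h1 : g.appTop.hom.Flat := HasRingHomProperty.appTop (P := @Flat) g inferInstance
    exact RingHom.Flat.comp (RingHom.Flat.of_bijective
      (ConcreteCategory.bijective_of_isIso (Scheme.ΓSpecIso (CommRingCat.of A)).inv)) h1
  let : Algebra A Γ(Y, ⊤) := φ.toAlgebra
  have : Module.Flat A Γ(Y, ⊤) := hflat
  have hw : IsWeaklyRegular A [a₀, b₀] := by
    rw [isWeaklyRegular_cons_iff, isWeaklyRegular_singleton_iff]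
    refine ⟨hreg, ?_⟩
    intro x y hxy
    obtain ⟨x, rfl⟩ := Submodule.mkQ_surjective _ x
    obtain ⟨y, rfl⟩ := Submodule.mkQ_surjective _ y
    have hmem : ∀ t : A, t ∈ a₀ • (⊤ : Submodule A A) ↔ a₀ ∣ t := fun t => by
      rw [← Submodule.ideal_span_singleton_smul, smul_eq_mul, Ideal.mul_top,
        Ideal.mem_span_singleton]
    simp only [Submodule.mkQ_apply, ← Submodule.Quotient.mk_smul, Submodule.Quotient.eq, hmem,
      smul_eq_mul, ← mul_sub] at hxy ⊢
    exact hbreg _ hxy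
  have hw' := hw.of_flat_of_isBaseChange (IsBaseChange.linearMap A Γ(Y, ⊤))
  simp only [List.map_cons, List.map_nil, isWeaklyRegular_cons_iff, IsWeaklyRegular.nil] at hw'
  have hmap : ∀ c ∈ IsLocalRing.maximalIdeal A, Y.basicOpen (φ c) ≤ g ⁻¹ᵁ FEt.puncturedSpec A := by
    intro c hc q hq
    have h1 : g.base q ∈ (Spec (CommRingCat.of A)).basicOpen
        ((Scheme.ΓSpecIso (CommRingCat.of A)).inv.hom c) := by
      have h2 : q ∈ g ⁻¹ᵁ (Spec (CommRingCat.of A)).basicOpen
          ((Scheme.ΓSpecIso (CommRingCat.of A)).inv.hom c) := by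
        rw [Scheme.preimage_basicOpen]; exact hq
      exact h2
    rw [basicOpen_eq_of_affine (R := CommRingCat.of A) c] at h1
    exact fun hpt => h1 ((congrArg PrimeSpectrum.asIdeal hpt).ge hc)
  refine isIso_restriction_of_regular_pair Y _ _ _ hw'.1 ?_ (hmap a₀ ha₀) (hmap b₀ hb₀)
  intro x hx
  change φ a₀ ∣ φ b₀ * x at hx
  change φ a₀ ∣ x
  have h2 := hw'.2.1
  have hmem : ∀ t : Γ(Y, ⊤), t ∈ φ a₀ • (⊤ : Submodule Γ(Y, ⊤) Γ(Y, ⊤)) ↔ φ a₀ ∣ t := fun t => by
    rw [← Submodule.ideal_span_singleton_smul, smul_eq_mul, Ideal.mul_top, Ideal.mem_span_singleton]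
  rw [← hmem, ← Submodule.Quotient.mk_eq_zero]
  refine h2 ?_
  change φ b₀ • _ = φ b₀ • (0 : QuotSMulTop (φ a₀) Γ(Y, ⊤))
  rw [smul_zero, ← Submodule.Quotient.mk_smul, Submodule.Quotient.mk_eq_zero, hmem, smul_eq_mul]
  exact hx

end Groth.Agent.Lib.FEt.DepthTwo
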