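import Groth.Agent.Lib.FEt.FullyFaithful
import Groth.Agent.Lib.Henselian.FiniteEtale
import Groth.Agent.Lib.Henselian.Pair

/-!
# Finite etale covers of a henselian pair
-/

universe u

open CategoryTheory CategoryTheory.Limits AlgebraicGeometry TensorProduct

namespace Groth.Agent.Lib.FEt.HenselianPair

variable {A : Type u} [CommRing A] (I : Ideal A)

/-- The inclusion of the closed subscheme. -/
noncomputable abbrev incl : Spec (CommRingCat.of (A ⧸ I)) ⟶ Spec (CommRingCat.of A) :=
  Spec.map (CommRingCat.ofHom (Ideal.Quotient.mk I))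

theorem range_incl : Set.range (incl I).base = {p | I ≤ (p : PrimeSpectrum A).asIdeal} := by
  ext p
  change p ∈ Set.range (PrimeSpectrum.comap (Ideal.Quotient.mk I)) ↔ _
  rw [range_comap_of_surjective _ _ Ideal.Quotient.mk_surjective, Ideal.mk_ker]
  rfl

theorem meetsClopens (hI : I ≤ Ideal.jacobson ⊥) :
    Conservative.MeetsClopens (Spec (CommRingCat.of A)) (Set.range (incl I).base) := by
  rintro s hs ⟨p, hp⟩
  obtain ⟨m, hm, hpm⟩ := Ideal.exists_le_maximal (p : PrimeSpectrum A).asIdeal (PrimeSpectrum.isPrime p).ne_top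
  let q : PrimeSpectrum A := ⟨m, hm.isPrime⟩
  refine ⟨q, ((PrimeSpectrum.le_iff_specializes (p : PrimeSpectrum A) q).mp hpm).mem_closed hs.isClosed hp, ?_⟩
  rw [range_incl]
  exact hI.trans (sInf_le (show m ∈ {J : Ideal A | ⊥ ≤ J ∧ J.IsMaximal} from ⟨bot_le, hm⟩))

variable [HenselianRing A I]

theorem exists_clopen (W : FEt.Cat (Spec (CommRingCat.of A)))
    (C : Set (pullback W.hom (incl I) : Scheme.{u})) (hC : IsClopen C) :
    ∃ D : Set W.left, IsClopen D ∧ (pullback.fst W.hom (incl I)).base ⁻¹' D = C := by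
  let w : W.left ⟶ Spec (CommRingCat.of A) := W.hom
  have : IsFinite w := W.prop.1
  have : IsAffine W.left := isAffine_of_isAffineHom w
  let φ : A →+* Γ(W.left, ⊤) := ((Scheme.ΓSpecIso (CommRingCat.of A)).inv ≫ w.appTop).hom
  let : Algebra A Γ(W.left, ⊤) := φ.toAlgebra
  have hfin : φ.Finite := (IsFinite.finite_app w ⊤ (isAffineOpen_top _)).comp
    (RingHom.Finite.of_surjective _
      (ConcreteCategory.bijective_of_isIso (Scheme.ΓSpecIso (CommRingCat.of A)).inv).2)
  have : Module.Finite A Γ(W.left, ⊤) := hfin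
  let h : W.left ≃ₜ PrimeSpectrum Γ(W.left, ⊤) := W.left.isoSpec.hom.homeomorph
  let J : Ideal Γ(W.left, ⊤) := I.map (algebraMap A Γ(W.left, ⊤))
  let j := (pullback.fst w (incl I)).base
  have hw : ∀ q, ((w.base q : Spec (CommRingCat.of A)) : PrimeSpectrum A).asIdeal =
      (h q).asIdeal.comap φ := fun q => by
    have hfac : w = W.left.isoSpec.hom ≫ Spec.map (CommRingCat.ofHom φ) := by
      rw [Scheme.isoSpec_hom, CommRingCat.ofHom_hom, Spec.map_comp,
        ← Scheme.toSpecΓ_naturality_assoc, ← SpecMap_ΓSpecIso_hom, ← Spec.map_comp,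
        Iso.inv_hom_id, Spec.map_id]
      exact (Category.comp_id w).symm
    conv_lhs => rw [hfac]
    rfl
  have hclosed : IsClosedImmersion (pullback.fst w (incl I)) := by
    have : IsClosedImmersion (incl I) :=
      IsClosedImmersion.spec_of_surjective _ Ideal.Quotient.mk_surjective
    infer_instance
  have hemb := (pullback.fst w (incl I)).isClosedEmbedding
  have hrange : Set.range j = {q | J ≤ (h q).asIdeal} := by
    change Set.range ⇑(pullback.fst w (incl I)) = _
    rw [Scheme.Pullback.range_fst]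
    ext q
    simp only [Set.mem_preimage, Set.mem_ofPred_eq]
    rw [range_incl]
    change I ≤ ((w.base q : Spec (CommRingCat.of A)) : PrimeSpectrum A).asIdeal ↔ _
    rw [hw]
    exact Ideal.map_le_iff_le_comap.symm
  let κ : PrimeSpectrum (Γ(W.left, ⊤) ⧸ J) → W.left :=
    fun r => h.symm (PrimeSpectrum.comap (Ideal.Quotient.mk J) r)
  have hκc : Continuous κ := h.symm.continuous.comp (PrimeSpectrum.continuous_comap _)
  have hκ : ∀ r, κ r ∈ Set.range j := fun r => by
    rw [hrange]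
    change J ≤ (h (h.symm _)).asIdeal
    rw [h.apply_symm_apply]
    exact Ideal.mk_ker.symm.trans_le (Ideal.comap_mono bot_le)
  have hclopen : IsClopen (κ ⁻¹' (j '' C)) := by
    refine ⟨(hemb.isClosedMap _ hC.isClosed).preimage hκc, ?_⟩
    rw [← isClosed_compl_iff]
    have : (κ ⁻¹' (j '' C))ᶜ = κ ⁻¹' (j '' Cᶜ) := by
      ext r
      obtain ⟨x, hx⟩ := hκ r
      change κ r ∉ j '' C ↔ κ r ∈ j '' Cᶜ
      rw [← hx]
      exact (not_congr hemb.injective.mem_set_image).trans
        (hemb.injective.mem_set_image (s := Cᶜ) (a := x)).symm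
    rw [this]
    exact (hemb.isClosedMap _ hC.compl.isClosed).preimage hκc
  obtain ⟨ε, hε, hεs⟩ := PrimeSpectrum.isClopen_iff.mp hclopen
  obtain ⟨e, he, rfl⟩ := (Lib.Henselian.Pair.idempotents_bijOn I Γ(W.left, ⊤)).surjOn hε
  refine ⟨h ⁻¹' (PrimeSpectrum.basicOpen e : Set _),
    (PrimeSpectrum.isClopen_iff.mpr ⟨e, he, rfl⟩).preimage h.continuous, ?_⟩
  ext x
  have hJ : J ≤ (h (j x)).asIdeal := by
    have : j x ∈ Set.range j := Set.mem_range_self x
    rwa [hrange] at this
  obtain ⟨r, hr⟩ : h (j x) ∈ Set.range (PrimeSpectrum.comap (Ideal.Quotient.mk J)) := by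
    rw [range_comap_of_surjective _ _ Ideal.Quotient.mk_surjective, Ideal.mk_ker]
    exact hJ
  have hκr : κ r = j x := by simp [κ, hr]
  have hr' := Set.ext_iff.mp hεs r
  rw [Set.mem_preimage, hκr, hemb.injective.mem_set_image] at hr'
  refine Iff.trans ?_ hr'.symm
  change h (j x) ∈ PrimeSpectrum.basicOpen e ↔ r ∈ PrimeSpectrum.basicOpen (Ideal.Quotient.mk J e)
  rw [← hr]
  rfl

theorem full_and_faithful : (FEt.restrict (incl I)).Full ∧ (FEt.restrict (incl I)).Faithful :=
  FullyFaithful.full_and_faithful _ (meetsClopens I HenselianRing.jac) (exists_clopen I)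

theorem essSurj : (FEt.restrict (incl I)).EssSurj := by
  refine ⟨fun V => ?_⟩
  let v : V.left ⟶ Spec (CommRingCat.of (A ⧸ I)) := V.hom
  have : IsFinite v := V.prop.1
  have : Etale v := V.prop.2
  have : IsAffine V.left := isAffine_of_isAffineHom v
  let φ : (A ⧸ I) →+* Γ(V.left, ⊤) := ((Scheme.ΓSpecIso (CommRingCat.of (A ⧸ I))).inv ≫ v.appTop).hom
  let : Algebra (A ⧸ I) Γ(V.left, ⊤) := φ.toAlgebra
  have hi := ConcreteCategory.bijective_of_isIso (Scheme.ΓSpecIso (CommRingCat.of (A ⧸ I))).inv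
  have : Module.Finite (A ⧸ I) Γ(V.left, ⊤) :=
    (IsFinite.finite_app v ⊤ (isAffineOpen_top _)).comp (RingHom.Finite.of_surjective _ hi.2)
  have : Algebra.Etale (A ⧸ I) Γ(V.left, ⊤) :=
    RingHom.Etale.stableUnderComposition _ _ (RingHom.Etale.of_bijective hi)
      (HasRingHomProperty.appTop (P := @Etale) v inferInstance)
  obtain ⟨B, _, _, hfin, het, ⟨e⟩⟩ :=
    Lib.Henselian.FiniteEtale.exists_finite_etale_lift I Γ(V.left, ⊤)
  have hp : FEt.prop.{u} (Spec.map (CommRingCat.ofHom (algebraMap A B))) :=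
    ⟨(IsFinite.SpecMap_iff _).mpr (RingHom.finite_algebraMap.mpr hfin),
      (HasRingHomProperty.Spec_iff (P := @Etale)).mpr (RingHom.etale_algebraMap.mpr het)⟩
  have hfac : v = V.left.isoSpec.hom ≫ Spec.map (CommRingCat.ofHom φ) := by
    rw [Scheme.isoSpec_hom, CommRingCat.ofHom_hom, Spec.map_comp,
      ← Scheme.toSpecΓ_naturality_assoc, ← SpecMap_ΓSpecIso_hom, ← Spec.map_comp,
      Iso.inv_hom_id, Spec.map_id]
    exact (Category.comp_id v).symm
  let i : pullback (Spec.map (CommRingCat.ofHom (algebraMap A B))) (incl I) ≅ V.left :=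
    pullbackSymmetry _ _ ≪≫ pullbackSpecIso A (A ⧸ I) B ≪≫
      Scheme.Spec.mapIso e.symm.toRingEquiv.toCommRingCatIso.op ≪≫ V.left.isoSpec.symm
  refine ⟨MorphismProperty.Over.mk ⊤ _ hp, ⟨MorphismProperty.Over.isoMk i ?_⟩⟩
  change i.hom ≫ v = pullback.snd (Spec.map (CommRingCat.ofHom (algebraMap A B))) (incl I)
  rw [hfac, ← pullbackSymmetry_hom_comp_fst]
  simp only [i, Iso.trans_hom, Iso.symm_hom, Category.assoc, Iso.inv_hom_id_assoc]
  congr 1
  rw [show pullback.fst (incl I) (Spec.map (CommRingCat.ofHom (algebraMap A B))) =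
    pullback.fst (Spec.map (CommRingCat.ofHom (algebraMap A (A ⧸ I)))) _ from rfl,
    ← pullbackSpecIso_hom_fst]
  congr 1
  change Spec.map _ ≫ Spec.map _ = Spec.map _
  rw [← Spec.map_comp]
  congr 1
  ext x
  exact e.symm.commutes x

theorem isEquivalence : (FEt.restrict (incl I)).IsEquivalence :=
  haveI := (full_and_faithful I).1
  haveI := (full_and_faithful I).2
  haveI := essSurj I
  { }

end Groth.Agent.Lib.FEt.HenselianPair
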