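import Mathlib.AlgebraicGeometry.Morphisms.Finite
import Mathlib.AlgebraicGeometry.Morphisms.Etale
import Mathlib.AlgebraicGeometry.Morphisms.FormallyUnramified
import Mathlib.AlgebraicGeometry.Morphisms.UniversallyOpen
import Mathlib.AlgebraicGeometry.ResidueField
import Mathlib.AlgebraicGeometry.Morphisms.IsIso
import Groth.Prelude.Def_FEt

/-!
# Finite etale covers: morphisms, the locus where two morphisms agree
-/

universe u

open CategoryTheory CategoryTheory.Limits AlgebraicGeometry TopologicalSpace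

namespace Groth.Agent.Lib.FEt.Basic

variable {X : Scheme.{u}}

instance isFinite_hom (Y : FEt.Cat X) : IsFinite Y.hom := Y.prop.1

instance etale_hom (Y : FEt.Cat X) : Etale Y.hom := Y.prop.2

theorem isFinite_left {Y Y' : FEt.Cat X} (φ : Y ⟶ Y') : IsFinite φ.left := by
  have : IsFinite (φ.left ≫ Y'.hom) := by
    rw [Over.w φ.hom]
    exact isFinite_hom Y
  exact IsFinite.of_comp φ.left Y'.hom

theorem etale_left {Y Y' : FEt.Cat X} (φ : Y ⟶ Y') : Etale φ.left := by
  have : Etale (φ.left ≫ Y'.hom) := by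
    rw [Over.w φ.hom]
    exact etale_hom Y
  exact Etale.of_comp φ.left Y'.hom

section EqLocus

variable {Z W S : Scheme.{u}} (p : W ⟶ S) (φ ψ : Z ⟶ W) (h : φ ≫ p = ψ ≫ p)

/-- The inclusion of the locus where `φ` and `ψ` agree. -/
noncomputable def eqι : pullback (pullback.lift φ ψ h) (pullback.diagonal p) ⟶ Z :=
  pullback.fst _ _

instance isOpenImmersion_eqι [FormallyUnramified p] [LocallyOfFiniteType p] :
    IsOpenImmersion (eqι p φ ψ h) :=
  inferInstanceAs (IsOpenImmersion (pullback.fst _ _))

instance isClosedImmersion_eqι [IsSeparated p] : IsClosedImmersion (eqι p φ ψ h) :=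
  inferInstanceAs (IsClosedImmersion (pullback.fst _ _))

theorem eqι_comp : eqι p φ ψ h ≫ φ = eqι p φ ψ h ≫ ψ := by
  have := pullback.condition (f := pullback.lift φ ψ h) (g := pullback.diagonal p)
  have h1 := congrArg (fun t => t ≫ pullback.fst p p) this
  have h2 := congrArg (fun t => t ≫ pullback.snd p p) this
  simp only [Category.assoc, pullback.lift_fst, pullback.lift_snd, pullback.diagonal_fst,
    pullback.diagonal_snd, Category.comp_id] at h1 h2
  exact h1.trans h2.symm

theorem exists_lift_eqι {T : Scheme.{u}} (z : T ⟶ Z) (hz : z ≫ φ = z ≫ ψ) :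
    ∃ t, t ≫ eqι p φ ψ h = z := by
  refine ⟨pullback.lift z (z ≫ φ) ?_, pullback.lift_fst _ _ _⟩
  apply pullback.hom_ext
  · rw [Category.assoc, Category.assoc, pullback.lift_fst, pullback.diagonal_fst, Category.comp_id]
  · rw [Category.assoc, Category.assoc, pullback.lift_snd, pullback.diagonal_snd, Category.comp_id, hz]

/-- The set of points at which `φ` and `ψ` agree. -/
def eqSet : Set Z := {z | Z.fromSpecResidueField z ≫ φ = Z.fromSpecResidueField z ≫ ψ}

include h in
theorem mem_eqSet_of_agree {T : Scheme.{u}} (z : T ⟶ Z) (hz : z ≫ φ = z ≫ ψ) (t : T) :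
    z.base t ∈ eqSet φ ψ := by
  obtain ⟨s, rfl⟩ := exists_lift_eqι p φ ψ h z hz
  set e := eqι p φ ψ h
  change Z.fromSpecResidueField (e.base (s.base t)) ≫ φ = Z.fromSpecResidueField (e.base (s.base t)) ≫ ψ
  have := Scheme.Hom.SpecMap_residueFieldMap_fromSpecResidueField e (s.base t)
  have hm : Mono e := inferInstanceAs (Mono (pullback.fst _ _))
  have hiso : Epi (Spec.map (e.residueFieldMap (s.base t))) := by
    have : IsPreimmersion e := inferInstanceAs (IsPreimmersion (pullback.fst _ _))
    have : Function.Surjective (e.residueFieldMap (s.base t)) := by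
      intro y
      obtain ⟨y, rfl⟩ := Scheme.residue_surjective _ _ y
      obtain ⟨x, rfl⟩ := e.stalkMap_surjective (s.base t) y
      exact ⟨Z.residue _ x, ConcreteCategory.congr_hom (Scheme.residue_residueFieldMap e (s.base t)) x⟩
    have : IsIso (e.residueFieldMap (s.base t)) :=
      (ConcreteCategory.isIso_iff_bijective _).mpr ⟨RingHom.injective _, this⟩
    infer_instance
  rw [← cancel_epi (Spec.map (e.residueFieldMap (s.base t))), reassoc_of% this, reassoc_of% this,
    eqι_comp]

theorem range_eqι : Set.range (eqι p φ ψ h).base = eqSet φ ψ := by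
  refine subset_antisymm ?_ fun z hz => ?_
  · rintro _ ⟨t, rfl⟩
    exact mem_eqSet_of_agree p φ ψ h _ (eqι_comp p φ ψ h) t
  · obtain ⟨t, ht⟩ := exists_lift_eqι p φ ψ h _ hz
    refine ⟨t.base (IsLocalRing.closedPoint _), ?_⟩
    have := congrArg (fun f => f.base (IsLocalRing.closedPoint _)) ht
    exact this.trans (Scheme.fromSpecResidueField_apply z _)

include h in
theorem isClopen_eqSet [FormallyUnramified p] [LocallyOfFiniteType p] [IsSeparated p] :
    IsClopen (eqSet φ ψ) := by
  rw [← range_eqι p φ ψ h]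
  exact ⟨(eqι p φ ψ h).isClosedEmbedding.isClosed_range,
    (eqι p φ ψ h).isOpenEmbedding.isOpen_range⟩

include h in
theorem eq_of_eqSet_eq_univ [FormallyUnramified p] [LocallyOfFiniteType p]
    (huniv : eqSet φ ψ = Set.univ) : φ = ψ := by
  have : Surjective (eqι p φ ψ h) := ⟨fun z => by
    have : z ∈ Set.range (eqι p φ ψ h).base := by rw [range_eqι, huniv]; trivial
    exact this⟩
  have : IsIso (eqι p φ ψ h) :=
    (isIso_iff_isOpenImmersion_and_surjective _).mpr ⟨inferInstance, inferInstance⟩
  exact (cancel_epi (eqι p φ ψ h)).mp (eqι_comp p φ ψ h)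

variable [FormallyUnramified p] [LocallyOfFiniteType p] [IsSeparated p]

include h in
/-- Two morphisms into a separated unramified `S`-scheme agreeing after a dense map agree. -/
theorem eq_of_denseRange {T : Scheme.{u}} (z : T ⟶ Z) (hz : DenseRange z.base)
    (heq : z ≫ φ = z ≫ ψ) : φ = ψ := by
  refine eq_of_eqSet_eq_univ p φ ψ h (Set.eq_univ_of_univ_subset ?_)
  rw [← hz.closure_range]
  exact closure_minimal (Set.range_subset_iff.mpr fun t => mem_eqSet_of_agree p φ ψ h z heq t)
    (isClopen_eqSet p φ ψ h).1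

include h in
/-- On a preconnected scheme they agree as soon as they agree somewhere. -/
theorem eq_of_preconnected [PreconnectedSpace Z] {T : Scheme.{u}} [Nonempty T] (z : T ⟶ Z)
    (heq : z ≫ φ = z ≫ ψ) : φ = ψ :=
  eq_of_eqSet_eq_univ p φ ψ h <| (isClopen_eqSet p φ ψ h).eq_univ
    ⟨_, mem_eqSet_of_agree p φ ψ h z heq (Classical.arbitrary T)⟩

include h in
/-- They agree if they agree at a point of every fibre-connected component. -/
theorem eq_of_forall_component {T : Scheme.{u}} (z : T ⟶ Z)
    (hmeet : ∀ x : Z, (connectedComponent x ∩ Set.range z.base).Nonempty)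
    (heq : z ≫ φ = z ≫ ψ) : φ = ψ := by
  refine eq_of_eqSet_eq_univ p φ ψ h (Set.eq_univ_iff_forall.mpr fun x => ?_)
  obtain ⟨_, hy, t, rfl⟩ := hmeet x
  exact (isClopen_eqSet p φ ψ h).connectedComponent_subset
    (mem_eqSet_of_agree p φ ψ h z heq t) (connectedComponent_eq hy ▸ mem_connectedComponent)

end EqLocus

/-- The image of a clopen set under a finite etale map is clopen. -/
theorem isClopen_image {Y Z : Scheme.{u}} (f : Y ⟶ Z) [IsFinite f] [Etale f] {s : Set Y}
    (hs : IsClopen s) : IsClopen (f.base '' s) :=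
  ⟨f.isClosedMap _ hs.1, f.isOpenMap _ hs.2⟩

variable {X' : Scheme.{u}} (g : X' ⟶ X)

theorem restrict_map_fst {Y Y' : FEt.Cat X} (φ : Y ⟶ Y') :
    ((FEt.restrict g).map φ).left ≫ pullback.fst Y'.hom g = pullback.fst Y.hom g ≫ φ.left :=
  pullback.lift_fst _ _ _

theorem fst_comp_eq_of_restrict_map_eq {Y Y' : FEt.Cat X} {φ ψ : Y ⟶ Y'}
    (h : (FEt.restrict g).map φ = (FEt.restrict g).map ψ) :
    pullback.fst Y.hom g ≫ φ.left = pullback.fst Y.hom g ≫ ψ.left := by
  rw [← restrict_map_fst g φ, h, restrict_map_fst g ψ]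

end Groth.Agent.Lib.FEt.Basic
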