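import Groth.Agent.Lib.FEt.FullyFaithful
import Mathlib.AlgebraicGeometry.Morphisms.Flat
import Mathlib.RingTheory.Flat.EquationalCriterion
import Mathlib.RingTheory.Finiteness.ModuleFinitePresentation
import Mathlib.Algebra.Category.Ring.Constructions

/-!
# Finite etale covers along morphisms with `O_Y = f_* O_X`

If `f : X ⟶ Y` induces bijections `Γ(U) → Γ(f⁻¹ U)` then so does every base change of `f` along a
finite, flat and finitely presented morphism `g : Y' ⟶ Y`, on opens coming from `Y`.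
-/

universe u

open CategoryTheory CategoryTheory.Limits AlgebraicGeometry TopologicalSpace Opposite
open scoped TensorProduct

namespace Groth.Agent.Lib.FEt.AppBijective

/-- Coordinates on the base change of an algebra with a dual basis. -/
theorem exists_coords {A M B C : CommRingCat.{u}} {φ : A ⟶ M} {β : A ⟶ B} {μ : M ⟶ C}
    {ν : B ⟶ C} (h : IsPushout φ β μ ν) {n : ℕ} (e : Fin n → M) (s : M → Fin n → A)
    (hadd : ∀ x y, s (x + y) = s x + s y) (hsmul : ∀ a x k, s (φ a * x) k = a * s x k)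
    (hdual : ∀ x, ∑ k, φ (s x k) * e k = x) :
    ∃ σ : C → Fin n → B, (∀ x, ∑ k, ν (σ x k) * μ (e k) = x) ∧
      (∀ c : Fin n → B, ∀ k, σ (∑ j, ν (c j) * μ (e j)) k = ∑ j, c j * β (s (e j) k)) ∧
      (∀ m k, σ (μ m) k = β (s m k)) := by
  letI := φ.hom.toAlgebra
  letI := β.hom.toAlgebra
  have ht : IsPushout φ β (CommRingCat.ofHom (Algebra.TensorProduct.includeRight.toRingHom))
      (CommRingCat.ofHom (S := B ⊗[A] M) Algebra.TensorProduct.includeLeftRingHom) :=
    (CommRingCat.isPushout_tensorProduct A B M).flip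
  let θ : B ⊗[A] M ≃+* C := (ht.isoIsPushout _ _ h).commRingCatIsoToRingEquiv
  have hθr : ∀ m : M, θ (1 ⊗ₜ m) = μ m := fun m => congr($(IsPushout.inl_isoIsPushout_hom M B ht h) m)
  have hθl : ∀ b : B, θ (b ⊗ₜ 1) = ν b := fun b => congr($(IsPushout.inr_isoIsPushout_hom M B ht h) b)
  have hθ : ∀ (b : B) (m : M), θ (b ⊗ₜ m) = ν b * μ m := fun b m => by
    rw [← hθr, ← hθl, ← map_mul, Algebra.TensorProduct.tmul_mul_tmul, mul_one, one_mul]
  let sL : M →ₗ[A] Fin n → A :=
    { toFun := s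
      map_add' := hadd
      map_smul' := fun a x => funext fun k => hsmul a x k }
  let L : B ⊗[A] M →ₗ[A] Fin n → B := TensorProduct.lift (LinearMap.mk₂ A
    (fun (b : B) (m : M) (k : Fin n) => b * β (sL m k))
    (fun b b' m => funext fun k => add_mul _ _ _)
    (fun a b m => funext fun k => mul_assoc _ _ _)
    (fun b m m' => funext fun k => by
      change b * β (sL (m + m') k) = _
      rw [map_add, Pi.add_apply, map_add, mul_add]; rfl)
    (fun a b m => funext fun k => by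
      change b * β (sL (a • m) k) = β a * (b * β (sL m k))
      rw [map_smul, Pi.smul_apply, smul_eq_mul, map_mul, mul_left_comm]))
  have hL : ∀ (b : B) (m : M) (k : Fin n), L (b ⊗ₜ m) k = b * β (s m k) := fun _ _ _ => rfl
  have hw : ∀ a : A, μ (φ a) = ν (β a) := fun a => congr($(h.w) a)
  refine ⟨fun x => L (θ.symm x), fun x => ?_, fun c k => ?_, fun m k => ?_⟩
  · obtain ⟨t, rfl⟩ := θ.surjective x
    simp only [RingEquiv.symm_apply_apply]
    induction t with
    | zero => simp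
    | add x y hx hy =>
      conv_rhs => rw [map_add, ← hx, ← hy, ← Finset.sum_add_distrib]
      refine Finset.sum_congr rfl fun k _ => ?_
      rw [map_add, Pi.add_apply, map_add, add_mul]
    | tmul b m =>
      rw [hθ]
      conv_rhs => rw [← hdual m, map_sum, Finset.mul_sum]
      refine Finset.sum_congr rfl fun k _ => ?_
      rw [hL, map_mul, map_mul, hw, mul_assoc]
  · have : θ.symm (∑ j, ν (c j) * μ (e j)) = ∑ j, c j ⊗ₜ[A] e j := by
      rw [RingEquiv.symm_apply_eq, map_sum]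
      exact Finset.sum_congr rfl fun j _ => (hθ _ _).symm
    simp only [this, map_sum, Finset.sum_apply, hL]
  · have : θ.symm (μ m) = 1 ⊗ₜ[A] m := by rw [RingEquiv.symm_apply_eq, hθr]
    simp only [this, hL, one_mul]

section

variable {X Y X' Y' : Scheme.{u}} {f : X ⟶ Y} {g : Y' ⟶ Y} {fst : X' ⟶ Y'} {snd : X' ⟶ X}

theorem app_bijective_of_affine (H : IsPullback fst snd g f) [IsFinite g] [Flat g]
    [LocallyOfFinitePresentation g] (U : Y.Opens) (hU : IsAffineOpen U)
    (hf : Function.Bijective (f.app U)) : Function.Bijective (fst.app (g ⁻¹ᵁ U)) := by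
  have hV : IsAffineOpen (g ⁻¹ᵁ U) := hU.preimage g
  let φ := g.appLE U (g ⁻¹ᵁ U) le_rfl
  obtain ⟨n, F, G, -, -, hFG⟩ : letI := φ.hom.toAlgebra
      ∃ (n : ℕ) (F : (Fin n → Γ(Y, U)) →ₗ[Γ(Y, U)] Γ(Y', g ⁻¹ᵁ U))
        (G : Γ(Y', g ⁻¹ᵁ U) →ₗ[Γ(Y, U)] Fin n → Γ(Y, U)),
        Function.Surjective F ∧ Function.Injective G ∧ F ∘ₗ G = .id := by
    letI := φ.hom.toAlgebra
    have : Module.Finite Γ(Y, U) Γ(Y', g ⁻¹ᵁ U) := by
      have := g.finite_app U hU
      rwa [← g.appLE_eq_app] at this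
    have : Module.Flat Γ(Y, U) Γ(Y', g ⁻¹ᵁ U) := g.flat_appLE hU hV le_rfl
    have : Algebra.FinitePresentation Γ(Y, U) Γ(Y', g ⁻¹ᵁ U) :=
      g.finitePresentation_appLE hU hV le_rfl
    have := Module.FinitePresentation.of_finite_of_finitePresentation
      (R := Γ(Y, U)) (S := Γ(Y', g ⁻¹ᵁ U))
    have := Module.Flat.projective_of_finitePresentation (R := Γ(Y, U)) (M := Γ(Y', g ⁻¹ᵁ U))
    exact Module.Finite.exists_comp_eq_id_of_projective _ _
  letI := φ.hom.toAlgebra
  let e : Fin n → Γ(Y', g ⁻¹ᵁ U) := fun k => F (Pi.single k 1)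
  have hdual : ∀ x, ∑ k, φ (G x k) * e k = x := fun x => by
    conv_rhs => rw [← show F (G x) = x from LinearMap.congr_fun hFG x, pi_eq_sum_univ' (G x), map_sum]
    refine Finset.sum_congr rfl fun k _ => ?_
    rw [map_smul]; rfl
  let P : X.Opens := f ⁻¹ᵁ U
  let Idx := {T : X.Opens // IsAffineOpen T ∧ T ≤ P}
  let W : Idx → X'.Opens := fun T => fst ⁻¹ᵁ (g ⁻¹ᵁ U) ⊓ snd ⁻¹ᵁ T.1
  let μ : ∀ T : Idx, Γ(Y', g ⁻¹ᵁ U) ⟶ Γ(X', W T) := fun T => fst.appLE _ _ inf_le_left
  let ν : ∀ T : Idx, Γ(X, T.1) ⟶ Γ(X', W T) := fun T => snd.appLE _ _ inf_le_right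
  let β : ∀ T : Idx, Γ(Y, U) ⟶ Γ(X, T.1) := fun T => f.appLE U T.1 T.2.2
  have hpo : ∀ T : Idx, IsPushout φ (β T) (μ T) (ν T) := fun T =>
    (isIso_pushoutSection_iff H T.2.2 le_rfl rfl).mp
      (isIso_pushoutSection_of_isAffineOpen H T.2.2 le_rfl rfl hU T.2.1 hV)
  choose σ hσ1 hσ2 hσ3 using fun T : Idx => exists_coords (hpo T) e (fun x => G x)
    (map_add G) (fun a x k => congrFun (map_smul G a x) k) hdual
  have hcovP : P ≤ ⨆ T : Idx, T.1 := fun x hx => by
    obtain ⟨T, hT, hxT, hTP⟩ := exists_isAffineOpen_mem_and_subset hx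
    exact Opens.mem_iSup.mpr ⟨⟨T, hT, hTP⟩, hxT⟩
  have hcovW : fst ⁻¹ᵁ (g ⁻¹ᵁ U) ≤ ⨆ T : Idx, W T := fun x hx => by
    have : snd x ∈ P := by
      change (snd ≫ f) x ∈ U
      rw [← H.w]
      exact hx
    obtain ⟨T, hT⟩ := Opens.mem_iSup.mp (hcovP this)
    exact Opens.mem_iSup.mpr ⟨T, hx, hT⟩
  have hres : ∀ (T : Idx) (a : Γ(Y, U)),
      X.presheaf.map (homOfLE T.2.2).op (f.app U a) = β T a := fun T a => rfl
  have hresμ : ∀ (T : Idx) (z : Γ(Y', g ⁻¹ᵁ U)),
      X'.presheaf.map (homOfLE (inf_le_left : W T ≤ _)).op (fst.app (g ⁻¹ᵁ U) z) = μ T z :=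
    fun T z => rfl
  constructor
  · refine (injective_iff_map_eq_zero (fst.app (g ⁻¹ᵁ U)).hom).mpr fun z hz => ?_
    have h0 : ∀ k, G z k = 0 := fun k => hf.1 <| by
      rw [map_zero]
      refine X.sheaf.eq_of_locally_eq' (fun T : Idx => T.1) P (fun T => homOfLE T.2.2) hcovP _ _
        fun T => ?_
      refine (hres T _).trans (Eq.trans ?_ (map_zero _).symm)
      have h1 : μ T z = 0 := by rw [← hresμ]; exact (congrArg _ hz).trans (map_zero _)
      have h2 := hσ2 T 0 k
      simp only [Pi.zero_apply, map_zero, zero_mul, Finset.sum_const_zero] at h2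
      rw [← hσ3 T z k, h1, h2]
    rw [← hdual z]
    exact Finset.sum_eq_zero fun k _ => by rw [h0, map_zero, zero_mul]
  · intro x
    let b : ∀ T : Idx, Fin n → Γ(X, T.1) := fun T =>
      σ T (X'.presheaf.map (homOfLE (inf_le_left : W T ≤ _)).op x)
    have hb : ∀ (T T' : Idx) (h : T'.1 ≤ T.1) (k : Fin n),
        X.presheaf.map (homOfLE h).op (b T k) = b T' k := by
      intro T T' h k
      let rX := X.presheaf.map (homOfLE h).op
      let rX' := X'.presheaf.map (homOfLE (inf_le_inf_left _ (snd.preimage_mono h) : W T' ≤ W T)).op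
      have hμ : ∀ z, rX' (μ T z) = μ T' z := fun z => by
        rw [← CommRingCat.comp_apply]; congr 2; exact Scheme.Hom.appLE_map _ _ _
      have hν : ∀ z, rX' (ν T z) = ν T' (rX z) := fun z => by
        rw [← CommRingCat.comp_apply, ← CommRingCat.comp_apply]; congr 2
        rw [Scheme.Hom.appLE_map, Scheme.Hom.map_appLE]
      have hβ : ∀ a, rX (β T a) = β T' a := fun a => by
        rw [← CommRingCat.comp_apply]; congr 2; exact Scheme.Hom.appLE_map _ _ _
      have h1 : X'.presheaf.map (homOfLE (inf_le_left : W T' ≤ _)).op x =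
          ∑ j, ν T' (rX (b T j)) * μ T' (e j) := by
        have := congrArg rX' (hσ1 T (X'.presheaf.map (homOfLE (inf_le_left : W T ≤ _)).op x))
        simp only [map_sum, map_mul, hν, hμ] at this
        rw [this]
        change _ = (X'.presheaf.map _) ((X'.presheaf.map _) x)
        rw [← CommRingCat.comp_apply, ← Functor.map_comp]
        rfl
      have h2 : b T k = ∑ j, b T j * β T (G (e j) k) := by
        rw [← hσ2 T (b T) k, hσ1 T]
      change rX (b T k) = σ T' _ k
      rw [h1, hσ2, h2, map_sum]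
      exact Finset.sum_congr rfl fun j _ => by rw [map_mul, hβ]
    have hglue : ∀ k, ∃ a : Γ(Y, U), ∀ T : Idx, β T a = b T k := fun k => by
      obtain ⟨t, ht, -⟩ := X.sheaf.existsUnique_gluing' (fun T : Idx => T.1) P
        (fun T => homOfLE T.2.2) hcovP (fun T => b T k) (fun T T' => by
          refine X.sheaf.eq_of_locally_eq' (fun S : {S : Idx // S.1 ≤ T.1 ⊓ T'.1} => S.1.1)
            (T.1 ⊓ T'.1) (fun S => homOfLE S.2) ?_ _ _ fun S => ?_
          · intro x hx
            obtain ⟨S, hS, hxS, hST⟩ := exists_isAffineOpen_mem_and_subset hx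
            exact Opens.mem_iSup.mpr ⟨⟨⟨S, hS, hST.trans (inf_le_left.trans T.2.2)⟩, hST⟩, hxS⟩
          · have e1 := hb T S.1 (S.2.trans inf_le_left) k
            have e2 := hb T' S.1 (S.2.trans inf_le_right) k
            change (X.presheaf.map _) ((X.presheaf.map _) _) =
              (X.presheaf.map _) ((X.presheaf.map _) _)
            rw [← CommRingCat.comp_apply, ← CommRingCat.comp_apply, ← Functor.map_comp,
              ← Functor.map_comp]
            exact e1.trans e2.symm)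
      obtain ⟨a, rfl⟩ := hf.2 t
      exact ⟨a, fun T => (hres T a).symm.trans (ht T)⟩
    choose a ha using hglue
    refine ⟨∑ k, φ (a k) * e k, ?_⟩
    refine X'.sheaf.eq_of_locally_eq' W (fst ⁻¹ᵁ (g ⁻¹ᵁ U)) (fun T => homOfLE inf_le_left) hcovW _ _
      fun T => ?_
    refine (hresμ T _).trans ?_
    rw [map_sum]
    refine Eq.trans (Finset.sum_congr rfl fun k _ => ?_) (hσ1 T _)
    rw [map_mul, show μ T (φ (a k)) = ν T (β T (a k)) from congr($((hpo T).w) (a k)), ha]
    rfl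

theorem app_bijective (H : IsPullback fst snd g f) [IsFinite g] [Flat g]
    [LocallyOfFinitePresentation g] (hf : ∀ U : Y.Opens, Function.Bijective (f.app U))
    (U : Y.Opens) : Function.Bijective (fst.app (g ⁻¹ᵁ U)) := by
  let Idx := {S : Y.Opens // IsAffineOpen S ∧ S ≤ U}
  have hcov : U ≤ ⨆ S : Idx, S.1 := fun y hy => by
    obtain ⟨S, hS, hyS, hSU⟩ := exists_isAffineOpen_mem_and_subset hy
    exact Opens.mem_iSup.mpr ⟨⟨S, hS, hSU⟩, hyS⟩
  have hcov1 : g ⁻¹ᵁ U ≤ ⨆ S : Idx, g ⁻¹ᵁ S.1 := by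
    rw [← Scheme.Hom.preimage_iSup]; exact g.preimage_mono hcov
  have hcov2 : fst ⁻¹ᵁ g ⁻¹ᵁ U ≤ ⨆ S : Idx, fst ⁻¹ᵁ g ⁻¹ᵁ S.1 := by
    rw [← Scheme.Hom.preimage_iSup]; exact fst.preimage_mono hcov1
  have hb := fun S : Idx => app_bijective_of_affine H S.1 S.2.1 (hf S.1)
  have nat : ∀ {V V' : Y'.Opens} (h : V' ≤ V) (z : Γ(Y', V)),
      fst.app V' (Y'.presheaf.map (homOfLE h).op z) =
        X'.presheaf.map (homOfLE (fst.preimage_mono h)).op (fst.app V z) := fun h z => by
    rw [← CommRingCat.comp_apply, ← CommRingCat.comp_apply, Scheme.Hom.naturality]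
    rfl
  have hle : ∀ S : Idx, g ⁻¹ᵁ S.1 ≤ g ⁻¹ᵁ U := fun S => g.preimage_mono S.2.2
  refine ⟨fun z z' hz => Y'.sheaf.eq_of_locally_eq' (fun S : Idx => g ⁻¹ᵁ S.1) (g ⁻¹ᵁ U)
    (fun S => homOfLE (hle S)) hcov1 z z' fun S => (hb S).1 ?_, fun x => ?_⟩
  · exact (nat (hle S) z).trans ((congrArg _ hz).trans (nat (hle S) z').symm)
  · choose w hw using fun S : Idx =>
      (hb S).2 (X'.presheaf.map (homOfLE (fst.preimage_mono (hle S))).op x)
    have hinj : ∀ (V : Y.Opens), V ≤ U → ∀ z z' : Γ(Y', g ⁻¹ᵁ V),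
        fst.app _ z = fst.app _ z' → z = z' := fun V hV z z' hz =>
      Y'.sheaf.eq_of_locally_eq' (fun S : {S : Idx // S.1 ≤ V} => g ⁻¹ᵁ S.1.1) (g ⁻¹ᵁ V)
        (fun S => homOfLE (g.preimage_mono S.2)) (by
          intro y hy
          obtain ⟨S, hS, hyS, hSV⟩ := exists_isAffineOpen_mem_and_subset (show g y ∈ V from hy)
          exact Opens.mem_iSup.mpr ⟨⟨⟨S, hS, hSV.trans hV⟩, hSV⟩, hyS⟩) z z' fun S =>
        (hb S.1).1 ((nat (g.preimage_mono S.2) z).trans
          ((congrArg _ hz).trans (nat (g.preimage_mono S.2) z').symm))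
    obtain ⟨t, ht, -⟩ := Y'.sheaf.existsUnique_gluing' (fun S : Idx => g ⁻¹ᵁ S.1) (g ⁻¹ᵁ U)
      (fun S => homOfLE (hle S)) hcov1 w (fun S S' => by
        refine hinj (S.1 ⊓ S'.1) (inf_le_left.trans S.2.2) _ _ ?_
        refine (nat (g.preimage_mono (inf_le_left : S.1 ⊓ S'.1 ≤ S.1)) (w S)).trans
          (Eq.trans ?_ (nat (g.preimage_mono (inf_le_right : S.1 ⊓ S'.1 ≤ S'.1)) (w S')).symm)
        rw [hw, hw, ← CommRingCat.comp_apply, ← CommRingCat.comp_apply, ← Functor.map_comp,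
          ← Functor.map_comp]
        rfl)
    refine ⟨t, X'.sheaf.eq_of_locally_eq' (fun S : Idx => fst ⁻¹ᵁ g ⁻¹ᵁ S.1) _
      (fun S => homOfLE (fst.preimage_mono (hle S))) hcov2 _ _ fun S => ?_⟩
    exact (nat (hle S) t).symm.trans ((congrArg _ (ht S)).trans (hw S))

/-- A clopen set gives an idempotent global section. -/
theorem exists_idempotent_of_isClopen {Z : Scheme.{u}} {C : Set Z} (hC : IsClopen C) :
    ∃ e : Γ(Z, ⊤), IsIdempotentElem e ∧ (Z.basicOpen e : Set Z) = C := by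
  let U : Bool → Z.Opens := fun i => if i then ⟨C, hC.isOpen⟩ else ⟨Cᶜ, hC.compl.isOpen⟩
  have hcov : (⊤ : Z.Opens) ≤ ⨆ i, U i := fun x _ => by
    by_cases hx : x ∈ C
    · exact Opens.mem_iSup.mpr ⟨true, hx⟩
    · exact Opens.mem_iSup.mpr ⟨false, hx⟩
  let s : ∀ i, Γ(Z, U i) := fun i => if i then 1 else 0
  obtain ⟨e, he, huniq⟩ := Z.sheaf.existsUnique_gluing' U ⊤ (fun i => homOfLE le_top) hcov s (by
    have hbot : U true ⊓ U false = ⊥ := Opens.ext (Set.inter_compl_self C)
    intro i j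
    rcases i <;> rcases j
    · rfl
    · haveI : Subsingleton Γ(Z, U false ⊓ U true) := by rw [inf_comm, hbot]; infer_instance
      exact @Subsingleton.elim Γ(Z, U false ⊓ U true) _ _ _
    · haveI : Subsingleton Γ(Z, U true ⊓ U false) := by rw [hbot]; infer_instance
      exact @Subsingleton.elim Γ(Z, U true ⊓ U false) _ _ _
    · rfl)
  refine ⟨e, huniq _ fun i => ?_, ?_⟩
  · refine (map_mul (Z.presheaf.map (homOfLE le_top).op).hom e e).trans ?_
    refine (congrArg₂ (· * ·) (he i) (he i)).trans ?_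
    rcases i
    · exact mul_zero (0 : Γ(Z, U false))
    · exact mul_one (1 : Γ(Z, U true))
  · ext x
    have key : ∀ i, x ∈ U i → (x ∈ Z.basicOpen e ↔ x ∈ Z.basicOpen (s i)) := fun i hx => by
      rw [← he i]
      erw [Scheme.basicOpen_res]
      exact ⟨fun h => ⟨hx, h⟩, fun h => h.2⟩
    by_cases hx : x ∈ C
    · refine iff_of_true ((key true hx).mpr ?_) hx
      rw [show s true = 1 from rfl, Scheme.basicOpen_of_isUnit _ isUnit_one]
      exact hx
    · refine iff_of_false (fun h => ?_) hx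
      have := (key false hx).mp h
      rw [show s false = 0 from rfl, Scheme.basicOpen_zero] at this
      exact this

theorem isClopen_basicOpen {Z : Scheme.{u}} {e : Γ(Z, ⊤)} (he : IsIdempotentElem e) :
    IsClopen (Z.basicOpen e : Set Z) := by
  refine ⟨⟨?_⟩, (Z.basicOpen e).2⟩
  convert (Z.basicOpen (1 - e)).2
  ext x
  refine ⟨fun hx => ?_, fun h h' => ?_⟩
  · have : (⊤ : Z.Opens) ≤ Z.basicOpen e ⊔ Z.basicOpen (1 - e) :=
      le_of_eq_of_le (by rw [add_sub_cancel, Scheme.basicOpen_of_isUnit _ isUnit_one])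
        (Z.basicOpen_add_le e (1 - e))
    exact (this (show x ∈ (⊤ : Z.Opens) from trivial)).resolve_left hx
  · have : x ∈ Z.basicOpen (e * (1 - e)) := by rw [Scheme.basicOpen_mul]; exact ⟨h', h⟩
    rwa [mul_sub, mul_one, he.eq, sub_self, Scheme.basicOpen_zero] at this

theorem exists_isClopen_preimage (H : IsPullback fst snd g f) [IsFinite g] [Flat g]
    [LocallyOfFinitePresentation g] (hf : ∀ U : Y.Opens, Function.Bijective (f.app U))
    {C : Set X'} (hC : IsClopen C) : ∃ D : Set Y', IsClopen D ∧ fst.base ⁻¹' D = C := by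
  obtain ⟨e, he, rfl⟩ := exists_idempotent_of_isClopen hC
  have hbij : Function.Bijective (fst.app ⊤) := app_bijective H hf ⊤
  obtain ⟨e', rfl⟩ := hbij.2 e
  have he' : IsIdempotentElem e' := hbij.1 ((map_mul _ e' e').trans he)
  exact ⟨_, isClopen_basicOpen he', congrArg SetLike.coe (Scheme.preimage_basicOpen fst e')⟩

theorem meetsClopens (hf : ∀ U : Y.Opens, Function.Bijective (f.app U)) :
    Conservative.MeetsClopens Y (Set.range f.base) := by
  intro C hC hne
  by_contra hempty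
  rw [Set.not_nonempty_iff_eq_empty] at hempty
  let U : Y.Opens := ⟨C, hC.isOpen⟩
  have hbot : f ⁻¹ᵁ U = ⊥ := by
    ext x
    refine iff_of_false (fun hx => ?_) (fun h => h)
    exact (Set.eq_empty_iff_forall_notMem.mp hempty) (f.base x) ⟨hx, x, rfl⟩
  haveI : Subsingleton Γ(X, f ⁻¹ᵁ U) := by rw [hbot]; infer_instance
  haveI : Subsingleton Γ(Y, U) := (hf U).1.subsingleton
  obtain ⟨y, hy⟩ := hne
  have : y ∈ Y.basicOpen (0 : Γ(Y, U)) := by
    rw [show (0 : Γ(Y, U)) = 1 from Subsingleton.elim _ _, Scheme.basicOpen_of_isUnit _ isUnit_one]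
    exact hy
  rwa [Scheme.basicOpen_zero] at this

theorem full_and_faithful (hf : ∀ U : Y.Opens, Function.Bijective (f.app U)) :
    (FEt.restrict f).Full ∧ (FEt.restrict f).Faithful :=
  FullyFaithful.full_and_faithful f (meetsClopens hf) fun W C hC => by
    have : IsFinite W.hom := W.prop.1
    have : Etale W.hom := W.prop.2
    exact exists_isClopen_preimage (IsPullback.of_hasPullback W.hom f) hf hC

end

end Groth.Agent.Lib.FEt.AppBijective
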