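import Groth.Agent.Lib.FEt.GaloisCat
import Groth.Agent.H80.GaloisUnique

/-!
# Uniqueness of fibre functors of finite etale covers
-/

universe u v w

open CategoryTheory CategoryTheory.Limits AlgebraicGeometry CategoryTheory.PreGaloisCategory

namespace Groth.Agent.Lib.FEt.FiberUnique

variable {C : Type u} [Category.{v} C] [GaloisCategory C]

theorem nonempty_iso (F F' : C ⥤ FintypeCat.{w}) [FiberFunctor F] [FiberFunctor F'] :
    Nonempty (F' ≅ F) :=
  H80.GaloisUnique.nonempty_natIso F F' fun X h => (initial_iff_fiber_empty F' X).mpr h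

theorem isIso_of_fiberFunctor (F F' : C ⥤ FintypeCat.{w}) [FiberFunctor F] [FiberFunctor F']
    (φ : F ⟶ F') : IsIso φ := by
  obtain ⟨e⟩ := nonempty_iso F F'
  have hnat : ∀ {X Y : C} (g : X ⟶ Y) (x : F.obj X), φ.app Y (F.map g x) = F'.map g (φ.app X x) :=
    fun g x => ConcreteCategory.congr_hom (φ.naturality g) x
  have hgal : ∀ (A : C) [IsGalois A], Function.Surjective (φ.app A) := by
    intro A _ z
    obtain ⟨a⟩ := nonempty_fiber_of_isConnected F A
    have := isPretransitive_of_isGalois F' A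
    obtain ⟨σ, hσ⟩ := MulAction.exists_smul_eq (Aut A) (φ.app A a) z
    exact ⟨F.map σ.hom a, (hnat σ.hom a).trans hσ⟩
  have hconn : ∀ (X : C) [IsConnected X], Function.Surjective (φ.app X) := by
    intro X _ z
    obtain ⟨x⟩ := nonempty_fiber_of_isConnected F X
    obtain ⟨A, f, a, hgalA, -⟩ := exists_hom_from_galois_of_fiber F X x
    obtain ⟨b, rfl⟩ := surjective_of_nonempty_fiber_of_isConnected F' f z
    obtain ⟨c, rfl⟩ := hgal A b
    exact ⟨F.map f c, hnat f c⟩
  have hsurj : ∀ X : C, Function.Surjective (φ.app X) := by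
    intro X z
    obtain ⟨Z, i, z', rfl, hZ, -⟩ := fiber_in_connected_component F' X z
    obtain ⟨c, rfl⟩ := hconn Z z'
    exact ⟨F.map i c, hnat i c⟩
  have : ∀ X, IsIso (φ.app X) := fun X => by
    have : IsIso (FintypeCat.incl.map (φ.app X)) := by
      rw [CategoryTheory.isIso_iff_bijective]
      exact (hsurj X).bijective_of_nat_card_le
        (Nat.card_congr (FintypeCat.equivEquivIso.symm (e.app X))).ge
    exact isIso_of_fully_faithful FintypeCat.incl _
  exact NatIso.isIso_of_isIso_app φ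

variable {X : Scheme.{u}} [ConnectedSpace X] {Ω Ω' : Type u} [Field Ω] [IsAlgClosed Ω] [Field Ω']
  [IsAlgClosed Ω'] (ξ : Spec (CommRingCat.of Ω) ⟶ X) (ξ' : Spec (CommRingCat.of Ω') ⟶ X)

theorem galoisCategory : GaloisCategory (FEt.Cat X) :=
  let ⟨x⟩ := (inferInstance : Nonempty X)
  { hasFiberFunctor := ⟨_, ⟨GaloisCat.fiberFunctor (Spec.map (CommRingCat.ofHom
      (algebraMap (X.residueField x) (AlgebraicClosure (X.residueField x)))) ≫
        X.fromSpecResidueField x)⟩⟩ }

theorem nonempty_fiber_iso : Nonempty (FEt.fiber ξ ≅ FEt.fiber ξ') := by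
  have := galoisCategory (X := X)
  have := GaloisCat.fiberFunctor ξ
  have := GaloisCat.fiberFunctor ξ'
  obtain ⟨e⟩ := nonempty_iso (FiberFunctor.fintypeFiber ξ') (FiberFunctor.fintypeFiber ξ)
  exact ⟨(FiberFunctor.fintypeFiberIso ξ).symm ≪≫ Functor.isoWhiskerRight e FintypeCat.incl ≪≫
    FiberFunctor.fintypeFiberIso ξ'⟩

theorem isIso_fiber_hom (φ : FEt.fiber ξ ⟶ FEt.fiber ξ') : IsIso φ := by
  have := galoisCategory (X := X)
  have := GaloisCat.fiberFunctor ξ
  have := GaloisCat.fiberFunctor ξ'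
  let ψ : FiberFunctor.fintypeFiber ξ ⟶ FiberFunctor.fintypeFiber ξ' :=
    { app := fun Y => FintypeCat.homMk (φ.app Y)
      naturality := fun Y Y' g => by ext x; exact ConcreteCategory.congr_hom (φ.naturality g) x }
  have hψ : IsIso ψ := isIso_of_fiberFunctor _ _ ψ
  have : ∀ Y, IsIso (φ.app Y) := fun Y => by
    have : IsIso (ψ.app Y) := @NatIso.isIso_app_of_isIso _ _ _ _ _ _ ψ hψ Y
    have : IsIso (FintypeCat.incl.map (ψ.app Y)) := Functor.map_isIso _ _
    rw [CategoryTheory.isIso_iff_bijective]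
    exact (CategoryTheory.isIso_iff_bijective (FintypeCat.incl.map (ψ.app Y))).mp inferInstance
  exact NatIso.isIso_of_isIso_app φ

end Groth.Agent.Lib.FEt.FiberUnique
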