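import Mathlib.AlgebraicGeometry.Geometrically.Connected
import Mathlib.AlgebraicGeometry.Geometrically.Irreducible
import Groth.Agent.Lib.GeomConn.Geometric
import Groth.Agent.Lib.FEt.FullyFaithful

/-!
# Base change along geometrically connected morphisms
-/

universe u

open CategoryTheory CategoryTheory.Limits AlgebraicGeometry

namespace Groth.Agent.Lib.FEt.GeomConn

/-- A clopen subset is the preimage of its image if the fibres are connected. -/
theorem preimage_image_of_connected_fibres {A B : Type*} [TopologicalSpace A] (f : A → B)
    (hf : ∀ b, IsPreconnected (f ⁻¹' {b})) {C : Set A} (hC : IsClopen C) : f ⁻¹' (f '' C) = C := by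
  refine Set.Subset.antisymm ?_ (Set.subset_preimage_image f C)
  rintro a ⟨c, hc, hca⟩
  exact (hf (f a)).subset_isClopen hC ⟨c, hca, hc⟩ rfl

theorem image_compl_of_connected_fibres {A B : Type*} [TopologicalSpace A] (f : A → B)
    (hs : Function.Surjective f) (hf : ∀ b, IsPreconnected (f ⁻¹' {b})) {C : Set A}
    (hC : IsClopen C) : f '' Cᶜ = (f '' C)ᶜ := by
  conv_lhs => rw [← preimage_image_of_connected_fibres f hf hC, ← Set.preimage_compl]
  exact Set.image_preimage_eq _ hs

theorem full_and_faithful_of_geometricallyConnected {X X' : Scheme.{u}} (g : X' ⟶ X)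
    [GeometricallyConnected g] [UniversallyOpen g] :
    (FEt.restrict g).Full ∧ (FEt.restrict g).Faithful := by
  refine FullyFaithful.full_and_faithful g (FullyFaithful.meetsClopens_of_surjective g) fun W C hC => ?_
  let q := pullback.fst W.hom g
  have : GeometricallyConnected q := inferInstanceAs (GeometricallyConnected (pullback.fst W.hom g))
  have : UniversallyOpen q := inferInstanceAs (UniversallyOpen (pullback.fst W.hom g))
  have hf : ∀ b, _root_.IsPreconnected (q.base ⁻¹' {b}) := fun b =>
    (q.isConnected_preimage_singleton b).isPreconnected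
  refine ⟨q.base '' C, ⟨?_, q.isOpenMap _ hC.2⟩, preimage_image_of_connected_fibres _ hf hC⟩
  rw [← isOpen_compl_iff, ← image_compl_of_connected_fibres q.base q.surjective hf hC]
  exact q.isOpenMap _ hC.compl.2

theorem geometricallyConnected_of_algClosure (k : Type u) [Field k] {X : Scheme.{u}}
    (f : X ⟶ Spec (CommRingCat.of k))
    [h : ConnectedSpace ↥(pullback f
      (Spec.map (CommRingCat.ofHom (algebraMap k (AlgebraicClosure k)))))] :
    GeometricallyConnected f := by
  let : X.Over (Spec (CommRingCat.of k)) := ⟨f⟩
  have : ConnectedSpace (Curv2.bc k X (AlgebraicClosure k)) := h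
  exact (Groth.Agent.Lib.GeomConn.Geometric.geometricallyConnected_iff_sepClosure k X).mpr
    (Groth.Agent.Lib.GeomConn.Geometric.connectedSpace_bc_of_tower k X _ (AlgebraicClosure k))

theorem universallyOpen_to_spec_field (k : Type u) [Field k] {X : Scheme.{u}}
    (f : X ⟶ Spec (CommRingCat.of k)) : UniversallyOpen f := inferInstance

theorem geometricallyConnected_of_connected_isAlgClosed (k : Type u) [Field k] [IsAlgClosed k]
    {X : Scheme.{u}} (f : X ⟶ Spec (CommRingCat.of k)) [ConnectedSpace X] :
    GeometricallyConnected f := by
  have : IsIso (Spec.map (CommRingCat.ofHom (algebraMap k (AlgebraicClosure k)))) := by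
    have : IsIso (CommRingCat.ofHom (algebraMap k (AlgebraicClosure k))) :=
      (ConcreteCategory.isIso_iff_bijective _).mpr IsAlgClosed.algebraMap_bijective_of_isIntegral
    infer_instance
  have : ConnectedSpace ↥(pullback f
      (Spec.map (CommRingCat.ofHom (algebraMap k (AlgebraicClosure k))))) :=
    (Scheme.homeoOfIso (asIso (pullback.fst f
      (Spec.map (CommRingCat.ofHom (algebraMap k (AlgebraicClosure k))))))).connectedSpace_iff.mpr ‹_›
  exact geometricallyConnected_of_algClosure k f

/-- The product of connected schemes over an algebraically closed field is connected. -/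
theorem connectedSpace_pullback_of_isAlgClosed (k : Type u) [Field k] [IsAlgClosed k]
    {X Y : Scheme.{u}} (f : X ⟶ Spec (CommRingCat.of k)) (g : Y ⟶ Spec (CommRingCat.of k))
    [ConnectedSpace X] [ConnectedSpace Y] : ConnectedSpace ↥(pullback f g) := by
  have := geometricallyConnected_of_connected_isAlgClosed k f
  infer_instance

/-- Flat morphisms with irreducible geometric fibres preserve connectedness of finite etale covers
of an irreducible scheme. -/
theorem connectedSpace_pullback_of_geometricallyIrreducible {X W : Scheme.{u}} [IrreducibleSpace X]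
    (π : W ⟶ X) [Flat π] [GeometricallyIrreducible π] {Z : Scheme.{u}} (p : Z ⟶ X) [IsFinite p]
    [Etale p] [ConnectedSpace Z] : ConnectedSpace ↥(pullback p π) := by
  let q := pullback.fst p π
  have : GeometricallyIrreducible q := inferInstanceAs (GeometricallyIrreducible (pullback.fst p π))
  have : Flat q := inferInstanceAs (Flat (pullback.fst p π))
  have hfib : ∀ b, _root_.IsPreconnected (q.base ⁻¹' {b}) := fun b => by
    rw [← q.range_fiberι, ← Set.image_univ]
    exact ((IrreducibleSpace.isIrreducible_univ _).image _
      (q.fiberι b).continuous.continuousOn).isConnected.isPreconnected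
  have hgen : GeneralizingMap q.base := Flat.generalizingMap q
  have hnbr : ∀ (C : Set (pullback p π : Scheme.{u})), IsClopen C → ∀ a b : Z,
      a ⤳ b → b ∈ q.base '' C → a ∈ q.base '' C := by
    rintro C hC a b hab ⟨c, hc, rfl⟩
    obtain ⟨c', hcc', rfl⟩ := hgen hab
    exact ⟨c', hcc'.mem_open hC.2 hc, rfl⟩
  have hclosed : ∀ (C : Set (pullback p π : Scheme.{u})), IsClopen C → IsClosed (q.base '' C) := by
    intro C hC
    let η := genericPoint X
    have hfin : (p.base ⁻¹' {η} ∩ q.base '' C).Finite :=
      (p.finite_preimage_singleton η).subset Set.inter_subset_left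
    have heq : q.base '' C = ⋃ a ∈ p.base ⁻¹' {η} ∩ q.base '' C, closure {a} := by
      refine Set.Subset.antisymm (fun z hz => ?_) (Set.iUnion₂_subset fun a ha z hz => ?_)
      · obtain ⟨a, haz, ha⟩ := Flat.generalizingMap p (genericPoint_specializes (p.base z))
        exact Set.mem_biUnion ⟨ha, hnbr C hC a z haz hz⟩ (specializes_iff_mem_closure.mp haz)
      · by_contra hzn
        have hz' : z ∈ q.base '' Cᶜ := by
          rw [image_compl_of_connected_fibres q.base q.surjective hfib hC]; exact hzn
        have := hnbr Cᶜ hC.compl a z (specializes_iff_mem_closure.mpr hz) hz'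
        rw [image_compl_of_connected_fibres q.base q.surjective hfib hC] at this
        exact this ha.2
    rw [heq]
    exact hfin.isClosed_biUnion fun a _ => isClosed_closure
  have : Nonempty (pullback p π : Scheme.{u}) := by
    obtain ⟨z⟩ := (inferInstance : Nonempty Z)
    exact ⟨(q.surjective z).choose⟩
  have : PreconnectedSpace (pullback p π : Scheme.{u}) := by
    refine preconnectedSpace_iff_clopen.mpr fun C hC => ?_
    have hD : IsClopen (q.base '' C) := ⟨hclosed C hC, by
      rw [← isClosed_compl_iff, ← image_compl_of_connected_fibres q.base q.surjective hfib hC]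
      exact hclosed _ hC.compl⟩
    rw [← preimage_image_of_connected_fibres q.base hfib hC]
    rcases isClopen_iff.mp hD with h | h <;> rw [h]
    · exact Or.inl Set.preimage_empty
    · exact Or.inr Set.preimage_univ
  exact { toNonempty := ‹_› }

end Groth.Agent.Lib.FEt.GeomConn
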