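import Mathlib.CategoryTheory.Limits.MorphismProperty
import Groth.Agent.Lib.FEt.Basic

/-!
# Finite limits of finite etale covers
-/

universe u

open CategoryTheory CategoryTheory.Limits AlgebraicGeometry

namespace Groth.Agent.Lib.FEt.Limits

instance hasOfPostcompProperty : (FEt.prop.{u}).HasOfPostcompProperty FEt.prop.{u} where
  of_postcomp f g hg hfg := by
    have : IsFinite g := hg.1
    have : Etale g := hg.2
    have : IsFinite (f ≫ g) := hfg.1
    have : Etale (f ≫ g) := hfg.2
    exact ⟨IsFinite.of_comp f g, Etale.of_comp f g⟩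

instance hasFiniteLimits (X : Scheme.{u}) : HasFiniteLimits (FEt.Cat X) :=
  inferInstance

instance preservesFiniteLimits_restrict {X Y : Scheme.{u}} (f : X ⟶ Y) :
    PreservesFiniteLimits (FEt.restrict f) :=
  inferInstanceAs (PreservesFiniteLimits (MorphismProperty.Over.pullback FEt.prop.{u} ⊤ f))

end Groth.Agent.Lib.FEt.Limits
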