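import Mathlib.CategoryTheory.Limits.Constructions.FiniteProductsOfBinaryProducts
import Mathlib.AlgebraicGeometry.Limits
import Groth.Agent.Lib.FEt.Limits

/-!
# Finite coproducts of finite etale covers
-/

universe u

open CategoryTheory CategoryTheory.Limits AlgebraicGeometry

namespace Groth.Agent.Lib.FEt.Coproduct

variable {X : Scheme.{u}}

set_option backward.isDefEq.respectTransparency.types false in
theorem etale_coprodDesc {U V : Scheme.{u}} (f : U ⟶ X) (g : V ⟶ X) [Etale f] [Etale g] :
    Etale (coprod.desc f g) := by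
  rw [IsZariskiLocalAtSource.iff_of_openCover (P := @Etale) (coprodOpenCover.{u, 0} U V)]
  rintro (_ | _)
  · change Etale (coprod.inl ≫ coprod.desc f g)
    rw [coprod.inl_desc]; infer_instance
  · change Etale (coprod.inr ≫ coprod.desc f g)
    rw [coprod.inr_desc]; infer_instance

theorem prop_coprodDesc (Y Z : FEt.Cat X) : FEt.prop (coprod.desc Y.hom Z.hom) :=
  ⟨inferInstanceAs (IsFinite (coprod.desc Y.hom Z.hom)), etale_coprodDesc Y.hom Z.hom⟩

/-- The disjoint union of two finite etale covers. -/
noncomputable def sum (Y Z : FEt.Cat X) : FEt.Cat X :=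
  MorphismProperty.Over.mk ⊤ (coprod.desc Y.hom Z.hom) (prop_coprodDesc Y Z)

theorem desc_comp {Y Z W : FEt.Cat X} (a : Y ⟶ W) (b : Z ⟶ W) :
    coprod.desc a.left b.left ≫ W.hom = coprod.desc Y.hom Z.hom := by
  apply coprod.hom_ext
  · exact (coprod.inl_desc_assoc _ _ _).trans ((Over.w a.hom).trans (coprod.inl_desc _ _).symm)
  · exact (coprod.inr_desc_assoc _ _ _).trans ((Over.w b.hom).trans (coprod.inr_desc _ _).symm)

/-- The disjoint union, as a cofan. -/
noncomputable def sumCofan (Y Z : FEt.Cat X) : BinaryCofan Y Z :=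
  BinaryCofan.mk (P := sum Y Z)
    (MorphismProperty.Over.homMk coprod.inl (coprod.inl_desc _ _))
    (MorphismProperty.Over.homMk coprod.inr (coprod.inr_desc _ _))

/-- The disjoint union is a coproduct. -/
noncomputable def isColimitSumCofan (Y Z : FEt.Cat X) : IsColimit (sumCofan Y Z) :=
  BinaryCofan.isColimitMk
    (fun s => MorphismProperty.Over.homMk (coprod.desc s.inl.left s.inr.left : Y.left ⨿ Z.left ⟶ s.pt.left)
      (desc_comp s.inl s.inr))
    (fun s => by ext; exact coprod.inl_desc _ _)
    (fun s => by ext; exact coprod.inr_desc _ _)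
    (fun s m h₁ h₂ => by
      ext
      apply coprod.hom_ext
      · exact (congrArg (fun t => t.left) h₁).trans (coprod.inl_desc s.inl.left s.inr.left).symm
      · exact (congrArg (fun t => t.left) h₂).trans (coprod.inr_desc s.inl.left s.inr.left).symm)

instance hasBinaryCoproducts : HasBinaryCoproducts (FEt.Cat X) :=
  have : ∀ {Y Z : FEt.Cat X}, HasColimit (pair Y Z) :=
    @fun Y Z => HasColimit.mk ⟨_, isColimitSumCofan Y Z⟩
  hasBinaryCoproducts_of_hasColimit_pair _

theorem prop_of_isEmpty {U : Scheme.{u}} (f : U ⟶ X) [IsEmpty U] : FEt.prop f :=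
  ⟨inferInstanceAs (IsFinite f), inferInstanceAs (Etale f)⟩

/-- The empty cover. -/
noncomputable def empty (X : Scheme.{u}) : FEt.Cat X :=
  MorphismProperty.Over.mk ⊤ (initial.to X) (prop_of_isEmpty _)

/-- The empty cover is initial. -/
noncomputable def isInitialEmpty : IsInitial (empty X) :=
  IsInitial.ofUniqueHom (fun Y => MorphismProperty.Over.homMk (initial.to _) (initial.hom_ext _ _))
    fun Y m => by ext; exact initial.hom_ext _ _

instance hasInitial : HasInitial (FEt.Cat X) := isInitialEmpty.hasInitial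

instance hasFiniteCoproducts : HasFiniteCoproducts (FEt.Cat X) :=
  hasFiniteCoproducts_of_has_binary_and_initial

end Groth.Agent.Lib.FEt.Coproduct
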