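import Mathlib.Topology.Connected.TotallyDisconnected
import Mathlib.Topology.NoetherianSpace
import Mathlib.Topology.Separation.Connected
import Groth.Agent.Lib.FEt.FullyFaithful

/-!
# Full faithfulness from bijectivity on connected components
-/

universe u

open CategoryTheory CategoryTheory.Limits AlgebraicGeometry

namespace Groth.Agent.Lib.FEt.FullyFaithfulComp

theorem exists_clopen_preimage {A B : Type*} [TopologicalSpace A] [TopologicalSpace B]
    [DiscreteTopology (ConnectedComponents B)] {f : A → B} (hf : Continuous f)
    (hinj : Function.Injective hf.connectedComponentsMap) {C : Set A} (hC : IsClopen C) :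
    ∃ D : Set B, IsClopen D ∧ f ⁻¹' D = C := by
  refine ⟨ConnectedComponents.mk ⁻¹' (hf.connectedComponentsMap '' (ConnectedComponents.mk '' C)),
    IsClopen.preimage (isClopen_discrete _) ConnectedComponents.continuous_coe, ?_⟩
  ext a
  refine ⟨?_, fun ha => ⟨_, ⟨a, ha, rfl⟩, rfl⟩⟩
  rintro ⟨_, ⟨c, hc, rfl⟩, hca⟩
  have := hinj (show hf.connectedComponentsMap (ConnectedComponents.mk c) =
    hf.connectedComponentsMap (ConnectedComponents.mk a) from hca)
  exact hC.connectedComponent_subset hc
    (ConnectedComponents.coe_eq_coe.mp this ▸ mem_connectedComponent)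

theorem discreteTopology_connectedComponents (B : Type*) [TopologicalSpace B]
    [TopologicalSpace.NoetherianSpace B] : DiscreteTopology (ConnectedComponents B) := by
  have : Finite (irreducibleComponents B) :=
    TopologicalSpace.NoetherianSpace.finite_irreducibleComponents.to_subtype
  have : Finite (ConnectedComponents B) := by
    refine Finite.of_surjective
      (fun Z : irreducibleComponents B => ConnectedComponents.mk (Z.2.1.nonempty.some)) fun c => ?_
    obtain ⟨x, rfl⟩ := ConnectedComponents.surjective_coe c
    refine ⟨⟨irreducibleComponent x, irreducibleComponent_mem_irreducibleComponents x⟩, ?_⟩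
    refine ConnectedComponents.coe_eq_coe'.mpr ?_
    exact isIrreducible_irreducibleComponent.isConnected.isPreconnected.subset_connectedComponent
      mem_irreducibleComponent (Set.Nonempty.some_mem _)
  infer_instance

theorem noetherianSpace_left {W X : Scheme.{u}} [IsNoetherian X] (p : W ⟶ X) [IsFinite p] :
    TopologicalSpace.NoetherianSpace W := by
  have : IsLocallyNoetherian W := LocallyOfFiniteType.isLocallyNoetherian p
  have : CompactSpace W := QuasiCompact.compactSpace_of_compactSpace p
  have : IsNoetherian W := {}
  infer_instance

theorem full_and_faithful_of_connectedComponents {X X₀ : Scheme.{u}} [IsNoetherian X] (i : X₀ ⟶ X)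
    (h : ∀ Y : FEt.Cat X,
      Function.Bijective (pullback.fst Y.hom i).continuous.connectedComponentsMap) :
    (FEt.restrict i).Full ∧ (FEt.restrict i).Faithful := by
  refine FullyFaithful.full_and_faithful i (fun s hs ⟨x, hx⟩ => ?_) fun W C hC => ?_
  · let T : FEt.Cat X := MorphismProperty.Over.mk ⊤ (𝟙 X) (FEt.prop.id_mem X)
    obtain ⟨c, hc⟩ := (h T).2 (ConnectedComponents.mk x)
    obtain ⟨t, rfl⟩ := ConnectedComponents.surjective_coe c
    refine ⟨i.base ((pullback.snd (𝟙 X) i).base t), ?_, ⟨_, rfl⟩⟩
    have h1 : i.base ((pullback.snd (𝟙 X) i).base t) = (pullback.fst (𝟙 X) i).base t :=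
      congrArg (fun f : (pullback (𝟙 X) i : Scheme.{u}) ⟶ X => f.base t)
        (pullback.condition.symm.trans (Category.comp_id _))
    rw [h1]
    exact hs.connectedComponent_subset hx (ConnectedComponents.coe_eq_coe'.mp hc)
  · have : TopologicalSpace.NoetherianSpace W.left := noetherianSpace_left (W := W.left) (X := X) W.hom
    have : DiscreteTopology (ConnectedComponents W.left) := discreteTopology_connectedComponents _
    exact @exists_clopen_preimage _ _ _ _ this _ (pullback.fst W.hom i).continuous (h W).1 _ hC

end Groth.Agent.Lib.FEt.FullyFaithfulComp
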