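import Mathlib.RingTheory.TotallySplit
import Mathlib.RingTheory.Flat.Localization
import Mathlib.RingTheory.Flat.EquationalCriterion
import Mathlib.RingTheory.Flat.FaithfullyFlat.Algebra
import Mathlib.RingTheory.Etale.Field
import Mathlib.RingTheory.Etale.Basic
import Mathlib.RingTheory.Kaehler.TensorProduct
import Mathlib.RingTheory.Nakayama
import Mathlib.RingTheory.Finiteness.ModuleFinitePresentation
import Mathlib.RingTheory.Artinian.Ring
import Mathlib.LinearAlgebra.Matrix.ToLin
import Mathlib.LinearAlgebra.FreeModule.PID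
import Mathlib.FieldTheory.IsAlgClosed.AlgebraicClosure

/-!
# The difference of two maps of finite etale algebras has projective cokernel
-/

universe u

open scoped TensorProduct

namespace Groth.Agent.Lib.FEt.SplitEq

/-- A linear map is regular if `d ∘ s ∘ d = d` for some `s`. -/
def Regular {R M N : Type*} [CommRing R] [AddCommGroup M] [AddCommGroup N] [Module R M]
    [Module R N] (d : M →ₗ[R] N) : Prop :=
  ∃ s : N →ₗ[R] M, d ∘ₗ s ∘ₗ d = d

theorem regular_of_projective {R M N : Type*} [CommRing R] [AddCommGroup M] [AddCommGroup N]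
    [Module R M] [Module R N] [Module.Projective R N] (d : M →ₗ[R] N)
    [Module.Projective R (N ⧸ LinearMap.range d)] : Regular d := by
  obtain ⟨j, hj⟩ := Module.projective_lifting_property (LinearMap.range d).mkQ LinearMap.id
    (Submodule.mkQ_surjective _)
  let t : N →ₗ[R] LinearMap.range d :=
    LinearMap.codRestrict _ (LinearMap.id - j ∘ₗ (LinearMap.range d).mkQ) fun y => by
      rw [← Submodule.Quotient.mk_eq_zero]
      change (LinearMap.range d).mkQ (y - j ((LinearMap.range d).mkQ y)) = 0
      rw [map_sub, ← LinearMap.comp_apply (LinearMap.range d).mkQ j, hj, LinearMap.id_apply, sub_self]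
  obtain ⟨s, hs⟩ := Module.projective_lifting_property d.rangeRestrict t d.surjective_rangeRestrict
  refine ⟨s, LinearMap.ext fun x => ?_⟩
  have := congrArg Subtype.val (LinearMap.congr_fun hs (d x))
  change d (s (d x)) = d x - j ((LinearMap.range d).mkQ (d x)) at this
  rw [LinearMap.comp_apply, LinearMap.comp_apply, this, Submodule.mkQ_apply,
    (Submodule.Quotient.mk_eq_zero _).mpr (LinearMap.mem_range_self d x), map_zero, sub_zero]

theorem projective_of_regular {R M N : Type*} [CommRing R] [AddCommGroup M] [AddCommGroup N]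
    [Module R M] [Module R N] [Module.Projective R N] {d : M →ₗ[R] N} (h : Regular d) :
    Module.Projective R (N ⧸ LinearMap.range d) := by
  obtain ⟨s, hs⟩ := h
  refine Module.Projective.of_split
    ((LinearMap.range d).liftQ (LinearMap.id - d ∘ₗ s) ?_) (LinearMap.range d).mkQ ?_
  · rintro _ ⟨x, rfl⟩
    have := LinearMap.congr_fun hs x
    simp only [LinearMap.comp_apply] at this
    simp [this]
  · ext y
    simp

/-- Every map of free modules given by the difference of two functions of index sets is regular. -/
theorem regular_diff_int {m n : ℕ} (a b : Fin n → Fin m) :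
    Regular ((LinearMap.funLeft ℤ ℤ a) - (LinearMap.funLeft ℤ ℤ b)) := by
  set d := (LinearMap.funLeft ℤ ℤ a) - (LinearMap.funLeft ℤ ℤ b)
  have happ : ∀ x j, d x j = x (a j) - x (b j) := fun x j => rfl
  have htf : Module.IsTorsionFree ℤ ((Fin n → ℤ) ⧸ LinearMap.range d) := by
    refine Module.IsTorsionFree.mk fun k hk q₁ q₂ hq => ?_
    obtain ⟨y, hy⟩ := Submodule.Quotient.mk_surjective _ (q₁ - q₂)
    rw [← sub_eq_zero, ← hy, Submodule.Quotient.mk_eq_zero]
    have hky : k • y ∈ LinearMap.range d := by
      rw [← Submodule.Quotient.mk_eq_zero, Submodule.Quotient.mk_smul, hy, smul_sub]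
      exact sub_eq_zero.mpr hq
    obtain ⟨x, hx⟩ := hky
    have hk0 : k ≠ 0 := IsRegular.ne_zero hk
    refine ⟨fun i => x i / k, funext fun j => ?_⟩
    have hj : x (a j) - x (b j) = k * y j := by rw [← happ, hx]; rfl
    rw [happ, show x (a j) = x (b j) + k * y j by omega, Int.add_mul_ediv_left _ _ hk0]
    omega
  exact regular_of_projective d

theorem regular_diff {L : Type*} [CommRing L] {m n : ℕ} (a b : Fin n → Fin m) :
    Regular ((LinearMap.funLeft L L a) - (LinearMap.funLeft L L b)) := by
  classical
  obtain ⟨s, hs⟩ := regular_diff_int a b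
  let D : Matrix (Fin n) (Fin m) ℤ :=
    LinearMap.toMatrix' ((LinearMap.funLeft ℤ ℤ a) - (LinearMap.funLeft ℤ ℤ b))
  have hD : D * LinearMap.toMatrix' s * D = D := by
    rw [← LinearMap.toMatrix'_comp, ← LinearMap.toMatrix'_comp, LinearMap.comp_assoc, hs]
  have hDL : (LinearMap.funLeft L L a) - (LinearMap.funLeft L L b) =
      Matrix.toLin' (D.map (Int.castRingHom L)) := by
    apply LinearMap.toMatrix'.injective
    rw [LinearMap.toMatrix'_toLin']
    ext j i
    simp [D, LinearMap.toMatrix'_apply, LinearMap.funLeft_apply, Pi.single_apply]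
  refine ⟨Matrix.toLin' ((LinearMap.toMatrix' s).map (Int.castRingHom L)), ?_⟩
  rw [hDL, ← Matrix.toLin'_mul, ← Matrix.toLin'_mul, ← Matrix.mul_assoc, ← Matrix.map_mul,
    ← Matrix.map_mul, hD]

/-- An algebra map `Lⁱ → Lʲ` over a local ring comes from a map of the index sets. -/
theorem exists_eq_funLeft {L : Type*} [CommRing L] [IsLocalRing L] {m n : ℕ}
    (φ : (Fin m → L) →ₐ[L] (Fin n → L)) :
    ∃ a : Fin n → Fin m, φ.toLinearMap = LinearMap.funLeft L L a := by
  classical
  have hone : ∀ j, ∃ i, φ (Pi.single i 1) j = 1 := by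
    intro j
    have hsum : ∑ i, φ (Pi.single i (1 : L)) j = 1 := by
      have h := congrArg (fun f => φ f j) (Finset.univ_sum_single (1 : Fin m → L))
      simp only [Pi.one_apply, map_sum, Finset.sum_apply, map_one] at h
      exact h
    have hid : ∀ i, φ (Pi.single i (1 : L)) j = 0 ∨ φ (Pi.single i (1 : L)) j = 1 := fun i => by
      have h : IsIdempotentElem (φ (Pi.single i (1 : L)) j) := by
        unfold IsIdempotentElem
        rw [← Pi.mul_apply, ← map_mul, ← Pi.single_mul, one_mul]
      rcases IsLocalRing.isUnit_or_isUnit_one_sub_self (φ (Pi.single i (1 : L)) j) with hu | hu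
      · exact Or.inr ((IsIdempotentElem.iff_eq_one_of_isUnit hu).mp h)
      · refine Or.inl ?_
        have := (IsIdempotentElem.iff_eq_one_of_isUnit hu).mp h.one_sub
        exact sub_eq_self.mp this
    by_contra! hno
    rw [Finset.sum_eq_zero fun i _ => (hid i).resolve_right (hno i)] at hsum
    exact zero_ne_one hsum
  choose a ha using hone
  refine ⟨a, LinearMap.ext fun x => funext fun j => ?_⟩
  have hx : (x - x (a j) • (1 : Fin m → L)) * Pi.single (a j) (1 : L) = 0 := by
    ext i
    by_cases hi : i = a j
    · subst hi; simp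
    · simp [Pi.single_eq_of_ne hi]
  have := congrFun (congrArg φ hx) j
  simp only [map_mul, map_sub, map_smul, map_one, map_zero, Pi.mul_apply, Pi.sub_apply,
    Pi.smul_apply, Pi.one_apply, Pi.zero_apply, smul_eq_mul, mul_one, ha j] at this
  exact sub_eq_zero.mp this

theorem regular_sub_of_split {L A B : Type*} [CommRing L] [IsLocalRing L] [CommRing A] [CommRing B]
    [Algebra L A] [Algebra L B] [Algebra.IsFiniteSplit L A] [Algebra.IsFiniteSplit L B]
    (f g : A →ₐ[L] B) : Regular (f.toLinearMap - g.toLinearMap) := by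
  obtain ⟨m, ⟨eA⟩⟩ := Algebra.IsFiniteSplit.nonempty_algEquiv_fun L A
  obtain ⟨n, ⟨eB⟩⟩ := Algebra.IsFiniteSplit.nonempty_algEquiv_fun L B
  obtain ⟨a, ha⟩ := exists_eq_funLeft ((eB.toAlgHom.comp f).comp eA.symm.toAlgHom)
  obtain ⟨b, hb⟩ := exists_eq_funLeft ((eB.toAlgHom.comp g).comp eA.symm.toAlgHom)
  obtain ⟨s, hs⟩ := regular_diff (L := L) a b
  refine ⟨eA.symm.toLinearMap ∘ₗ s ∘ₗ eB.toLinearMap, LinearMap.ext fun x => ?_⟩
  apply eB.injective
  rw [← ha, ← hb] at hs
  simpa using LinearMap.congr_fun hs (eA x)

section Descent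

theorem finitePresentation_of_etale (R A : Type u) [CommRing R] [CommRing A] [Algebra R A]
    [Module.Finite R A] [Algebra.Etale R A] : Module.FinitePresentation R A :=
  Module.FinitePresentation.of_finite_of_finitePresentation R A

attribute [local instance] finitePresentation_of_etale

variable {R : Type u} [CommRing R] {A B : Type u} [CommRing A] [CommRing B] [Algebra R A]
  [Algebra R B] [Module.Finite R A] [Algebra.Etale R A] [Module.Finite R B] [Algebra.Etale R B]

theorem exists_split_extension (L₀ : Type u) [CommRing L₀] [IsLocalRing L₀] (S : Type u)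
    [CommRing S] [Algebra L₀ S] [Module.Finite L₀ S] [Algebra.Etale L₀ S] :
    ∃ (L : Type u) (_ : CommRing L) (_ : IsLocalRing L) (_ : Algebra L₀ L),
      Module.FaithfullyFlat L₀ L ∧ Algebra.IsFiniteSplit L (L ⊗[L₀] S) := by
  have : Module.Free L₀ S := Module.free_of_flat_of_isLocalRing
  obtain ⟨T, _, _, _, _, _, hsplit⟩ := Algebra.IsFiniteSplit.exists_tensorProduct_of_etale
    (R := L₀) (S := S) (n := Module.finrank L₀ S) (Module.rankAtStalk_eq_finrank_of_free)
  obtain ⟨q, hqp, hqo⟩ :=
    Ideal.exists_isPrime_liesOver_of_faithfullyFlat (B := T) (IsLocalRing.maximalIdeal L₀)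
  let L := Localization.AtPrime q
  have : IsLocalHom (algebraMap L₀ L) := by
    refine ((IsLocalRing.local_hom_TFAE (algebraMap L₀ L)).out 0 4).mpr ?_
    rw [IsScalarTower.algebraMap_eq L₀ T L, ← Ideal.comap_comap]
    change Ideal.comap (algebraMap L₀ T) ((IsLocalRing.maximalIdeal L).under T) = _
    rw [Localization.AtPrime.under_maximalIdeal]
    exact hqo.over.symm
  have : Module.Flat L₀ L := Module.Flat.trans L₀ T L
  refine ⟨L, inferInstance, inferInstance, inferInstance,
    Module.FaithfullyFlat.of_flat_of_isLocalHom, ?_⟩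
  exact Algebra.IsFiniteSplit.of_algEquiv (Algebra.TensorProduct.cancelBaseChange L₀ T L L S)

/-- A faithfully flat local extension of a local ring splitting two finite etale algebras. -/
theorem exists_split_extension₂ (L₀ : Type u) [CommRing L₀] [IsLocalRing L₀] (S S' : Type u)
    [CommRing S] [Algebra L₀ S] [Module.Finite L₀ S] [Algebra.Etale L₀ S]
    [CommRing S'] [Algebra L₀ S'] [Module.Finite L₀ S'] [Algebra.Etale L₀ S'] :
    ∃ (L : Type u) (_ : CommRing L) (_ : IsLocalRing L) (_ : Algebra L₀ L),
      Module.FaithfullyFlat L₀ L ∧ Algebra.IsFiniteSplit L (L ⊗[L₀] S) ∧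
        Algebra.IsFiniteSplit L (L ⊗[L₀] S') := by
  obtain ⟨L₁, _, _, _, _, hA⟩ := exists_split_extension L₀ S
  obtain ⟨L, _, _, _, _, hB⟩ := exists_split_extension L₁ (L₁ ⊗[L₀] S')
  let : Algebra L₀ L := ((algebraMap L₁ L).comp (algebraMap L₀ L₁)).toAlgebra
  have : IsScalarTower L₀ L₁ L := .of_algebraMap_eq fun _ => rfl
  refine ⟨L, inferInstance, inferInstance, inferInstance, Module.FaithfullyFlat.trans L₀ L₁ L, ?_,
    Algebra.IsFiniteSplit.of_algEquiv (Algebra.TensorProduct.cancelBaseChange L₀ L₁ L L S')⟩
  have : Algebra.IsFiniteSplit L (L ⊗[L₁] (L₁ ⊗[L₀] S)) := inferInstance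
  exact Algebra.IsFiniteSplit.of_algEquiv (Algebra.TensorProduct.cancelBaseChange L₀ L₁ L L S)

/-- Base change of the difference of two algebra maps. -/
theorem baseChange_sub_toLinearMap (T : Type u) [CommRing T] [Algebra R T] (f g : A →ₐ[R] B) :
    (f.toLinearMap - g.toLinearMap).baseChange T =
      (Algebra.TensorProduct.map (AlgHom.id T T) f).toLinearMap -
        (Algebra.TensorProduct.map (AlgHom.id T T) g).toLinearMap := by
  ext a
  simp

theorem flat_coker_of_baseChange {L : Type u} [CommRing L] [Algebra R L]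
    (d : A →ₗ[R] B) (h : Regular (d.baseChange L)) :
    Module.Flat L (L ⊗[R] (B ⧸ LinearMap.range d)) := by
  have : Module.Projective R B := Module.Flat.projective_of_finitePresentation
  have := projective_of_regular h
  have hex : Function.Exact (LinearMap.lTensor L d) (LinearMap.lTensor L (LinearMap.range d).mkQ) :=
    lTensor_exact L (LinearMap.exact_map_mkQ_range d) (Submodule.mkQ_surjective _)
  have hker : LinearMap.range (d.baseChange L) = LinearMap.ker ((LinearMap.range d).mkQ.baseChange L) :=
    SetLike.coe_injective (Set.ext fun z => (hex z).symm)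
  have hsurj : Function.Surjective ((LinearMap.range d).mkQ.baseChange L) :=
    LinearMap.lTensor_surjective L (Submodule.mkQ_surjective (LinearMap.range d))
  exact Module.Flat.of_linearEquiv
    ((Submodule.quotEquivOfEq _ _ hker).trans
      (LinearMap.quotKerEquivOfSurjective _ hsurj)).symm

set_option maxHeartbeats 1000000 in
set_option synthInstance.maxHeartbeats 400000 in
set_option synthInstance.maxSize 1024 in
theorem projective_coker (f g : A →ₐ[R] B) :
    Module.Projective R (B ⧸ LinearMap.range (f.toLinearMap - g.toLinearMap)) := by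
  set d := f.toLinearMap - g.toLinearMap with hd
  have hfp : Module.FinitePresentation R (B ⧸ LinearMap.range d) := by
    refine Module.finitePresentation_of_surjective _ (Submodule.mkQ_surjective _) ?_
    rw [Submodule.ker_mkQ, LinearMap.range_eq_map]
    exact Module.Finite.fg_top.map d
  suffices Module.Flat R (B ⧸ LinearMap.range d) from Module.Flat.projective_of_finitePresentation
  refine Module.flat_of_localized_maximal _ (fun P _ => ?_)
  let R₀ := Localization.AtPrime P
  obtain ⟨L, _, _, _, _, hA, hB⟩ := exists_split_extension₂ R₀ (R₀ ⊗[R] A) (R₀ ⊗[R] B)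
  let : Algebra R L := ((algebraMap R₀ L).comp (algebraMap R R₀)).toAlgebra
  have : IsScalarTower R R₀ L := .of_algebraMap_eq fun _ => rfl
  have hA' : Algebra.IsFiniteSplit L (L ⊗[R] A) :=
    Algebra.IsFiniteSplit.of_algEquiv (Algebra.TensorProduct.cancelBaseChange R R₀ L L A)
  have hB' : Algebra.IsFiniteSplit L (L ⊗[R] B) :=
    Algebra.IsFiniteSplit.of_algEquiv (Algebra.TensorProduct.cancelBaseChange R R₀ L L B)
  have hreg : Regular (d.baseChange L) := by
    rw [hd, baseChange_sub_toLinearMap]
    exact regular_sub_of_split _ _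
  have := flat_coker_of_baseChange d hreg
  have : Module.Flat L (L ⊗[R₀] (R₀ ⊗[R] (B ⧸ LinearMap.range d))) :=
    Module.Flat.of_linearEquiv (TensorProduct.AlgebraTensorModule.cancelBaseChange R R₀ L L _)
  have : Module.Flat R₀ (R₀ ⊗[R] (B ⧸ LinearMap.range d)) := Module.Flat.of_flat_tensorProduct R₀ _ L
  have : Module.Flat R (R₀ ⊗[R] (B ⧸ LinearMap.range d)) := Module.Flat.trans R R₀ _
  exact Module.Flat.of_linearEquiv
    ((LocalizedModule.equivTensorProduct P.primeCompl (B ⧸ LinearMap.range d)).restrictScalars R)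

theorem regular_sub (f g : A →ₐ[R] B) : Regular (f.toLinearMap - g.toLinearMap) := by
  have : Module.Projective R B := Module.Flat.projective_of_finitePresentation
  have := projective_coker f g
  exact regular_of_projective _

/-- The equalizer of two maps of finite etale algebras is a retract. -/
theorem exists_retraction (f g : A →ₐ[R] B) :
    ∃ r : A →ₗ[R] (AlgHom.equalizer f g), r ∘ₗ (AlgHom.equalizer f g).val.toLinearMap = LinearMap.id ∧
      ∀ (T : Type u) [CommRing T] [Algebra R T] (z : T ⊗[R] A),
        Algebra.TensorProduct.map (AlgHom.id T T) f z = Algebra.TensorProduct.map (AlgHom.id T T) g z →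
          ((AlgHom.equalizer f g).val.toLinearMap.baseChange T) (r.baseChange T z) = z := by
  obtain ⟨s, hs⟩ := regular_sub f g
  set d := f.toLinearMap - g.toLinearMap with hd
  let r : A →ₗ[R] (AlgHom.equalizer f g) :=
    LinearMap.codRestrict (Subalgebra.toSubmodule (AlgHom.equalizer f g)) (LinearMap.id - s ∘ₗ d)
      fun a => by
        have := LinearMap.congr_fun hs a
        simp only [LinearMap.comp_apply] at this
        change f (a - s (d a)) = g (a - s (d a))
        rw [← sub_eq_zero]
        change d (a - s (d a)) = 0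
        rw [map_sub, this, sub_self]
  refine ⟨r, LinearMap.ext fun x => Subtype.ext ?_, fun T _ _ z hz => ?_⟩
  · have : d (x : A) = 0 := sub_eq_zero.mpr x.2
    change (x : A) - s (d x) = x
    rw [this, map_zero, sub_zero]
  · have h0 : d.baseChange T z = 0 := by
      rw [hd, baseChange_sub_toLinearMap, LinearMap.sub_apply]
      exact sub_eq_zero.mpr hz
    rw [← LinearMap.comp_apply, ← LinearMap.baseChange_comp,
      show (AlgHom.equalizer f g).val.toLinearMap ∘ₗ r = LinearMap.id - s ∘ₗ d from rfl,
      LinearMap.baseChange_sub, LinearMap.baseChange_comp, LinearMap.sub_apply,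
      LinearMap.comp_apply, h0, map_zero, sub_zero, LinearMap.baseChange_id]
    rfl

theorem finite_equalizer (f g : A →ₐ[R] B) : Module.Finite R (AlgHom.equalizer f g) := by
  obtain ⟨r, hr, -⟩ := exists_retraction f g
  exact Module.Finite.of_surjective r fun x => ⟨x, LinearMap.congr_fun hr x⟩

theorem projective_equalizer (f g : A →ₐ[R] B) : Module.Projective R (AlgHom.equalizer f g) := by
  have : Module.Projective R A := Module.Flat.projective_of_finitePresentation
  obtain ⟨r, hr, -⟩ := exists_retraction f g
  exact Module.Projective.of_split _ r hr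

/-- Base change of the inclusion of the equalizer is injective, with image the equalizer. -/
theorem baseChange_equalizer (f g : A →ₐ[R] B) (T : Type u) [CommRing T] [Algebra R T] :
    Function.Injective (Algebra.TensorProduct.map (AlgHom.id T T) (AlgHom.equalizer f g).val) ∧
      ∀ z, Algebra.TensorProduct.map (AlgHom.id T T) f z = Algebra.TensorProduct.map (AlgHom.id T T) g z ↔
        z ∈ Set.range (Algebra.TensorProduct.map (AlgHom.id T T) (AlgHom.equalizer f g).val) := by
  obtain ⟨r, hr, hrT⟩ := exists_retraction f g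
  have heq : (Algebra.TensorProduct.map (AlgHom.id T T) (AlgHom.equalizer f g).val).toLinearMap =
      (AlgHom.equalizer f g).val.toLinearMap.baseChange T := by
    ext x
    simp
  refine ⟨fun x y hxy => ?_, fun z => ⟨fun hz => ⟨r.baseChange T z, ?_⟩, ?_⟩⟩
  · have h1 : (r.baseChange T) ∘ₗ ((AlgHom.equalizer f g).val.toLinearMap.baseChange T) = LinearMap.id := by
      rw [← LinearMap.baseChange_comp, hr, LinearMap.baseChange_id]
    have := congrArg (r.baseChange T) hxy
    rw [← AlgHom.toLinearMap_apply, ← AlgHom.toLinearMap_apply, heq, ← LinearMap.comp_apply,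
      ← LinearMap.comp_apply, h1] at this
    exact this
  · rw [← AlgHom.toLinearMap_apply, heq]
    exact hrT T z hz
  · rintro ⟨x, rfl⟩
    rw [← AlgHom.comp_apply, ← AlgHom.comp_apply, ← Algebra.TensorProduct.map_comp,
      ← Algebra.TensorProduct.map_comp,
      show f.comp (AlgHom.equalizer f g).val = g.comp (AlgHom.equalizer f g).val from
        AlgHom.ext fun y => y.2]

end Descent

end Groth.Agent.Lib.FEt.SplitEq
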