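import Mathlib.RingTheory.Smooth.Fiber
import Groth.Agent.Lib.FEt.SplitEq

/-!
# The equalizer of two maps of finite etale algebras is finite etale
-/

universe u

open scoped TensorProduct

namespace Groth.Agent.Lib.FEt.Equalizer

attribute [local instance] SplitEq.finitePresentation_of_etale Algebra.TensorProduct.rightAlgebra

/-- A reduced finite algebra over an algebraically closed field is formally unramified. -/
theorem formallyUnramified_of_isReduced (k : Type u) [Field k] [IsAlgClosed k] (A : Type u)
    [CommRing A] [Algebra k A] [Module.Finite k A] [IsReduced A] :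
    Algebra.FormallyUnramified k A := by
  have : IsArtinianRing A := IsArtinianRing.of_finite k A
  let e : A ≃ₐ[k] (∀ I : MaximalSpectrum A, A ⧸ I.asIdeal) :=
    (IsArtinianRing.equivPi A).restrictScalars k
  let q : ∀ I : MaximalSpectrum A, k ≃ₐ[k] A ⧸ I.asIdeal := fun I =>
    haveI : I.asIdeal.IsMaximal := I.isMaximal
    AlgEquiv.ofBijective (Algebra.ofId k (A ⧸ I.asIdeal))
      IsAlgClosed.algebraMap_bijective_of_isIntegral
  have : Algebra.IsFiniteSplit k A :=
    Algebra.IsFiniteSplit.of_algEquiv (e.trans (AlgEquiv.piCongrRight fun I => (q I).symm)).symm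
  infer_instance

variable {R : Type u} [CommRing R] {A B : Type u} [CommRing A] [CommRing B] [Algebra R A]
  [Algebra R B] [Module.Finite R A] [Algebra.Etale R A] [Module.Finite R B] [Algebra.Etale R B]

theorem formallyUnramified_equalizer (f g : A →ₐ[R] B) :
    Algebra.FormallyUnramified R (AlgHom.equalizer f g) := by
  have := SplitEq.finite_equalizer f g
  have : Algebra.FiniteType R (AlgHom.equalizer f g) := inferInstance
  have : Module.Finite R Ω[(AlgHom.equalizer f g)⁄R] :=
    Module.Finite.trans (AlgHom.equalizer f g) _
  refine ⟨?_⟩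
  rw [← Module.support_eq_empty_iff (R := R)]
  refine Set.eq_empty_iff_forall_notMem.mpr fun p hp => ?_
  rw [Module.mem_support_iff_nontrivial_residueField_tensorProduct] at hp
  let κ := p.asIdeal.ResidueField
  let k := AlgebraicClosure κ
  obtain ⟨hinj, -⟩ := SplitEq.baseChange_equalizer f g k
  have : IsReduced (k ⊗[R] A) := Algebra.FormallyUnramified.isReduced_of_field k (k ⊗[R] A)
  have hred : IsReduced (k ⊗[R] (AlgHom.equalizer f g)) := isReduced_of_injective _ hinj
  have := formallyUnramified_of_isReduced k (k ⊗[R] (AlgHom.equalizer f g))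
  have hsub : Subsingleton (k ⊗[R] Ω[(AlgHom.equalizer f g)⁄R]) :=
    (KaehlerDifferential.tensorKaehlerEquivBase R k (AlgHom.equalizer f g)
      (k ⊗[R] (AlgHom.equalizer f g))).toEquiv.subsingleton
  have : Subsingleton (k ⊗[κ] (κ ⊗[R] Ω[(AlgHom.equalizer f g)⁄R])) :=
    (TensorProduct.AlgebraTensorModule.cancelBaseChange R κ k k _).toEquiv.subsingleton
  have : Subsingleton (κ ⊗[R] Ω[(AlgHom.equalizer f g)⁄R]) :=
    (Module.FaithfullyFlat.subsingleton_tensorProduct_iff_right (R := κ) (M := k)).mp this
  exact not_nontrivial _ hp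

theorem etale_equalizer (f g : A →ₐ[R] B) : Algebra.Etale R (AlgHom.equalizer f g) := by
  have := formallyUnramified_equalizer f g
  have := SplitEq.finite_equalizer f g
  have := SplitEq.projective_equalizer f g
  have : Module.FinitePresentation R (AlgHom.equalizer f g) :=
    Module.finitePresentation_of_projective _ _
  have : Algebra.FinitePresentation R (AlgHom.equalizer f g) :=
    Algebra.FinitePresentation.of_finitePresentation _ _
  exact Algebra.Etale.of_formallyUnramified_of_flat

end Groth.Agent.Lib.FEt.Equalizer
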