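import Mathlib.RingTheory.Localization.Away.Basic
import Mathlib.RingTheory.RingHom.Etale
import Mathlib.RingTheory.RingHom.Finite
import Groth.Agent.Lib.FEt.Equalizer

/-!
# The equalizer of two ring maps commutes with localization away
-/

universe u

namespace Groth.Agent.Lib.FEt.EqLocus

theorem isLocalization_eqLocus {A A' B B' : Type u} [CommRing A] [CommRing A'] [CommRing B]
    [CommRing B'] (f g : A →+* B) (f' g' : A' →+* B') (φ : A →+* A') (ψ : B →+* B')
    (hf : f'.comp φ = ψ.comp f) (hg : g'.comp φ = ψ.comp g) (a : A) (hag : f a = g a)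
    (hA : letI := φ.toAlgebra; IsLocalization.Away a A')
    (hB : letI := ψ.toAlgebra; IsLocalization.Away (f a) B')
    (χ : f.eqLocus g →+* f'.eqLocus g') (hχ : ∀ x, (χ x : A') = φ x) :
    let := χ.toAlgebra
    IsLocalization.Away (⟨a, hag⟩ : f.eqLocus g) (f'.eqLocus g') := by
  let := χ.toAlgebra
  let := φ.toAlgebra
  let := ψ.toAlgebra
  have hu : IsUnit (φ a) := IsLocalization.Away.algebraMap_isUnit (S := A') a
  have hfg : f' (φ a) = g' (φ a) := by
    rw [← RingHom.comp_apply, hf, ← RingHom.comp_apply g', hg, RingHom.comp_apply,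
      RingHom.comp_apply, hag]
  refine IsLocalization.Away.mk (⟨a, hag⟩ : f.eqLocus g) ?_ ?_ ?_
  · obtain ⟨v, hv⟩ := hu.exists_right_inv
    have hv' : f' v = g' v := by
      have h1 : f' (φ a) * f' v = 1 := by rw [← map_mul, hv, map_one]
      have h2 : f' (φ a) * g' v = 1 := by rw [hfg, ← map_mul, hv, map_one]
      exact (hu.map f').mul_left_cancel (h1.trans h2.symm)
    refine IsUnit.of_mul_eq_one ⟨v, hv'⟩ (Subtype.ext ?_)
    change (χ _ : A') * v = 1
    rw [hχ]; exact hv
  · intro b
    obtain ⟨n, c, hc⟩ := IsLocalization.Away.surj (S := A') a (b : A')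
    change (b : A') * φ a ^ n = φ c at hc
    have heq : ψ (f c) = ψ (g c) := by
      rw [← RingHom.comp_apply, ← hf, ← RingHom.comp_apply ψ, ← hg, RingHom.comp_apply,
        RingHom.comp_apply, ← hc, map_mul, map_mul, map_pow, map_pow, hfg]
      exact congrArg (· * _) b.2
    obtain ⟨m, hm⟩ := IsLocalization.Away.exists_of_eq (S := B') (f a) heq
    refine ⟨n + m, ⟨a ^ m * c, ?_⟩, Subtype.ext ?_⟩
    · change f (a ^ m * c) = g (a ^ m * c)
      rw [map_mul, map_mul, map_pow, map_pow, ← hag, hm]
    · change (b : A') * (χ _ : A') ^ (n + m) = χ _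
      rw [hχ, hχ]
      change (b : A') * φ a ^ (n + m) = φ (a ^ m * c)
      rw [map_mul, map_pow, ← hc]; ring
  · rintro x y h
    obtain ⟨n, hn⟩ := IsLocalization.Away.exists_of_eq (S := A') a
      (show φ x = φ y by rw [← hχ, ← hχ]; exact congrArg Subtype.val h)
    exact ⟨n, Subtype.ext hn⟩

variable {R A B : Type u} [CommRing R] [CommRing A] [CommRing B]

/-- The ring-hom version of `etale_equalizer` and `finite_equalizer`. -/
theorem finite_etale_eqLocus (p : R →+* A) (f g : A →+* B) (hfg : f.comp p = g.comp p)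
    (hA : p.Finite ∧ p.Etale) (hB : (f.comp p).Finite ∧ (f.comp p).Etale) :
    (p.codRestrict (f.eqLocus g) (fun x => RingHom.congr_fun hfg x)).Finite ∧
      (p.codRestrict (f.eqLocus g) (fun x => RingHom.congr_fun hfg x)).Etale := by
  algebraize [p, f.comp p]
  have : Module.Finite R A := hA.1
  have : Algebra.Etale R A := hA.2
  have : Module.Finite R B := hB.1
  have : Algebra.Etale R B := hB.2
  let f' : A →ₐ[R] B := { f with commutes' := fun _ => rfl }
  let g' : A →ₐ[R] B := { g with commutes' := fun r => (RingHom.congr_fun hfg r).symm }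
  let e : (AlgHom.equalizer f' g') ≃+* f.eqLocus g :=
    { toFun := fun x => ⟨x, x.2⟩
      invFun := fun x => ⟨x, x.2⟩
      map_mul' := fun _ _ => rfl
      map_add' := fun _ _ => rfl }
  have he : p.codRestrict (f.eqLocus g) (fun x => RingHom.congr_fun hfg x) =
      e.toRingHom.comp (algebraMap R (AlgHom.equalizer f' g')) := rfl
  rw [he]
  exact ⟨RingHom.finite_respectsIso.1 _ e
      (RingHom.finite_algebraMap.mpr (SplitEq.finite_equalizer f' g')),
    RingHom.Etale.propertyIsLocal.respectsIso.1 _ e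
      (RingHom.etale_algebraMap.mpr (Equalizer.etale_equalizer f' g'))⟩

end Groth.Agent.Lib.FEt.EqLocus
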