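import Mathlib.AlgebraicGeometry.Normalization
import Mathlib.AlgebraicGeometry.Morphisms.Finite
import Mathlib.AlgebraicGeometry.Morphisms.Etale
import Groth.Agent.Lib.FEt.EqLocus

/-!
# Coequalizers of pairs of affine morphisms over a scheme

For `f g : Y ⟶ Y'` over `X` with `Y`, `Y'` affine over `X`, glue the spectra of the equalizers
of `Γ(Y', π⁻¹U) ⇉ Γ(Y, π⁻¹U)`.
-/

set_option linter.unusedSectionVars false
set_option linter.overlappingInstances false

universe u

open CategoryTheory Limits AlgebraicGeometry Opposite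
open AlgebraicGeometry.Scheme.AffineZariskiSite

namespace Groth.Agent.Lib.FEt.Coequalizer

variable {X Y Y' : Scheme.{u}} (p : Y' ⟶ X) (f g : Y ⟶ Y') (hfg : f ≫ p = g ≫ p)

theorem le_f (U : X.Opens) : (f ≫ p) ⁻¹ᵁ U ≤ f ⁻¹ᵁ p ⁻¹ᵁ U := le_of_eq rfl

/-- `f` on sections over `U`. -/
noncomputable def fApp (U : X.Opens) : Γ(Y', p ⁻¹ᵁ U) ⟶ Γ(Y, (f ≫ p) ⁻¹ᵁ U) :=
  f.appLE (p ⁻¹ᵁ U) ((f ≫ p) ⁻¹ᵁ U) (le_f p f U)

include hfg in
theorem le_g (U : X.Opens) : (f ≫ p) ⁻¹ᵁ U ≤ g ⁻¹ᵁ p ⁻¹ᵁ U := by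
  rw [hfg]; rfl

/-- `g` on sections over `U`. -/
noncomputable def gApp (U : X.Opens) : Γ(Y', p ⁻¹ᵁ U) ⟶ Γ(Y, (f ≫ p) ⁻¹ᵁ U) :=
  g.appLE (p ⁻¹ᵁ U) ((f ≫ p) ⁻¹ᵁ U) (le_g p f g hfg U)

/-- Restriction on `Y'`. -/
noncomputable def res' {U V : X.Opens} (h : V ≤ U) : Γ(Y', p ⁻¹ᵁ U) ⟶ Γ(Y', p ⁻¹ᵁ V) :=
  Y'.presheaf.map (homOfLE (p.preimage_mono h)).op

/-- Restriction on `Y`. -/
noncomputable def res {U V : X.Opens} (h : V ≤ U) :
    Γ(Y, (f ≫ p) ⁻¹ᵁ U) ⟶ Γ(Y, (f ≫ p) ⁻¹ᵁ V) :=
  Y.presheaf.map (homOfLE ((f ≫ p).preimage_mono h)).op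

theorem res'_fApp {U V : X.Opens} (h : V ≤ U) :
    res' p h ≫ fApp p f V = fApp p f U ≫ res p f h := by
  simp only [res', res, fApp, Scheme.Hom.map_appLE, Scheme.Hom.appLE_map]

theorem res'_gApp {U V : X.Opens} (h : V ≤ U) :
    res' p h ≫ gApp p f g hfg V = gApp p f g hfg U ≫ res p f h := by
  simp only [res', res, gApp, Scheme.Hom.map_appLE, Scheme.Hom.appLE_map]

/-- The equalizer subring. -/
noncomputable def sub (U : X.Opens) : Subring Γ(Y', p ⁻¹ᵁ U) :=
  RingHom.eqLocus (fApp p f U).hom (gApp p f g hfg U).hom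

theorem res'_mem {U V : X.Opens} (h : V ≤ U) (x : sub p f g hfg U) :
    res' p h (x : Γ(Y', p ⁻¹ᵁ U)) ∈ sub p f g hfg V := by
  change fApp p f V (res' p h x.1) = gApp p f g hfg V (res' p h x.1)
  rw [← CommRingCat.comp_apply, res'_fApp, ← CommRingCat.comp_apply, res'_gApp,
    CommRingCat.comp_apply, CommRingCat.comp_apply]
  exact congrArg _ x.2

/-- The presheaf of equalizers. -/
noncomputable def diagram : X.Opensᵒᵖ ⥤ CommRingCat.{u} where
  obj U := .of (sub p f g hfg U.unop)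
  map {U V} i := CommRingCat.ofHom <|
    ((res' p i.unop.le).hom.comp (sub p f g hfg U.unop).subtype).codRestrict _
      (res'_mem p f g hfg i.unop.le)
  map_id U := by
    ext x
    change res' p le_rfl x.1 = x.1
    simp [res']
  map_comp {U V W} i j := by
    ext x
    change res' p (j.unop.le.trans i.unop.le) x.1 = res' p j.unop.le (res' p i.unop.le x.1)
    rw [← CommRingCat.comp_apply, res', res', res', ← Functor.map_comp, ← op_comp, homOfLE_comp]

theorem app_fApp (U : X.Opens) : p.app U ≫ fApp p f U = (f ≫ p).app U := by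
  rw [fApp, p.app_eq_appLE, (f ≫ p).app_eq_appLE]
  exact Scheme.Hom.appLE_comp_appLE _ _ _ _ _ _ _

theorem appLE_eq_of_eq {Z W : Scheme.{u}} {a b : Z ⟶ W} (h : a = b) (U : W.Opens) (V : Z.Opens)
    (ea : V ≤ a ⁻¹ᵁ U) (eb : V ≤ b ⁻¹ᵁ U) : a.appLE U V ea = b.appLE U V eb := by
  subst h; rfl

theorem app_gApp (U : X.Opens) : p.app U ≫ gApp p f g hfg U = (f ≫ p).app U := by
  rw [gApp, p.app_eq_appLE, (f ≫ p).app_eq_appLE]
  exact (Scheme.Hom.appLE_comp_appLE _ _ _ _ _ _ _).trans (appLE_eq_of_eq hfg.symm _ _ _ _)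

include hfg in
theorem app_mem (U : X.Opens) (x : Γ(X, U)) : p.app U x ∈ sub p f g hfg U := by
  change fApp p f U (p.app U x) = gApp p f g hfg U (p.app U x)
  rw [← CommRingCat.comp_apply, ← CommRingCat.comp_apply, app_fApp, app_gApp]

/-- The structure map into the equalizers. -/
noncomputable def diagramMap : X.presheaf ⟶ diagram p f g hfg where
  app U := CommRingCat.ofHom <| (p.app U.unop).hom.codRestrict _ (app_mem p f g hfg U.unop)
  naturality {U V} i := by ext x; exact Subtype.ext congr($(p.naturality i) x)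

variable [IsAffineHom p] [IsAffineHom f]

theorem coequifibered :
    ((toOpensFunctor X).op.whiskerLeft (diagramMap p f g hfg)).Coequifibered := by
  refine coequifibered_iff_forall_isLocalizationAway.mpr fun U r ↦ ?_
  have hA : letI := (res' p (X.basicOpen_le r)).hom.toAlgebra
      IsLocalization.Away (p.app U.1 r) Γ(Y', p ⁻¹ᵁ X.basicOpen r) :=
    (U.2.preimage p).isLocalization_of_eq_basicOpen _ _ (p.preimage_basicOpen r)
  have hB : letI := (res p f (X.basicOpen_le r)).hom.toAlgebra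
      IsLocalization.Away (fApp p f U.1 (p.app U.1 r)) Γ(Y, (f ≫ p) ⁻¹ᵁ X.basicOpen r) := by
    have : fApp p f U.1 (p.app U.1 r) = (f ≫ p).app U.1 r := by
      rw [← CommRingCat.comp_apply, fApp, p.app_eq_appLE, (f ≫ p).app_eq_appLE,
        Scheme.Hom.appLE_comp_appLE]
    rw [this]
    exact (U.2.preimage (f ≫ p)).isLocalization_of_eq_basicOpen _ _ ((f ≫ p).preimage_basicOpen r)
  exact EqLocus.isLocalization_eqLocus (fApp p f U.1).hom (gApp p f g hfg U.1).hom
    (fApp p f _).hom (gApp p f g hfg _).hom (res' p (X.basicOpen_le r)).hom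
    (res p f (X.basicOpen_le r)).hom
    (congrArg CommRingCat.Hom.hom (res'_fApp p f (X.basicOpen_le r)))
    (congrArg CommRingCat.Hom.hom (res'_gApp p f g hfg (X.basicOpen_le r)))
    _ (app_mem p f g hfg U.1 r) hA hB
    ((diagram p f g hfg).map (homOfLE (X.basicOpen_le r)).op).hom fun _ => rfl

/-- The gluing data. -/
noncomputable def glueData := relativeGluingData (coequifibered p f g hfg)

instance : ((glueData p f g hfg).functor ⋙ Scheme.forget).IsLocallyDirected :=
  Scheme.Cover.RelativeGluingData.instIsLocallyDirectedI₀CompFunctorForgetOfIsThin ..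

/-- The coequalizer. -/
noncomputable def Q : Scheme.{u} := (glueData p f g hfg).glued

/-- The chart over an affine open. -/
noncomputable def ι (U : X.affineOpens) :
    Spec (CommRingCat.of (sub p f g hfg U.1)) ⟶ Q p f g hfg :=
  (glueData p f g hfg).cover.f U

instance (U : X.affineOpens) : IsOpenImmersion (ι p f g hfg U) :=
  (glueData p f g hfg).cover.map_prop U

/-- The cover of the coequalizer by the spectra of the equalizers. -/
noncomputable def cover : (Q p f g hfg).OpenCover := (glueData p f g hfg).cover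

theorem hom_ext_ι {Z : Scheme.{u}} {a b : Q p f g hfg ⟶ Z}
    (h : ∀ U, ι p f g hfg U ≫ a = ι p f g hfg U ≫ b) : a = b :=
  (cover p f g hfg).hom_ext _ _ h

/-- The structure map. -/
noncomputable def q : Q p f g hfg ⟶ X := (glueData p f g hfg).toBase

@[reassoc]
theorem ι_q (U : X.affineOpens) :
    ι p f g hfg U ≫ q p f g hfg =
      Spec.map ((diagramMap p f g hfg).app (.op U.1)) ≫ U.2.fromSpec :=
  colimit.ι_desc _ _

set_option backward.isDefEq.respectTransparency.types false in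
theorem q_preimage (U : X.affineOpens) :
    q p f g hfg ⁻¹ᵁ U = (ι p f g hfg U).opensRange := by
  simpa using! (glueData p f g hfg).toBase_preimage_eq_opensRange_ι U

set_option backward.defeqAttrib.useBackward true in
set_option backward.isDefEq.respectTransparency false in
/-- The projection. -/
noncomputable def proj : Y' ⟶ Q p f g hfg :=
  Scheme.OpenCover.glueMorphismsOfLocallyDirected
    ((Scheme.AffineZariskiSite.directedCover X).pullback₁ p)
    (fun U ↦ (pullbackRestrictIsoRestrict p _).hom ≫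
      (p ⁻¹ᵁ U.1).toSpecΓ ≫ Spec.map (CommRingCat.ofHom (sub p f g hfg U.1).subtype) ≫
        ι p f g hfg U) fun {U V : X.AffineZariskiSite} i ↦ by
  have : (pullbackRestrictIsoRestrict p U.1).inv ≫
      Scheme.Cover.trans ((Scheme.AffineZariskiSite.directedCover X).pullback₁ p) i ≫
      (pullbackRestrictIsoRestrict p V.1).hom = Y'.homOfLE
        (p.preimage_mono (toOpens_mono i.1.1)) := by
    rw [← cancel_mono (Scheme.Opens.ι _)]
    simp +instances [Scheme.Cover.trans, Scheme.Cover.locallyDirectedPullbackCover]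
  rw [← Iso.inv_comp_eq, reassoc_of% this, ← Scheme.Opens.toSpecΓ_SpecMap_presheaf_map_assoc,
    ← Spec.map_comp_assoc]
  dsimp [ι]
  rw [← colimit.w (glueData p f g hfg).functor i]
  dsimp [glueData, relativeGluingData]
  rw [← Spec.map_comp_assoc]
  rfl

set_option backward.isDefEq.respectTransparency.types false in
set_option backward.defeqAttrib.useBackward true in
@[reassoc]
theorem ι_proj (U : X.affineOpens) :
    (p ⁻¹ᵁ U.1).ι ≫ proj p f g hfg = (p ⁻¹ᵁ U.1).toSpecΓ ≫
      Spec.map (CommRingCat.ofHom (sub p f g hfg U.1).subtype) ≫ ι p f g hfg U := by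
  rw [← cancel_epi (pullbackRestrictIsoRestrict p U.1).hom, ← Category.assoc]
  trans ((Scheme.AffineZariskiSite.directedCover X).pullback₁ p).f U ≫ proj p f g hfg
  · congr 1; simp
  delta proj
  generalize_proofs _ _ _ _ H
  exact Scheme.OpenCover.map_glueMorphismsOfLocallyDirected _ _ H _

set_option backward.isDefEq.respectTransparency false in
@[reassoc (attr := simp)]
theorem proj_q : proj p f g hfg ≫ q p f g hfg = p := by
  refine Scheme.Cover.hom_ext (Y'.openCoverOfIsOpenCover _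
    (.comap (iSup_affineOpens_eq_top X) p.base.1)) _ _ fun U ↦ ?_
  refine (ι_proj_assoc p f g hfg U _).trans ?_
  rw [ι_q, ← Spec.map_comp_assoc]
  change (p ⁻¹ᵁ U.1).toSpecΓ ≫ Spec.map (p.app _) ≫ U.2.fromSpec = (p ⁻¹ᵁ U.1).ι ≫ _
  simp

theorem ι_condition (U : X.affineOpens) :
    ((f ≫ p) ⁻¹ᵁ U.1).ι ≫ f ≫ proj p f g hfg = ((f ≫ p) ⁻¹ᵁ U.1).ι ≫ g ≫ proj p f g hfg := by
  rw [← Scheme.Hom.resLE_comp_ι_assoc f (le_f p f U.1),
    ← Scheme.Hom.resLE_comp_ι_assoc g (le_g p f g hfg U.1), ι_proj,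
    ← Scheme.Opens.toSpecΓ_SpecMap_appLE_assoc, ← Scheme.Opens.toSpecΓ_SpecMap_appLE_assoc,
    ← Spec.map_comp_assoc, ← Spec.map_comp_assoc]
  congr 3
  ext x
  exact x.2

theorem condition : f ≫ proj p f g hfg = g ≫ proj p f g hfg :=
  Scheme.Cover.hom_ext (Y.openCoverOfIsOpenCover _
    (.comap (iSup_affineOpens_eq_top X) (f ≫ p).base.1)) _ _ (ι_condition p f g hfg)

set_option backward.isDefEq.respectTransparency false in
/-- A morphism out of the coequalizer on a chart is determined by the composite with `proj`. -/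
theorem incl_ι (U : X.affineOpens) :
    Spec.map (CommRingCat.ofHom (sub p f g hfg U.1).subtype) ≫ ι p f g hfg U =
      (U.2.preimage p).fromSpec ≫ proj p f g hfg := by
  rw [← cancel_epi (U.2.preimage p).isoSpec.hom]
  simp [IsAffineOpen.isoSpec_hom, ι_proj]

set_option backward.isDefEq.respectTransparency.types false in
theorem hom_ext {Z : Scheme.{u}} (ρ : Z ⟶ X) [IsAffineHom ρ] {a b : Q p f g hfg ⟶ Z}
    (ha : a ≫ ρ = q p f g hfg) (hb : b ≫ ρ = q p f g hfg)
    (h : proj p f g hfg ≫ a = proj p f g hfg ≫ b) : a = b := by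
  refine hom_ext_ι p f g hfg fun U => ?_
  have key : ∀ c : Q p f g hfg ⟶ Z, c ≫ ρ = q p f g hfg →
      (ι p f g hfg U ≫ c) ⁻¹ᵁ (ρ ⁻¹ᵁ U.1) = ⊤ := fun c hc => by
    have hU : IsAffineOpen U.1 := U.2
    rw [← Scheme.Hom.comp_preimage, Category.assoc, hc, ι_q]
    exact congrArg (Spec.map ((diagramMap p f g hfg).app (op U.1)) ⁻¹ᵁ ·) hU.fromSpec_preimage_self
  refine eq_of_SpecMap_comp_eq_of_isAffineOpen
    (CommRingCat.ofHom (sub p f g hfg U.1).subtype) Subtype.val_injective _ (U.2.preimage ρ)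
    (key a ha) (key b hb) ?_
  rw [← Category.assoc, ← Category.assoc, incl_ι, Category.assoc, Category.assoc, h]

section Desc

variable {Z : Scheme.{u}} (h : Y' ⟶ Z) (ρ : Z ⟶ X) [IsAffineHom ρ] (hρ : h ≫ ρ = p)
  (hh : f ≫ h = g ≫ h)

include hρ in
theorem le_h (U : X.Opens) : p ⁻¹ᵁ U ≤ h ⁻¹ᵁ ρ ⁻¹ᵁ U := by
  rw [← hρ]; rfl

include hfg hh in
theorem appLE_mem (U : X.Opens) (x : Γ(Z, ρ ⁻¹ᵁ U)) :
    h.appLE (ρ ⁻¹ᵁ U) (p ⁻¹ᵁ U) (le_h p h ρ hρ U) x ∈ sub p f g hfg U := by
  change fApp p f U _ = gApp p f g hfg U _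
  rw [← CommRingCat.comp_apply, ← CommRingCat.comp_apply, fApp, gApp,
    Scheme.Hom.appLE_comp_appLE, Scheme.Hom.appLE_comp_appLE]
  rw [appLE_eq_of_eq hh]

/-- The ring map of `desc` over an open. -/
noncomputable def descApp (U : X.Opens) : Γ(Z, ρ ⁻¹ᵁ U) ⟶ CommRingCat.of (sub p f g hfg U) :=
  CommRingCat.ofHom ((h.appLE (ρ ⁻¹ᵁ U) (p ⁻¹ᵁ U) (le_h p h ρ hρ U)).hom.codRestrict _
    (appLE_mem p f g hfg h ρ hρ hh U))

theorem descApp_naturality {U V : X.Opens} (i : V ≤ U) :
    descApp p f g hfg h ρ hρ hh U ≫ (diagram p f g hfg).map (homOfLE i).op =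
      Z.presheaf.map (homOfLE (ρ.preimage_mono i)).op ≫ descApp p f g hfg h ρ hρ hh V := by
  ext x
  refine Subtype.ext ?_
  change (h.appLE _ _ (le_h p h ρ hρ U) ≫ res' p i) x =
    (Z.presheaf.map (homOfLE (ρ.preimage_mono i)).op ≫ h.appLE _ _ (le_h p h ρ hρ V)) x
  rw [res', Scheme.Hom.appLE_map, Scheme.Hom.map_appLE]

set_option backward.defeqAttrib.useBackward true in
set_option backward.isDefEq.respectTransparency false in
/-- The map out of the coequalizer. -/
noncomputable def desc : Q p f g hfg ⟶ Z :=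
  colimit.desc _
    { pt := Z
      ι.app U := Spec.map (descApp p f g hfg h ρ hρ hh U.1) ≫ (U.2.preimage ρ).fromSpec
      ι.naturality := fun U V i => by
        dsimp [glueData, relativeGluingData]
        rw [Category.comp_id, ← Spec.map_comp_assoc,
          ← (V.2.preimage ρ).map_fromSpec (U.2.preimage ρ)
            (homOfLE (ρ.preimage_mono (toOpens_mono i.le))).op,
          ← Spec.map_comp_assoc]
        congr 2
        exact descApp_naturality p f g hfg h ρ hρ hh (toOpens_mono i.le) }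

set_option backward.defeqAttrib.useBackward true in
set_option backward.isDefEq.respectTransparency false in
@[reassoc]
theorem ι_desc (U : X.affineOpens) :
    ι p f g hfg U ≫ desc p f g hfg h ρ hρ hh =
      Spec.map (descApp p f g hfg h ρ hρ hh U.1) ≫ (U.2.preimage ρ).fromSpec :=
  colimit.ι_desc _ _

set_option backward.isDefEq.respectTransparency false in
theorem proj_desc : proj p f g hfg ≫ desc p f g hfg h ρ hρ hh = h := by
  refine Scheme.Cover.hom_ext (Y'.openCoverOfIsOpenCover _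
    (.comap (iSup_affineOpens_eq_top X) p.base.1)) _ _ fun U ↦ ?_
  refine (ι_proj_assoc p f g hfg U _).trans ?_
  rw [ι_desc, ← Spec.map_comp_assoc]
  change (p ⁻¹ᵁ U.1).toSpecΓ ≫ Spec.map (h.appLE _ _ (le_h p h ρ hρ U.1)) ≫ _ = (p ⁻¹ᵁ U.1).ι ≫ _
  simp

set_option backward.isDefEq.respectTransparency false in
theorem desc_q : desc p f g hfg h ρ hρ hh ≫ ρ = q p f g hfg := by
  refine hom_ext_ι p f g hfg fun U => ?_
  rw [ι_desc_assoc, ι_q, ← IsAffineOpen.SpecMap_appLE_fromSpec ρ U.2 (U.2.preimage ρ) le_rfl,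
    ← Spec.map_comp_assoc]
  congr 2
  ext x
  change h.appLE _ _ (le_h p h ρ hρ U.1) (ρ.appLE U.1 (ρ ⁻¹ᵁ U.1) le_rfl x) = p.app U.1 x
  rw [← CommRingCat.comp_apply, Scheme.Hom.appLE_comp_appLE, p.app_eq_appLE, appLE_eq_of_eq hρ]

end Desc

set_option backward.isDefEq.respectTransparency false in
theorem prop_q (P : MorphismProperty Scheme.{u}) [IsZariskiLocalAtTarget P]
    (hP : ∀ U : X.affineOpens, P (Spec.map ((diagramMap p f g hfg).app (.op U.1)))) :
    P (q p f g hfg) := by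
  rw [IsZariskiLocalAtTarget.iff_of_iSup_eq_top (P := P) _ (iSup_affineOpens_eq_top _)]
  intro U
  let e := IsOpenImmersion.isoOfRangeEq (q p f g hfg ⁻¹ᵁ U).ι (ι p f g hfg U)
      (by simpa using congr($(q_preimage p f g hfg U).1))
  rw [← P.cancel_left_of_respectsIso e.inv,
    ← P.cancel_right_of_respectsIso _ U.2.isoSpec.hom]
  convert! hP U
  rw [← cancel_mono U.2.fromSpec]
  simp [IsAffineOpen.isoSpec_hom, e, ι_q]

set_option backward.isDefEq.respectTransparency.types false in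
theorem isFinite_etale_q [IsFinite p] [Etale p] [IsFinite f] [Etale f] :
    IsFinite (q p f g hfg) ∧ Etale (q p f g hfg) := by
  have key : ∀ U : X.affineOpens, ((diagramMap p f g hfg).app (.op U.1)).hom.Finite ∧
      ((diagramMap p f g hfg).app (.op U.1)).hom.Etale := fun U => by
    have hA : (p.app U.1).hom.Finite ∧ (p.app U.1).hom.Etale :=
      ⟨p.finite_app U.1 U.2, by
        rw [p.app_eq_appLE]; exact p.etale_appLE U.2 (U.2.preimage p) le_rfl⟩
    have hB : (p.app U.1 ≫ fApp p f U.1).hom.Finite ∧ (p.app U.1 ≫ fApp p f U.1).hom.Etale := by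
      rw [app_fApp]
      exact ⟨(f ≫ p).finite_app U.1 U.2, by
        rw [(f ≫ p).app_eq_appLE]; exact (f ≫ p).etale_appLE U.2 (U.2.preimage _) le_rfl⟩
    exact EqLocus.finite_etale_eqLocus (p.app U.1).hom (fApp p f U.1).hom (gApp p f g hfg U.1).hom
      (congrArg CommRingCat.Hom.hom ((app_fApp p f U.1).trans (app_gApp p f g hfg U.1).symm)) hA hB
  exact ⟨prop_q p f g hfg _ fun U => (IsFinite.SpecMap_iff _).mpr (key U).1,
    prop_q p f g hfg _ fun U => (HasRingHomProperty.Spec_iff (P := @Etale)).mpr (key U).2⟩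

end Groth.Agent.Lib.FEt.Coequalizer
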