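import Mathlib.CategoryTheory.Limits.Constructions.LimitsOfProductsAndEqualizers
import Groth.Agent.Lib.FEt.Coproduct
import Groth.Agent.Lib.FEt.Coequalizer

/-!
# Finite colimits of finite etale covers
-/

universe u

open CategoryTheory CategoryTheory.Limits AlgebraicGeometry

namespace Groth.Agent.Lib.FEt.Colimits

variable {X : Scheme.{u}} {Y Y' : FEt.Cat X} (a b : Y ⟶ Y')

theorem w : a.left ≫ Y'.hom = b.left ≫ Y'.hom :=
  (Over.w a.hom).trans (Over.w b.hom).symm

theorem prop_q :
    haveI := Basic.isFinite_left a
    FEt.prop (Coequalizer.q Y'.hom a.left b.left (w a b)) :=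
  haveI := Basic.isFinite_left a
  haveI := Basic.etale_left a
  Coequalizer.isFinite_etale_q _ _ _ _

/-- The coequalizer of two maps of finite etale covers. -/
noncomputable def coeq : FEt.Cat X :=
  haveI := Basic.isFinite_left a
  MorphismProperty.Over.mk ⊤ (Coequalizer.q Y'.hom a.left b.left (w a b)) (prop_q a b)

/-- The projection to the coequalizer. -/
noncomputable def π : Y' ⟶ coeq a b :=
  haveI := Basic.isFinite_left a
  MorphismProperty.Over.homMk (Coequalizer.proj Y'.hom a.left b.left (w a b))
    (Coequalizer.proj_q _ _ _ _)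

theorem condition : a ≫ π a b = b ≫ π a b := by
  ext
  haveI := Basic.isFinite_left a
  exact Coequalizer.condition _ _ _ _

/-- The coequalizer cofork. -/
noncomputable def cofork : Cofork a b := Cofork.ofπ (π a b) (condition a b)

/-- The cofork is colimiting. -/
noncomputable def isColimitCofork : IsColimit (cofork a b) :=
  haveI := Basic.isFinite_left a
  Cofork.IsColimit.mk _
    (fun s => MorphismProperty.Over.homMk
      (Coequalizer.desc Y'.hom a.left b.left (w a b) s.π.left s.pt.hom (Over.w s.π.hom)
        (congrArg (fun t => t.left) s.condition))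
      (Coequalizer.desc_q _ _ _ _ _ _ _ _))
    (fun s => by ext; exact Coequalizer.proj_desc _ _ _ _ _ _ _ _)
    (fun s m hm => by
      ext
      exact Coequalizer.hom_ext _ _ _ _ s.pt.hom (Over.w m.hom) (Coequalizer.desc_q _ _ _ _ _ _ _ _)
        ((congrArg (fun t => t.left) hm).trans (Coequalizer.proj_desc _ _ _ _ _ _ _ _).symm))

instance hasCoequalizers : HasCoequalizers (FEt.Cat X) :=
  have : ∀ {Y Y' : FEt.Cat X} {a b : Y ⟶ Y'}, HasColimit (parallelPair a b) :=
    @fun _ _ a b => HasColimit.mk ⟨_, isColimitCofork a b⟩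
  hasCoequalizers_of_hasColimit_parallelPair _

instance hasFiniteColimits : HasFiniteColimits (FEt.Cat X) :=
  hasFiniteColimits_of_hasCoequalizers_and_finite_coproducts

end Groth.Agent.Lib.FEt.Colimits
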