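import Groth.Agent.Lib.FEt.FullyFaithful
import Mathlib.AlgebraicGeometry.Morphisms.UniversallyClosed

/-!
# Full faithfulness along universally closed surjections with connected geometric fibres
-/

universe u

open CategoryTheory CategoryTheory.Limits AlgebraicGeometry

namespace Groth.Agent.Lib.FEt.ConnFibres

/-- Clopen sets descend along closed surjections with preconnected fibres. -/
theorem exists_isClopen_preimage {P W : Type u} [TopologicalSpace P] [TopologicalSpace W]
    {p : P → W} (hcont : Continuous p) (hclosed : IsClosedMap p) (hsurj : Function.Surjective p)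
    (hconn : ∀ w, IsPreconnected (p ⁻¹' {w})) {C : Set P} (hC : IsClopen C) :
    ∃ D : Set W, IsClopen D ∧ p ⁻¹' D = C := by
  have hsat : p ⁻¹' (p '' C) = C := by
    refine Set.Subset.antisymm ?_ (Set.subset_preimage_image p C)
    rintro x ⟨y, hy, hyx⟩
    exact (hconn (p x)).subset_isClopen hC ⟨y, hyx, hy⟩ rfl
  refine ⟨p '' C, ⟨hclosed C hC.isClosed, ?_⟩, hsat⟩
  rw [← isClosed_compl_iff, ← Set.image_preimage_eq (p '' C)ᶜ hsurj, Set.preimage_compl, hsat]
  exact hclosed _ hC.compl.isClosed

variable {X S : Scheme.{u}} (g : X ⟶ S)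

/-- A connected geometric fibre gives a preconnected fibre after base change. -/
theorem isPreconnected_fibre' {W : Scheme.{u}} (h : W ⟶ S) {Ω : Type u} [Field Ω]
    (s : Spec (CommRingCat.of Ω) ⟶ W) (hfib : PreconnectedSpace ↥(pullback g (s ≫ h))) :
    _root_.IsPreconnected ((pullback.fst h g).base ⁻¹' {Fiber.point s}) := by
  have hP : IsPullback (pullback.snd s (pullback.fst h g) ≫ pullback.snd h g)
      (pullback.fst s (pullback.fst h g)) g (s ≫ h) :=
    ((IsPullback.of_hasPullback s (pullback.fst h g)).flip).paste_horiz
      ((IsPullback.of_hasPullback h g).flip)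
  have : PreconnectedSpace ↥(pullback s (pullback.fst h g)) :=
    hP.isoPullback.hom.homeomorph.symm.surjective.denseRange.preconnectedSpace
      hP.isoPullback.hom.homeomorph.symm.continuous
  have hr : (pullback.fst h g).base ⁻¹' {Fiber.point s} =
      Set.range (pullback.snd s (pullback.fst h g)).base := by
    change _ = Set.range ⇑(pullback.snd s (pullback.fst h g))
    rw [Scheme.Pullback.range_snd]
    refine congrArg _ (show Set.range s.base = {Fiber.point s} from
      Set.eq_singleton_iff_unique_mem.mpr ⟨⟨_, rfl⟩, ?_⟩).symm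
    rintro _ ⟨t, rfl⟩
    exact Fiber.base_eq_point s t
  rw [hr]
  exact isPreconnected_range (pullback.snd s (pullback.fst h g)).continuous

/-- Geometrically connected fibres have preconnected fibres after base change. -/
theorem isPreconnected_fibre {W : Scheme.{u}} (h : W ⟶ S) (w : W)
    (hfib : PreconnectedSpace ↥(pullback g (FullyFaithful.geomPt w ≫ h))) :
    _root_.IsPreconnected ((pullback.fst h g).base ⁻¹' {w}) :=
  FullyFaithful.point_geomPt w ▸ isPreconnected_fibre' g h (FullyFaithful.geomPt w) hfib

theorem full_and_faithful [UniversallyClosed g] [Surjective g]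
    (hfib : ∀ (Ω : Type u) [Field Ω] [IsAlgClosed Ω] (s : Spec (CommRingCat.of Ω) ⟶ S),
      PreconnectedSpace ↥(pullback g s)) :
    (FEt.restrict g).Full ∧ (FEt.restrict g).Faithful :=
  FullyFaithful.full_and_faithful g (FullyFaithful.meetsClopens_of_surjective g) fun W C hC =>
    exists_isClopen_preimage (pullback.fst W.hom g).continuous (pullback.fst W.hom g).isClosedMap
      (pullback.fst W.hom g).surjective
      (fun w => isPreconnected_fibre g W.hom w (hfib _ _)) hC

/-- Surjectivity from nonemptiness of the geometric fibres. -/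
theorem surjective_of_geomFibres
    (hfib : ∀ (Ω : Type u) [Field Ω] [IsAlgClosed Ω] (s : Spec (CommRingCat.of Ω) ⟶ S),
      Nonempty ↥(pullback g s)) : Surjective g := by
  refine ⟨fun x => ?_⟩
  obtain ⟨z⟩ := hfib _ (FullyFaithful.geomPt x)
  refine ⟨(pullback.fst g (FullyFaithful.geomPt x)).base z, ?_⟩
  change (pullback.fst g (FullyFaithful.geomPt x) ≫ g).base z = x
  rw [pullback.condition]
  exact (Fiber.base_eq_point (FullyFaithful.geomPt x) _).trans (FullyFaithful.point_geomPt x)

end Groth.Agent.Lib.FEt.ConnFibres
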