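import Mathlib.AlgebraicGeometry.Morphisms.FlatMono
import Mathlib.CategoryTheory.Galois.Basic
import Groth.Agent.Lib.FEt.Colimits

/-!
# Monomorphisms of finite etale covers are direct summands
-/

universe u

open CategoryTheory CategoryTheory.Limits AlgebraicGeometry

namespace Groth.Agent.Lib.FEt.Summand

variable {X : Scheme.{u}}

/-- A clopen subscheme of a finite etale cover is finite etale. -/
theorem prop_ι_comp (Y : FEt.Cat X) (V : Y.left.Opens) (hV : IsClosed (V : Set Y.left)) :
    FEt.prop (V.ι ≫ Y.hom) := by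
  have : IsClosedImmersion V.ι := IsClosedImmersion.of_isPreimmersion V.ι (by
    rw [Scheme.Opens.range_ι]; exact hV)
  exact ⟨inferInstanceAs (IsFinite (V.ι ≫ Y.hom)), inferInstanceAs (Etale (V.ι ≫ Y.hom))⟩

/-- The clopen subscheme, as a cover. -/
noncomputable def clopenSub (Y : FEt.Cat X) (V : Y.left.Opens) (hV : IsClosed (V : Set Y.left)) :
    FEt.Cat X :=
  MorphismProperty.Over.mk ⊤ (V.ι ≫ Y.hom) (prop_ι_comp Y V hV)

/-- Its inclusion. -/
noncomputable def clopenIncl (Y : FEt.Cat X) (V : Y.left.Opens) (hV : IsClosed (V : Set Y.left)) :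
    clopenSub Y V hV ⟶ Y :=
  MorphismProperty.Over.homMk V.ι rfl

theorem mono_left {Y Z : FEt.Cat X} (i : Y ⟶ Z) [Mono i] : Mono i.left := by
  have : Mono ((MorphismProperty.Over.forget FEt.prop.{u} ⊤ X).map i) := inferInstance
  exact Over.mono_left_of_mono ((MorphismProperty.Over.forget FEt.prop.{u} ⊤ X).map i)

theorem isOpenImmersion_left {Y Z : FEt.Cat X} (i : Y ⟶ Z) [Mono i] : IsOpenImmersion i.left :=
  haveI := mono_left i
  haveI := Basic.etale_left i
  IsOpenImmersion.of_flat_of_mono _

/-- A cofan which is a coproduct of schemes is a coproduct of covers. -/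
noncomputable def isColimitOfLeft {Y Z W : FEt.Cat X} (i : Y ⟶ W) (j : Z ⟶ W)
    (h : IsColimit (BinaryCofan.mk i.left j.left)) : IsColimit (BinaryCofan.mk i j) :=
  BinaryCofan.isColimitMk
    (fun s => MorphismProperty.Over.homMk (h.desc (BinaryCofan.mk s.inl.left s.inr.left))
      (h.hom_ext (by
        rintro ⟨_ | _⟩
        · exact (Category.assoc _ _ _).symm.trans ((congrArg (· ≫ s.pt.hom) (h.fac _ ⟨.left⟩)).trans
            ((Over.w s.inl.hom).trans (Over.w i.hom).symm))
        · exact (Category.assoc _ _ _).symm.trans ((congrArg (· ≫ s.pt.hom) (h.fac _ ⟨.right⟩)).trans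
            ((Over.w s.inr.hom).trans (Over.w j.hom).symm)))))
    (fun s => by ext; exact h.fac _ ⟨.left⟩)
    (fun s => by ext; exact h.fac _ ⟨.right⟩)
    (fun s m h₁ h₂ => by
      ext
      refine h.hom_ext ?_
      rintro ⟨_ | _⟩
      · exact (congrArg (fun t => t.left) h₁).trans (h.fac (BinaryCofan.mk s.inl.left s.inr.left) ⟨.left⟩).symm
      · exact (congrArg (fun t => t.left) h₂).trans (h.fac (BinaryCofan.mk s.inl.left s.inr.left) ⟨.right⟩).symm)

theorem exists_complement {Y Z : FEt.Cat X} (i : Y ⟶ Z) [Mono i] :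
    ∃ (W : FEt.Cat X) (u : W ⟶ Z), Nonempty (IsColimit (BinaryCofan.mk i u)) := by
  have := isOpenImmersion_left i
  have := Basic.isFinite_left i
  let V : Z.left.Opens := ⟨(Set.range i.left.base)ᶜ, i.left.isClosedMap.isClosed_range.isOpen_compl⟩
  have hV : IsClosed (V : Set Z.left) := i.left.isOpenEmbedding.isOpen_range.isClosed_compl
  refine ⟨clopenSub Z V hV, clopenIncl Z V hV, ⟨isColimitOfLeft _ _ ?_⟩⟩
  refine (nonempty_isColimit_binaryCofanMk_of_isCompl i.left V.ι ?_).some
  rw [Scheme.Opens.opensRange_ι]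
  refine ⟨?_, ?_⟩
  · rw [disjoint_iff]
    exact TopologicalSpace.Opens.ext (Set.inter_compl_self _)
  · rw [codisjoint_iff]
    exact TopologicalSpace.Opens.ext (Set.union_compl_self _)

theorem hasColimitsOfShape_singleObj (G : Type u) [Group G] [Finite G] :
    HasColimitsOfShape (SingleObj G) (FEt.Cat X) := by
  obtain ⟨G', hg, hf, ⟨e⟩⟩ := Finite.exists_type_univ_nonempty_mulEquiv.{_, 0} G
  exact hasColimitsOfShape_of_equivalence e.toSingleObjEquiv.symm

instance preGaloisCategory : PreGaloisCategory (FEt.Cat X) where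
  hasQuotientsByFiniteGroups G _ _ := hasColimitsOfShape_singleObj G
  monoInducesIsoOnDirectSummand i := exists_complement i

end Groth.Agent.Lib.FEt.Summand
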