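import Groth.Agent.Lib.FEt.FieldGalois
import Groth.Agent.Lib.FEt.Summand
import Groth.Agent.Lib.FEt.HenselianPair
import Groth.Agent.Lib.FEt.Limits

/-!
# Connected covers, and covers of strictly henselian local rings
-/

set_option autoImplicit false

universe u

open CategoryTheory CategoryTheory.Limits AlgebraicGeometry

namespace Groth.Agent.Lib.FEt.ConnectedObj

/-- A connected scheme finite etale over `X` is a connected object. -/
theorem isConnected {X : Scheme.{u}} (Y : FEt.Cat X) [ConnectedSpace Y.left] :
    PreGaloisCategory.IsConnected Y := by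
  refine ⟨fun hi => ?_, fun Z i _ hZ => ?_⟩
  · have : IsEmpty ↥(Coproduct.empty X).left := inferInstanceAs (IsEmpty ↥(⊥_ Scheme.{u}))
    exact IsEmpty.false (α := ↥(Coproduct.empty X).left)
      ((hi.to (Coproduct.empty X)).left.base (Classical.arbitrary Y.left))
  · have := Summand.isOpenImmersion_left i
    have := Basic.isFinite_left i
    obtain ⟨y⟩ : Nonempty ↥Z.left := by
      by_contra hne
      have : IsEmpty ↥Z.left := not_nonempty_iff.mp hne
      exact hZ (IsInitial.ofUniqueHom
        (fun W => MorphismProperty.Over.homMk (isInitialOfIsEmpty.to W.left)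
          (isInitialOfIsEmpty.hom_ext _ _) trivial)
        (fun W m => by ext; exact isInitialOfIsEmpty.hom_ext _ _))
    have : Surjective i.left := ⟨fun z => by
      have hc : IsClopen (Set.range i.left.base) :=
        ⟨i.left.isClosedMap.isClosed_range, i.left.isOpenEmbedding.isOpen_range⟩
      exact Set.eq_univ_iff_forall.mp (hc.eq_univ ⟨_, y, rfl⟩) z⟩
    have : IsIso i.left :=
      (isIso_iff_isOpenImmersion_and_surjective _).mpr ⟨inferInstance, inferInstance⟩
    have : IsIso ((MorphismProperty.Over.forget _ _ _ ⋙ Over.forget _).map i) := this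
    exact isIso_of_reflects_iso i (MorphismProperty.Over.forget _ _ _ ⋙ Over.forget _)

/-- A connected object is a connected scheme. -/
theorem connectedSpace {X : Scheme.{u}} (Y : FEt.Cat X) [hY : PreGaloisCategory.IsConnected Y] :
    ConnectedSpace Y.left := by
  have hne : Nonempty ↥Y.left := by
    by_contra hne
    have : IsEmpty ↥Y.left := not_nonempty_iff.mp hne
    exact hY.notInitial (IsInitial.ofUniqueHom
      (fun W => MorphismProperty.Over.homMk (isInitialOfIsEmpty.to W.left)
        (isInitialOfIsEmpty.hom_ext _ _) trivial)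
      (fun W m => by ext; exact isInitialOfIsEmpty.hom_ext _ _))
  have : PreconnectedSpace ↥Y.left := preconnectedSpace_iff_clopen.mpr fun C hC => by
    refine or_iff_not_imp_left.mpr fun hC0 => ?_
    obtain ⟨p, hp⟩ := Set.nonempty_iff_ne_empty.mpr hC0
    let V : Y.left.Opens := ⟨C, hC.isOpen⟩
    have hmono : Mono (Summand.clopenIncl Y V hC.isClosed) :=
      ((MorphismProperty.Over.forget FEt.prop.{u} ⊤ _) ⋙ Over.forget _).mono_of_mono_map
        (inferInstanceAs (Mono V.ι))
    have hne : IsInitial (Summand.clopenSub Y V hC.isClosed) → False := fun hi => by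
      let e := hi.to (Coproduct.empty _)
      exact IsEmpty.false (α := ((⊥_ Scheme.{u} : Scheme.{u}) : Type u)) (e.left.base ⟨p, hp⟩)
    have := PreGaloisCategory.IsConnected.noTrivialComponent (X := Y) _
      (Summand.clopenIncl Y V hC.isClosed) hne
    have h2 : IsIso V.ι := inferInstanceAs (IsIso
      (((MorphismProperty.Over.forget FEt.prop.{u} ⊤ _) ⋙ Over.forget _).map
        (Summand.clopenIncl Y V hC.isClosed)))
    refine Set.eq_univ_iff_forall.mpr fun q => ?_
    obtain ⟨x, rfl⟩ := V.ι.surjective q
    exact x.2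
  exact { toNonempty := hne }

theorem subsingleton_aut (K : Type u) [Field K] [IsSepClosed K] :
    Subsingleton (AlgebraicClosure K ≃ₐ[K] AlgebraicClosure K) := by
  refine ⟨fun g g' => ?_⟩
  have h : ∀ a : AlgebraicClosure K ≃ₐ[K] AlgebraicClosure K, a = 1 := fun a =>
    FieldGalois.eq_of_fix K fun y hy => by
      obtain ⟨c, hc⟩ := IsSepClosed.algebraMap_surjective K
        (separableClosure K (AlgebraicClosure K)) ⟨y, hy⟩
      have : algebraMap K (AlgebraicClosure K) c = y := congrArg Subtype.val hc
      rw [← this, a.commutes]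
  rw [h g, h g']

/-- A connected finite etale cover of a strictly henselian local scheme is trivial. -/
theorem isIso_hom_of_strictlyHenselian {A : Type u} [CommRing A] [HenselianLocalRing A]
    [IsSepClosed (IsLocalRing.ResidueField A)] (T : FEt.Cat (Spec (CommRingCat.of A)))
    [ConnectedSpace T.left] : IsIso T.hom := by
  let m := IsLocalRing.maximalIdeal A
  let i : Spec (CommRingCat.of (IsLocalRing.ResidueField A)) ⟶ Spec (CommRingCat.of A) :=
    HenselianPair.incl m
  let T' := (FEt.restrict i).obj T
  -- the closed fibre is connected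
  let w : T.left ⟶ Spec (CommRingCat.of A) := T.hom
  have : IsFinite w := T.prop.1
  obtain ⟨x, hx⟩ : ∃ x : T.left, w.base x = IsLocalRing.closedPoint A := by
    have x₀ : T.left := Classical.arbitrary _
    have hcl : IsClosed (Set.range w.base) := w.isClosedMap.isClosed_range
    obtain ⟨x, hx⟩ := (IsLocalRing.specializes_closedPoint (w.base x₀ : PrimeSpectrum A)).mem_closed
      hcl ⟨x₀, rfl⟩
    exact ⟨x, hx⟩
  obtain ⟨t, ht⟩ := (Set.ext_iff.mp (HenselianPair.range_incl m) (IsLocalRing.closedPoint A)).mpr
    (le_refl m)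
  obtain ⟨z, -, -⟩ := Scheme.Pullback.exists_preimage_pullback (f := T.hom) (g := i) x t
    (hx.trans ht.symm)
  have hc' : ConnectedSpace ↥(pullback T.hom i) := by
    have : PreconnectedSpace ↥(pullback T.hom i) := preconnectedSpace_iff_clopen.mpr fun C hC => by
      obtain ⟨D, hD, rfl⟩ := HenselianPair.exists_clopen m T C hC
      rcases (isClopen_iff (α := ↥T.left)).mp hD with rfl | rfl
      · exact Or.inl Set.preimage_empty
      · exact Or.inr Set.preimage_univ
    exact ⟨⟨z⟩⟩
  have : ConnectedSpace T'.left := hc'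
  have hT' := isConnected T'
  let k := IsLocalRing.ResidueField A
  have hΩ : IsAlgClosed (AlgebraicClosure k) := inferInstance
  have : ConnectedSpace ↥(Spec (CommRingCat.of k)) := inferInstanceAs (ConnectedSpace (PrimeSpectrum k))
  have : ConnectedSpace ↥(Spec (CommRingCat.of A)) := by
    have : PreconnectedSpace ↥(Spec (CommRingCat.of A)) := preconnectedSpace_iff_clopen.mpr fun C hC => by
      by_contra hc
      simp only [not_or] at hc
      obtain ⟨p, hp⟩ := Set.nonempty_iff_ne_empty.mpr hc.1
      obtain ⟨q, hq⟩ := (Set.ne_univ_iff_exists_notMem _).mp hc.2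
      exact (IsLocalRing.specializes_closedPoint (q : PrimeSpectrum A)).mem_closed
        hC.compl.isClosed hq ((IsLocalRing.specializes_closedPoint (p : PrimeSpectrum A)).mem_closed hC.isClosed hp)
    exact ⟨⟨IsLocalRing.closedPoint A⟩⟩
  have := FiberUnique.galoisCategory (X := Spec (CommRingCat.of k))
  have := GaloisCat.fiberFunctor (FieldGalois.ξ k)
  have := FieldGalois.isPretransitive (K := k) (Y := T')
  have := subsingleton_aut k
  have hsub : Subsingleton ((FiberFunctor.fintypeFiber (FieldGalois.ξ k)).obj T') := by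
    refine ⟨fun a b => ?_⟩
    obtain ⟨g, hg⟩ := MulAction.exists_smul_eq (AlgebraicClosure k ≃ₐ[k] AlgebraicClosure k) a b
    rw [← hg, Subsingleton.elim g 1, one_smul]
  obtain ⟨a⟩ := PreGaloisCategory.nonempty_fiber_of_isConnected
    (FiberFunctor.fintypeFiber (FieldGalois.ξ k)) T'
  let e := (GaloisCat.restrictFiberIso i (FieldGalois.ξ k)).app T
  let E : FEt.Cat (Spec (CommRingCat.of A)) :=
    MorphismProperty.Over.mk ⊤ (𝟙 _) ⟨inferInstance, inferInstance⟩
  let φ : T ⟶ E := MorphismProperty.Over.homMk T.hom (Category.comp_id _) trivial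
  have hbij : Function.Bijective ((FEt.fiber (FieldGalois.ξ k ≫ i)).map φ) := by
    refine ⟨fun p q _ => ?_, fun r => ⟨e.hom a, ?_⟩⟩
    · have hp : e.hom (e.inv p) = p := by rw [← CategoryTheory.comp_apply, e.inv_hom_id]; rfl
      have hq : e.hom (e.inv q) = q := by rw [← CategoryTheory.comp_apply, e.inv_hom_id]; rfl
      rw [← hp, ← hq]
      exact congrArg e.hom (Subsingleton.elim (α := (FiberFunctor.fintypeFiber (FieldGalois.ξ k)).obj T') _ _)
    · refine Subtype.ext ?_
      have hr : r.1 ≫ 𝟙 _ = FieldGalois.ξ k ≫ i := r.2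
      rw [Category.comp_id] at hr
      exact (e.hom a).2.trans hr.symm
  have : IsIso φ := Conservative.isIso_of_bijective_one _ φ hbij
  exact inferInstanceAs (IsIso ((MorphismProperty.Over.forget _ _ _ ⋙ Over.forget _).map φ))

end Groth.Agent.Lib.FEt.ConnectedObj
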