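import Groth.Agent.Lib.FEt.EqLocus

/-!
# Points of finite etale algebras with values in an algebraically closed field
-/

universe u

open scoped TensorProduct

namespace Groth.Agent.Lib.FEt.FiberAlg

section Split

variable {k A : Type u} [Field k] [CommRing A] [Algebra k A] [Algebra.IsFiniteSplit k A]

theorem exists_eq_eval {n : ℕ} (χ : (Fin n → k) →ₐ[k] k) : ∃ i, ∀ x, χ x = x i := by
  classical
  obtain ⟨a, ha⟩ := SplitEq.exists_eq_funLeft
    ((AlgEquiv.funUnique (R := k) (ι := Fin 1) (S := k)).symm.toAlgHom.comp χ)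
  exact ⟨a 0, fun x => congrFun (LinearMap.congr_fun ha x) 0⟩

theorem eq_of_forall_algHom {x y : A} (h : ∀ χ : A →ₐ[k] k, χ x = χ y) : x = y := by
  obtain ⟨n, ⟨e⟩⟩ := Algebra.IsFiniteSplit.nonempty_algEquiv_fun k A
  exact e.injective (funext fun i => h ((Pi.evalAlgHom k (fun _ => k) i).comp e.toAlgHom))

theorem exists_forall_algHom_eq (c : (A →ₐ[k] k) → k) : ∃ x, ∀ χ : A →ₐ[k] k, χ x = c χ := by
  obtain ⟨n, ⟨e⟩⟩ := Algebra.IsFiniteSplit.nonempty_algEquiv_fun k A
  refine ⟨e.symm fun i => c ((Pi.evalAlgHom k (fun _ => k) i).comp e.toAlgHom), fun χ => ?_⟩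
  obtain ⟨i, hi⟩ := exists_eq_eval (χ.comp e.symm.toAlgHom)
  have hχ : χ = (Pi.evalAlgHom k (fun _ => k) i).comp e.toAlgHom :=
    AlgHom.ext fun a => by simpa using hi (e a)
  conv_rhs => rw [hχ]
  exact hi _

theorem exists_extend {E : Type u} [CommRing E] [Algebra k E] [Algebra.IsFiniteSplit k E]
    (ι : E →ₐ[k] A) (hι : Function.Injective ι) (β : E →ₐ[k] k) :
    ∃ α : A →ₐ[k] k, α.comp ι = β := by
  classical
  by_contra! hno
  obtain ⟨x, hx⟩ := exists_forall_algHom_eq (A := E) fun γ => if γ = β then 1 else 0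
  have : ι x = 0 := eq_of_forall_algHom (k := k) fun χ => by
    rw [map_zero, ← AlgHom.comp_apply, hx, if_neg (hno χ)]
  have h0 : x = 0 := hι (this.trans (map_zero ι).symm)
  have := hx β
  rw [if_pos rfl, h0, map_zero] at this
  exact zero_ne_one this

end Split

attribute [local instance] SplitEq.finitePresentation_of_etale

variable {R : Type u} [CommRing R] {A B : Type u} [CommRing A] [CommRing B] [Algebra R A]
  [Algebra R B] [Module.Finite R A] [Algebra.Etale R A] [Module.Finite R B] [Algebra.Etale R B]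
  (f g : A →ₐ[R] B) (Ω : Type u) [Field Ω] [IsAlgClosed Ω] [Algebra R Ω]

/-- Two points of `A` are related if they are the images of one point of `B`. -/
def Rel (α α' : A →ₐ[R] Ω) : Prop := ∃ χ : B →ₐ[R] Ω, α = χ.comp f ∧ α' = χ.comp g

/-- Every point of the equalizer extends. -/
theorem exists_comp_val_eq (β : (AlgHom.equalizer f g) →ₐ[R] Ω) :
    ∃ α : A →ₐ[R] Ω, α.comp (AlgHom.equalizer f g).val = β := by
  have := SplitEq.finite_equalizer f g
  have := Equalizer.etale_equalizer f g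
  obtain ⟨α, hα⟩ := exists_extend _ (SplitEq.baseChange_equalizer f g Ω).1
    (Algebra.TensorProduct.liftEquivRight R Ω (AlgHom.equalizer f g) Ω β)
  refine ⟨(α.restrictScalars R).comp Algebra.TensorProduct.includeRight, AlgHom.ext fun x => ?_⟩
  simpa using AlgHom.congr_fun hα (1 ⊗ₜ x)

/-- Two points which agree on the equalizer are connected by points of `B`. -/
theorem eqvGen_of_comp_val_eq {α α' : A →ₐ[R] Ω}
    (h : α.comp (AlgHom.equalizer f g).val = α'.comp (AlgHom.equalizer f g).val) :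
    Relation.EqvGen (Rel f g Ω) α α' := by
  classical
  let L := Algebra.TensorProduct.liftEquivRight R Ω A Ω
  obtain ⟨z, hz⟩ := exists_forall_algHom_eq (A := Ω ⊗[R] A)
    fun γ => if Relation.EqvGen (Rel f g Ω) α (L.symm γ) then (1 : Ω) else 0
  have hfg : Algebra.TensorProduct.map (AlgHom.id Ω Ω) f z =
      Algebra.TensorProduct.map (AlgHom.id Ω Ω) g z := by
    refine eq_of_forall_algHom (k := Ω) fun χ => ?_
    rw [← AlgHom.comp_apply, ← AlgHom.comp_apply, hz, hz]
    have hrel : Rel f g Ω (L.symm (χ.comp (Algebra.TensorProduct.map (AlgHom.id Ω Ω) f)))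
        (L.symm (χ.comp (Algebra.TensorProduct.map (AlgHom.id Ω Ω) g))) :=
      ⟨(χ.restrictScalars R).comp Algebra.TensorProduct.includeRight,
        AlgHom.ext fun a => by simp [L], AlgHom.ext fun a => by simp [L]⟩
    refine if_congr ⟨fun hh => hh.trans _ _ _ (.rel _ _ hrel),
      fun hh => hh.trans _ _ _ (.symm _ _ (.rel _ _ hrel))⟩ rfl rfl
  obtain ⟨w, hw⟩ := ((SplitEq.baseChange_equalizer f g Ω).2 z).mp hfg
  have hL : ∀ γ : A →ₐ[R] Ω, L γ z =
      Algebra.TensorProduct.liftEquivRight R Ω _ Ω (γ.comp (AlgHom.equalizer f g).val) w := by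
    intro γ
    rw [← hw, ← AlgHom.comp_apply]
    congr 1
    ext x
    simp [L]
  have h1 := hz (L α)
  have h2 := hz (L α')
  rw [hL, h] at h1
  rw [hL, h1, L.symm_apply_apply, L.symm_apply_apply,
    if_pos (Relation.EqvGen.refl α)] at h2
  by_contra hn
  rw [if_neg hn] at h2
  exact one_ne_zero h2

section RingHom

variable {R A B : Type u} [CommRing R] [CommRing A] [CommRing B] (p : R →+* A) (f g : A →+* B)
  (hfg : f.comp p = g.comp p) (hA : p.Finite ∧ p.Etale)
  (hB : (f.comp p).Finite ∧ (f.comp p).Etale) {Ω : Type u} [Field Ω] [IsAlgClosed Ω] (φ : R →+* Ω)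

include hA hB in
theorem exists_extend_ringHom (β : f.eqLocus g →+* Ω)
    (hβ : β.comp (p.codRestrict (f.eqLocus g) (fun x => RingHom.congr_fun hfg x)) = φ) :
    ∃ α : A →+* Ω, α.comp p = φ ∧ α.comp (f.eqLocus g).subtype = β := by
  algebraize [p, f.comp p, φ]
  have : Module.Finite R A := hA.1
  have : Algebra.Etale R A := hA.2
  have : Module.Finite R B := hB.1
  have : Algebra.Etale R B := hB.2
  let f' : A →ₐ[R] B := { f with commutes' := fun _ => rfl }
  let g' : A →ₐ[R] B := { g with commutes' := fun r => (RingHom.congr_fun hfg r).symm }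
  let β' : (AlgHom.equalizer f' g') →ₐ[R] Ω :=
    { toFun := fun x => β ⟨x, x.2⟩
      map_one' := map_one β
      map_zero' := map_zero β
      map_mul' := fun x y => map_mul β ⟨x, x.2⟩ ⟨y, y.2⟩
      map_add' := fun x y => map_add β ⟨x, x.2⟩ ⟨y, y.2⟩
      commutes' := fun r => RingHom.congr_fun hβ r }
  obtain ⟨α, hα⟩ := exists_comp_val_eq f' g' Ω β'
  exact ⟨α.toRingHom, RingHom.ext α.commutes, RingHom.ext fun x => AlgHom.congr_fun hα ⟨x.1, x.2⟩⟩

include hA hB hfg in
theorem eqvGen_ringHom (α α' : { α : A →+* Ω // α.comp p = φ })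
    (h : α.1.comp (f.eqLocus g).subtype = α'.1.comp (f.eqLocus g).subtype) :
    Relation.EqvGen (fun a b : { α : A →+* Ω // α.comp p = φ } =>
      ∃ χ : B →+* Ω, a.1 = χ.comp f ∧ b.1 = χ.comp g) α α' := by
  algebraize [p, f.comp p, φ]
  have : Module.Finite R A := hA.1
  have : Algebra.Etale R A := hA.2
  have : Module.Finite R B := hB.1
  have : Algebra.Etale R B := hB.2
  let f' : A →ₐ[R] B := { f with commutes' := fun _ => rfl }
  let g' : A →ₐ[R] B := { g with commutes' := fun r => (RingHom.congr_fun hfg r).symm }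
  let a : A →ₐ[R] Ω := { α.1 with commutes' := RingHom.congr_fun α.2 }
  let a' : A →ₐ[R] Ω := { α'.1 with commutes' := RingHom.congr_fun α'.2 }
  have key : ∀ c d : A →ₐ[R] Ω, Relation.EqvGen (Rel f' g' Ω) c d →
      Relation.EqvGen (fun a b : { α : A →+* Ω // α.comp p = φ } =>
        ∃ χ : B →+* Ω, a.1 = χ.comp f ∧ b.1 = χ.comp g)
        ⟨c.toRingHom, RingHom.ext c.commutes⟩ ⟨d.toRingHom, RingHom.ext d.commutes⟩ := by
    intro c d hcd
    induction hcd with
    | rel c d hcd =>
      obtain ⟨χ, rfl, rfl⟩ := hcd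
      exact .rel _ _ ⟨χ.toRingHom, rfl, rfl⟩
    | refl c => exact .refl _
    | symm c d _ ih => exact .symm _ _ ih
    | trans c d e _ _ ih ih' => exact .trans _ _ _ ih ih'
  exact key a a' (eqvGen_of_comp_val_eq f' g' Ω
    (AlgHom.ext fun x => RingHom.congr_fun h ⟨x.1, x.2⟩))

end RingHom

end Groth.Agent.Lib.FEt.FiberAlg
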