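import Groth.Agent.Lib.FEt.Colimits
import Groth.Agent.Lib.FEt.FiberAlg

/-!
# The fibre functor at a geometric point: finiteness, coproducts, coequalizers
-/

universe u

open CategoryTheory CategoryTheory.Limits AlgebraicGeometry
open scoped TensorProduct

namespace Groth.Agent.Lib.FEt.Fiber

variable {X : Scheme.{u}} {Ω : Type u} [Field Ω]

/-- A field-valued point in an affine open is given by a ring map. -/
theorem exists_eq_SpecMap {W : Scheme.{u}} {V : W.Opens} (hV : IsAffineOpen V)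
    (s : Spec (CommRingCat.of Ω) ⟶ W) (hs : ∀ t, s.base t ∈ V) :
    ∃ ψ : Γ(W, V) ⟶ CommRingCat.of Ω, Spec.map ψ ≫ hV.fromSpec = s := by
  have h : Set.range s.base ⊆ Set.range hV.fromSpec.base := by
    rw [hV.range_fromSpec]
    exact Set.range_subset_iff.mpr hs
  exact ⟨Spec.preimage (IsOpenImmersion.lift hV.fromSpec s h), by
    rw [Spec.map_preimage, IsOpenImmersion.lift_fac]⟩

theorem ψ_unique {W : Scheme.{u}} {V : W.Opens} (hV : IsAffineOpen V)
    {ψ ψ' : Γ(W, V) ⟶ CommRingCat.of Ω}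
    (h : Spec.map ψ ≫ hV.fromSpec = Spec.map ψ' ≫ hV.fromSpec) : ψ = ψ' :=
  Spec.map_injective ((cancel_mono hV.fromSpec).mp h)

/-- Composition with a morphism, in coordinates. -/
theorem SpecMap_comp {V W : Scheme.{u}} (f : V ⟶ W) {A : W.Opens} {B : V.Opens}
    (hA : IsAffineOpen A) (hB : IsAffineOpen B) (e : B ≤ f ⁻¹ᵁ A)
    (ψ : Γ(V, B) ⟶ CommRingCat.of Ω) :
    Spec.map (f.appLE A B e ≫ ψ) ≫ hA.fromSpec = (Spec.map ψ ≫ hB.fromSpec) ≫ f := by
  rw [Spec.map_comp, Category.assoc, Category.assoc, IsAffineOpen.SpecMap_appLE_fromSpec f hA hB e]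

/-- The scheme-theoretic point of a geometric point. -/
noncomputable def point (ξ : Spec (CommRingCat.of Ω) ⟶ X) : X :=
  ξ.base (IsLocalRing.closedPoint Ω)

theorem base_eq_point (ξ : Spec (CommRingCat.of Ω) ⟶ X) (t : Spec (CommRingCat.of Ω)) :
    ξ.base t = point ξ := by
  rw [point]
  congr 1
  exact Subsingleton.elim (α := PrimeSpectrum Ω) _ _

variable (ξ : Spec (CommRingCat.of Ω) ⟶ X)

theorem exists_affine : ∃ U : X.affineOpens, point ξ ∈ U.1 := by
  obtain ⟨_, ⟨U, hU, rfl⟩, hx, -⟩ :=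
    X.isBasis_affineOpens.exists_subset_of_mem_open (Set.mem_univ (point ξ)) isOpen_univ
  exact ⟨⟨U, hU⟩, hx⟩

theorem mem_preimage {U : X.Opens} (hU : point ξ ∈ U) {W : Scheme.{u}} (p : W ⟶ X)
    {s : Spec (CommRingCat.of Ω) ⟶ W} (hs : s ≫ p = ξ) (t : Spec (CommRingCat.of Ω)) :
    s.base t ∈ p ⁻¹ᵁ U := by
  change p.base (s.base t) ∈ U
  rw [← Scheme.Hom.comp_apply, hs, base_eq_point]
  exact hU

theorem finite_homs {R A : Type u} [CommRing R] [CommRing A] (p : R →+* A) (hp : p.Finite)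
    (φ : R →+* Ω) : Finite { α : A →+* Ω // α.comp p = φ } := by
  algebraize [p, φ]
  have : Module.Finite R A := hp
  have : Finite (A →ₐ[R] Ω) :=
    Finite.of_equiv (Ω ⊗[R] A →ₐ[Ω] Ω) (Algebra.TensorProduct.liftEquivRight R Ω A Ω).symm
  exact Finite.of_injective
    (fun α => ({ α.1 with commutes' := RingHom.congr_fun α.2 } : A →ₐ[R] Ω))
    fun α β h => Subtype.ext (RingHom.ext fun x => AlgHom.congr_fun h x)

theorem finite_fiberObj (Y : FEt.Cat X) : Finite (FEt.fiberObj ξ Y) := by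
  obtain ⟨U, hU⟩ := exists_affine ξ
  obtain ⟨φ, hφ⟩ := exists_eq_SpecMap U.2 ξ fun t => base_eq_point ξ t ▸ hU
  have hp : IsAffineOpen (Y.hom ⁻¹ᵁ U.1) := U.2.preimage Y.hom
  choose ψ hψ using fun s : FEt.fiberObj ξ Y =>
    exists_eq_SpecMap hp s.1 fun t => mem_preimage ξ hU Y.hom s.2 t
  have hover : ∀ s, Y.hom.app U.1 ≫ ψ s = φ := fun s => by
    apply ψ_unique U.2
    rw [Y.hom.app_eq_appLE, SpecMap_comp Y.hom U.2 hp, hψ, hφ]
    exact s.2
  have := finite_homs (Y.hom.app U.1).hom (Y.hom.finite_app U.1 U.2) φ.hom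
  refine Finite.of_injective
    (fun s => (⟨(ψ s).hom, congrArg CommRingCat.Hom.hom (hover s)⟩ :
      { α // α.comp (Y.hom.app U.1).hom = φ.hom }))
    fun s s' h => Subtype.ext ?_
  rw [← hψ s, ← hψ s', CommRingCat.hom_ext (congrArg Subtype.val h)]

theorem map_apply {Y Y' : FEt.Cat X} (a : Y ⟶ Y') (s : FEt.fiberObj ξ Y) :
    ((FEt.fiber ξ).map a s).1 = s.1 ≫ a.left := rfl

theorem exists_lift {W V : Scheme.{u}} (i : V ⟶ W) [IsOpenImmersion i]
    (s : Spec (CommRingCat.of Ω) ⟶ W) (h : point s ∈ Set.range i.base) :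
    ∃ r : Spec (CommRingCat.of Ω) ⟶ V, r ≫ i = s :=
  ⟨IsOpenImmersion.lift i s (by rintro _ ⟨t, rfl⟩; rw [base_eq_point]; exact h),
    IsOpenImmersion.lift_fac _ _ _⟩

section Coproduct

variable (Y Z : FEt.Cat X)

theorem isEmpty_empty : IsEmpty (FEt.fiberObj ξ (Coproduct.empty X)) :=
  ⟨fun s => isEmptyElim (α := (⊥_ Scheme.{u})) (s.1.base (IsLocalRing.closedPoint Ω))⟩

/-- The comparison map of the disjoint union. -/
noncomputable def sumMap :
    FEt.fiberObj ξ Y ⊕ FEt.fiberObj ξ Z → FEt.fiberObj ξ (Coproduct.sum Y Z) :=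
  Sum.elim ((FEt.fiber ξ).map (Coproduct.sumCofan Y Z).inl)
    ((FEt.fiber ξ).map (Coproduct.sumCofan Y Z).inr)

theorem sumMap_bijective : Function.Bijective (sumMap ξ Y Z) := by
  have hinj : ∀ (a : FEt.fiberObj ξ Y) (b : FEt.fiberObj ξ Z),
      a.1 ≫ coprod.inl (Y := Z.left) ≠ b.1 ≫ coprod.inr := fun a b h => by
    have := congrArg (fun f => f.base (IsLocalRing.closedPoint Ω)) h
    exact Set.disjoint_iff_forall_ne.mp (isCompl_range_inl_inr Y.left Z.left).disjoint
      ⟨_, rfl⟩ ⟨_, rfl⟩ this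
  refine ⟨?_, ?_⟩
  · rintro (a | a) (b | b) h <;> have h' := congrArg Subtype.val h
    · exact congrArg Sum.inl (Subtype.ext ((cancel_mono coprod.inl).mp h'))
    · exact absurd h' (hinj a b)
    · exact absurd h'.symm (hinj b a)
    · exact congrArg Sum.inr (Subtype.ext ((cancel_mono coprod.inr).mp h'))
  · intro s
    let s₀ : Spec (CommRingCat.of Ω) ⟶ Y.left ⨿ Z.left := s.1
    have hs : s₀ ≫ coprod.desc Y.hom Z.hom = ξ := s.2
    rcases Set.eq_univ_iff_forall.mp (isCompl_range_inl_inr Y.left Z.left).sup_eq_top (point s₀)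
      with h | h
    · obtain ⟨r, hr⟩ := exists_lift (coprod.inl (X := Y.left) (Y := Z.left)) s₀ h
      refine ⟨.inl ⟨r, ?_⟩, Subtype.ext hr⟩
      rw [← hr, Category.assoc, coprod.inl_desc] at hs
      exact hs
    · obtain ⟨r, hr⟩ := exists_lift (coprod.inr (X := Y.left) (Y := Z.left)) s₀ h
      refine ⟨.inr ⟨r, ?_⟩, Subtype.ext hr⟩
      rw [← hr, Category.assoc, coprod.inr_desc] at hs
      exact hs

end Coproduct

section Coequalizer

variable [IsAlgClosed Ω] {Y Y' : FEt.Cat X} (a b : Y ⟶ Y')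

theorem finite_etale_app (U : X.affineOpens) (W : Scheme.{u}) (p : W ⟶ X) [IsFinite p] [Etale p] :
    (p.app U.1).hom.Finite ∧ (p.app U.1).hom.Etale :=
  ⟨p.finite_app U.1 U.2, by
    rw [p.app_eq_appLE]; exact p.etale_appLE U.2 (U.2.preimage p) le_rfl⟩

theorem π_surjective : Function.Surjective ((FEt.fiber ξ).map (Colimits.π a b)) := by
  intro t
  have := Basic.isFinite_left a
  have := Basic.etale_left a
  let p := Y'.hom
  have hfg := Colimits.w a b
  obtain ⟨U, hU⟩ := exists_affine ξ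
  obtain ⟨φ, hφ⟩ := exists_eq_SpecMap U.2 ξ fun x => base_eq_point ξ x ▸ hU
  let t₀ : Spec (CommRingCat.of Ω) ⟶ Coequalizer.Q p a.left b.left hfg := t.1
  have ht₀ : t₀ ≫ Coequalizer.q p a.left b.left hfg = ξ := t.2
  obtain ⟨r, hr⟩ := exists_lift (Coequalizer.ι p a.left b.left hfg U) t₀
    ((Coequalizer.q_preimage p a.left b.left hfg U).le (mem_preimage ξ hU _ ht₀ _))
  obtain ⟨β, rfl⟩ : ∃ β, Spec.map β = r := ⟨Spec.preimage r, Spec.map_preimage r⟩
  have hβφ : CommRingCat.ofHom ((p.app U.1).hom.codRestrict _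
      (Coequalizer.app_mem p a.left b.left hfg U.1)) ≫ β = φ := by
    apply ψ_unique U.2
    have h1 := ht₀
    rw [← hr, Category.assoc, Coequalizer.ι_q, ← hφ] at h1
    rw [Spec.map_comp, Category.assoc]
    exact h1
  obtain ⟨ψ, hψp, hψ⟩ := FiberAlg.exists_extend_ringHom (p.app U.1).hom
    (Coequalizer.fApp p a.left U.1).hom (Coequalizer.gApp p a.left b.left hfg U.1).hom
    (congrArg CommRingCat.Hom.hom
      ((Coequalizer.app_fApp p a.left U.1).trans (Coequalizer.app_gApp p a.left b.left hfg U.1).symm))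
    (finite_etale_app U _ p)
    (by
      have h : (Coequalizer.fApp p a.left U.1).hom.comp (p.app U.1).hom = ((a.left ≫ p).app U.1).hom :=
        congrArg CommRingCat.Hom.hom (Coequalizer.app_fApp p a.left U.1)
      rw [h]; exact finite_etale_app U _ _)
    φ.hom β.hom (congrArg CommRingCat.Hom.hom hβφ)
  have hψU : p.app U.1 ≫ CommRingCat.ofHom ψ = φ := CommRingCat.hom_ext hψp
  refine ⟨⟨Spec.map (CommRingCat.ofHom ψ) ≫ (U.2.preimage p).fromSpec, ?_⟩, Subtype.ext ?_⟩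
  · rw [← SpecMap_comp p U.2 (U.2.preimage p) le_rfl, ← p.app_eq_appLE, hψU, hφ]
  · have hincl : CommRingCat.ofHom (Coequalizer.sub p a.left b.left hfg U.1).subtype ≫
        CommRingCat.ofHom ψ = β := CommRingCat.hom_ext hψ
    refine (Category.assoc _ _ _).trans ?_
    change Spec.map _ ≫ _ ≫ Coequalizer.proj p a.left b.left hfg = t₀
    rw [← Coequalizer.incl_ι, ← Spec.map_comp_assoc, hincl, hr]

theorem eqvGen_of_π_eq {s s' : FEt.fiberObj ξ Y'}
    (h : (FEt.fiber ξ).map (Colimits.π a b) s = (FEt.fiber ξ).map (Colimits.π a b) s') :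
    Relation.EqvGen (fun x y : FEt.fiberObj ξ Y' =>
      ∃ r : FEt.fiberObj ξ Y, x = (FEt.fiber ξ).map a r ∧ y = (FEt.fiber ξ).map b r) s s' := by
  have := Basic.isFinite_left a
  have := Basic.etale_left a
  let p := Y'.hom
  have hfg := Colimits.w a b
  obtain ⟨U, hU⟩ := exists_affine ξ
  obtain ⟨φ, hφ⟩ := exists_eq_SpecMap U.2 ξ fun x => base_eq_point ξ x ▸ hU
  have hp : IsAffineOpen (p ⁻¹ᵁ U.1) := U.2.preimage p
  have hY : IsAffineOpen ((a.left ≫ p) ⁻¹ᵁ U.1) := U.2.preimage (a.left ≫ p)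
  let T := { α : Γ(Y'.left, p ⁻¹ᵁ U.1) →+* Ω // α.comp (p.app U.1).hom = φ.hom }
  let pt : T → FEt.fiberObj ξ Y' := fun α => ⟨Spec.map (CommRingCat.ofHom α.1) ≫ hp.fromSpec, by
    rw [← SpecMap_comp p U.2 hp le_rfl, ← p.app_eq_appLE,
      show p.app U.1 ≫ CommRingCat.ofHom α.1 = φ from CommRingCat.hom_ext α.2, hφ]⟩
  have hT : ∀ s : FEt.fiberObj ξ Y', ∃ α : T, pt α = s := fun s => by
    obtain ⟨ψ, hψ⟩ := exists_eq_SpecMap hp s.1 fun x => mem_preimage ξ hU p s.2 x
    refine ⟨⟨ψ.hom, congrArg CommRingCat.Hom.hom (ψ_unique U.2 (ψ := p.app U.1 ≫ ψ) ?_)⟩,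
      Subtype.ext hψ⟩
    rw [p.app_eq_appLE, SpecMap_comp p U.2 hp, hψ, hφ]
    exact s.2
  obtain ⟨α, rfl⟩ := hT s
  obtain ⟨α', rfl⟩ := hT s'
  have hpi : ∀ α : T, ((FEt.fiber ξ).map (Colimits.π a b) (pt α)).1 =
      Spec.map (CommRingCat.ofHom (Coequalizer.sub p a.left b.left hfg U.1).subtype ≫
        CommRingCat.ofHom α.1) ≫ Coequalizer.ι p a.left b.left hfg U := fun α => by
    refine (Category.assoc _ _ _).trans ?_
    change Spec.map _ ≫ _ ≫ Coequalizer.proj p a.left b.left hfg = _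
    rw [← Coequalizer.incl_ι, ← Spec.map_comp_assoc]
  have heq' : (Spec.map (CommRingCat.ofHom (Coequalizer.sub p a.left b.left hfg U.1).subtype ≫
        CommRingCat.ofHom α.1) ≫ Coequalizer.ι p a.left b.left hfg U :
        Spec (CommRingCat.of Ω) ⟶ Coequalizer.Q p a.left b.left hfg) =
      Spec.map (CommRingCat.ofHom (Coequalizer.sub p a.left b.left hfg U.1).subtype ≫
        CommRingCat.ofHom α'.1) ≫ Coequalizer.ι p a.left b.left hfg U :=
    (hpi α).symm.trans ((congrArg Subtype.val h).trans (hpi α'))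
  have heq := (cancel_mono (Coequalizer.ι p a.left b.left hfg U)).mp heq'
  have key : ∀ α α' : T, Relation.EqvGen (fun x y : T => ∃ χ : Γ(Y.left, (a.left ≫ p) ⁻¹ᵁ U.1) →+* Ω,
      x.1 = χ.comp (Coequalizer.fApp p a.left U.1).hom ∧
        y.1 = χ.comp (Coequalizer.gApp p a.left b.left hfg U.1).hom) α α' →
      Relation.EqvGen (fun x y : FEt.fiberObj ξ Y' =>
        ∃ r : FEt.fiberObj ξ Y, x = (FEt.fiber ξ).map a r ∧ y = (FEt.fiber ξ).map b r)
        (pt α) (pt α') := by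
    intro α α' hr
    induction hr with
    | rel x y hxy =>
      obtain ⟨χ, hx, hy⟩ := hxy
      have hxs : (pt x).1 = (Spec.map (CommRingCat.ofHom χ) ≫ hY.fromSpec) ≫ a.left := by
        rw [← SpecMap_comp a.left hp hY (Coequalizer.le_f p a.left U.1)]
        exact congrArg (fun t => Spec.map t ≫ hp.fromSpec) (CommRingCat.hom_ext hx)
      have hys : (pt y).1 = (Spec.map (CommRingCat.ofHom χ) ≫ hY.fromSpec) ≫ b.left := by
        rw [← SpecMap_comp b.left hp hY (Coequalizer.le_g p a.left b.left hfg U.1)]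
        exact congrArg (fun t => Spec.map t ≫ hp.fromSpec) (CommRingCat.hom_ext hy)
      refine .rel _ _ ⟨⟨Spec.map (CommRingCat.ofHom χ) ≫ hY.fromSpec, ?_⟩,
        Subtype.ext hxs, Subtype.ext hys⟩
      have := (pt x).2
      rw [hxs, Category.assoc] at this
      exact (congrArg (_ ≫ ·) (Over.w a.hom).symm).trans this
    | refl x => exact .refl _
    | symm x y _ ih => exact .symm _ _ ih
    | trans x y z _ _ ih ih' => exact .trans _ _ _ ih ih'
  refine key α α' (FiberAlg.eqvGen_ringHom (p.app U.1).hom (Coequalizer.fApp p a.left U.1).hom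
    (Coequalizer.gApp p a.left b.left hfg U.1).hom
    (congrArg CommRingCat.Hom.hom
      ((Coequalizer.app_fApp p a.left U.1).trans (Coequalizer.app_gApp p a.left b.left hfg U.1).symm))
    (finite_etale_app U _ p) ?_ φ.hom α α' (congrArg CommRingCat.Hom.hom (Spec.map_injective heq)))
  have h' : (Coequalizer.fApp p a.left U.1).hom.comp (p.app U.1).hom = ((a.left ≫ p).app U.1).hom :=
    congrArg CommRingCat.Hom.hom (Coequalizer.app_fApp p a.left U.1)
  rw [h']; exact finite_etale_app U _ _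

end Coequalizer

end Groth.Agent.Lib.FEt.Fiber
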