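import Mathlib.AlgebraicGeometry.AlgClosed.Basic
import Mathlib.AlgebraicGeometry.Morphisms.FlatMono
import Mathlib.AlgebraicGeometry.Morphisms.QuasiFinite
import Mathlib.AlgebraicGeometry.PullbackCarrier
import Groth.Agent.Lib.FEt.Fiber

/-!
# Geometric fibres detect isomorphisms
-/

universe u

open CategoryTheory CategoryTheory.Limits AlgebraicGeometry

namespace Groth.Agent.Lib.FEt.Conservative

variable {X : Scheme.{u}} {Ω : Type u} [Field Ω] [IsAlgClosed Ω]

/-- A point lying over a geometric point lifts to a geometric point. -/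
theorem exists_lift_point (ξ : Spec (CommRingCat.of Ω) ⟶ X) {W : Scheme.{u}} (p : W ⟶ X)
    [IsFinite p] (w : W) (hw : p.base w = Fiber.point ξ) :
    ∃ s : Spec (CommRingCat.of Ω) ⟶ W, s ≫ p = ξ ∧ Fiber.point s = w := by
  obtain ⟨t, ht, -⟩ := Scheme.Pullback.exists_preimage_pullback (f := p) (g := ξ) w
    (IsLocalRing.closedPoint Ω) hw
  have hd : DiscreteTopology (pullback p ξ : Scheme.{u}) := by
    have huniv : (pullback.snd p ξ).base ⁻¹' {IsLocalRing.closedPoint Ω} = Set.univ :=
      Set.eq_univ_of_forall fun x => Subsingleton.elim (α := PrimeSpectrum Ω) _ _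
    exact isDiscrete_univ_iff.mp
      (huniv ▸ (pullback.snd p ξ).isDiscrete_preimage_singleton (IsLocalRing.closedPoint Ω))
  have hc : IsClosed {t} := isClosed_discrete _
  refine ⟨pointOfClosedPoint (pullback.snd p ξ) t hc ≫ pullback.fst p ξ, ?_, ?_⟩
  · rw [Category.assoc, pullback.condition, pointOfClosedPoint_comp_assoc]
  · exact (congrArg (pullback.fst p ξ).base (pointOfClosedPoint_apply _ t hc _)).trans ht

/-- Geometric points which meet every nonempty clopen subset. -/
def MeetsClopens (X : Scheme.{u}) (S : Set X) : Prop :=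
  ∀ s : Set X, IsClopen s → s.Nonempty → (s ∩ S).Nonempty

theorem meetsClopens_singleton [PreconnectedSpace X] (x : X) : MeetsClopens X {x} :=
  fun s hs hne => ⟨x, (hs.eq_univ hne).symm ▸ trivial, rfl⟩

theorem meetsClopens_univ : MeetsClopens X Set.univ :=
  fun s _ hne => by rwa [Set.inter_univ]

/-- A morphism of finite etale covers bijective on enough geometric fibres is an isomorphism. -/
theorem isIso_of_bijective {ι : Type*} {K : ι → Type u} [∀ i, Field (K i)] [∀ i, IsAlgClosed (K i)]
    (ξ : ∀ i, Spec (CommRingCat.of (K i)) ⟶ X)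
    (hξ : MeetsClopens X (Set.range fun i => Fiber.point (ξ i)))
    {Y Z : FEt.Cat X} (φ : Y ⟶ Z) (h : ∀ i, Function.Bijective ((FEt.fiber (ξ i)).map φ)) :
    IsIso φ := by
  have := Basic.isFinite_left φ
  have := Basic.etale_left φ
  have hclopen : ∀ {W : Scheme.{u}} (p : W ⟶ X) [IsFinite p] [Etale p] (s : Set W), IsClopen s →
      s.Nonempty → ∃ (i : ι) (r : Spec (CommRingCat.of (K i)) ⟶ W),
        r ≫ p = ξ i ∧ Fiber.point r ∈ s := by
    intro W p _ _ s hs hne
    obtain ⟨x, ⟨w, hw, hwx⟩, i, rfl⟩ := hξ _ (Basic.isClopen_image p hs) (hne.image _)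
    obtain ⟨r, hr, hrw⟩ := exists_lift_point (ξ i) p w hwx
    exact ⟨i, r, hr, hrw ▸ hw⟩
  have hsurj : Surjective φ.left := by
    refine ⟨fun z => ?_⟩
    by_contra hz
    have hcl := (Basic.isClopen_image φ.left isClopen_univ).compl
    rw [Set.image_univ] at hcl
    obtain ⟨i, r, hr, hrz⟩ := hclopen Z.hom _ hcl ⟨z, hz⟩
    obtain ⟨y, hy⟩ := (h i).2 ⟨r, hr⟩
    have hy' : y.1 ≫ φ.left = r := congrArg Subtype.val hy
    exact hrz ⟨Fiber.point y.1, congrArg Fiber.point hy'⟩
  have hdiag : Surjective (pullback.diagonal φ.left) := by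
    refine ⟨fun z => ?_⟩
    by_contra hz
    have hcl : IsClopen (Set.range (pullback.diagonal φ.left).base) :=
      ⟨(pullback.diagonal φ.left).isClosedEmbedding.isClosed_range,
        (pullback.diagonal φ.left).isOpenEmbedding.isOpen_range⟩
    obtain ⟨i, r, hr, hrz⟩ := hclopen (pullback.fst φ.left φ.left ≫ φ.left ≫ Z.hom) _ hcl.compl
      ⟨z, hz⟩
    have hY : φ.left ≫ Z.hom = Y.hom := Over.w φ.hom
    let r₁ : FEt.fiberObj (ξ i) Y := ⟨r ≫ pullback.fst _ _, by
      rw [Category.assoc, ← hY]; exact hr⟩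
    let r₂ : FEt.fiberObj (ξ i) Y := ⟨r ≫ pullback.snd _ _, by
      rw [Category.assoc, ← hY, ← pullback.condition_assoc]; exact hr⟩
    have h12 : r₁ = r₂ := (h i).1 (Subtype.ext (by
      change (r ≫ pullback.fst _ _) ≫ φ.left = (r ≫ pullback.snd _ _) ≫ φ.left
      rw [Category.assoc, Category.assoc, pullback.condition]))
    refine hrz ⟨Fiber.point r₁.1, ?_⟩
    have : r₁.1 ≫ pullback.diagonal φ.left = r := by
      apply pullback.hom_ext
      · rw [Category.assoc, pullback.diagonal_fst, Category.comp_id]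
      · rw [Category.assoc, pullback.diagonal_snd, Category.comp_id]
        exact congrArg Subtype.val h12
    exact congrArg Fiber.point this
  have : IsIso (pullback.diagonal φ.left) :=
    (isIso_iff_isOpenImmersion_and_surjective _).mpr ⟨inferInstance, hdiag⟩
  have : Mono φ.left := (pullback.isIso_diagonal_iff φ.left).mp inferInstance
  have : IsOpenImmersion φ.left := IsOpenImmersion.of_flat_of_mono φ.left
  have : IsIso φ.left := (isIso_iff_isOpenImmersion_and_surjective _).mpr ⟨inferInstance, hsurj⟩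
  have : IsIso ((MorphismProperty.Over.forget FEt.prop.{u} ⊤ X ⋙ Over.forget X).map φ) :=
    inferInstanceAs (IsIso φ.left)
  exact isIso_of_reflects_iso φ (MorphismProperty.Over.forget FEt.prop.{u} ⊤ X ⋙ Over.forget X)

theorem isIso_of_bijective_one [PreconnectedSpace X] (ξ : Spec (CommRingCat.of Ω) ⟶ X)
    {Y Z : FEt.Cat X} (φ : Y ⟶ Z) (h : Function.Bijective ((FEt.fiber ξ).map φ)) : IsIso φ :=
  isIso_of_bijective (fun _ : Unit => ξ)
    (by rw [Set.range_const]; exact meetsClopens_singleton _) φ fun _ => h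

end Groth.Agent.Lib.FEt.Conservative
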