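import Mathlib.Topology.Spectral.Prespectral
import Mathlib.Topology.QuasiSeparated
import Mathlib.Topology.Connected.Clopen
import Mathlib.Topology.Connected.TotallyDisconnected
import Mathlib.Topology.Homeomorph.Lemmas

/-!
# Connected components of compact quasi-separated spaces with a basis of compact opens
-/

universe u v

open Set TopologicalSpace

namespace Groth.Agent.Lib.FEt.QuasiComp

variable {X : Type u} [TopologicalSpace X] [CompactSpace X] [QuasiSeparatedSpace X]
  [PrespectralSpace X]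

theorem connectedComponent_eq_iInter (x : X) :
    connectedComponent x = ⋂ s : { s : Set X // IsClopen s ∧ x ∈ s }, (s : Set X) := by
  refine Subset.antisymm connectedComponent_subset_iInter_isClopen ?_
  set Q := ⋂ s : { s : Set X // IsClopen s ∧ x ∈ s }, (s : Set X)
  have hQ : IsClosed Q := isClosed_iInter fun s => s.2.1.1
  refine IsPreconnected.subset_connectedComponent ?_ (mem_iInter.2 fun s => s.2.2)
  rw [isPreconnected_iff_subset_of_fully_disjoint_closed hQ]
  intro a b ha hb hab hdisj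
  wlog hxa : x ∈ a generalizing a b
  · exact (this b a hb ha (by rwa [union_comm]) hdisj.symm
      ((hab (mem_iInter.2 fun s => s.2.2)).resolve_left hxa)).symm
  have hA : IsCompact (Q ∩ a) := (hQ.inter ha).isCompact
  have hB : IsCompact (Q ∩ b) := (hQ.inter hb).isCompact
  obtain ⟨U, hUc, hUo, hAU, hUB⟩ := PrespectralSpace.exists_isCompact_and_isOpen_between hA (hQ.inter hb).isOpen_compl
    (fun z hz hz' => hdisj.notMem_of_mem_left hz.2 hz'.2)
  obtain ⟨V, hVc, hVo, hBV, hVA⟩ := PrespectralSpace.exists_isCompact_and_isOpen_between hB (hQ.inter ha).isOpen_compl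
    (fun z hz hz' => hdisj.notMem_of_mem_left hz'.2 hz.2)
  have hKc : IsCompact (U ∩ V ∪ (U ∪ V)ᶜ) :=
    (QuasiSeparatedSpace.inter_isCompact U V hUo hUc hVo hVc).union
      (hUo.union hVo).isClosed_compl.isCompact
  have hempty : (U ∩ V ∪ (U ∪ V)ᶜ) ∩ Q = ∅ := by
    refine eq_empty_iff_forall_notMem.mpr fun z hz => ?_
    rcases hz.1 with ⟨hzU, hzV⟩ | hzn
    · rcases hab hz.2 with h | h
      · exact hVA hzV ⟨hz.2, h⟩
      · exact hUB hzU ⟨hz.2, h⟩
    · rcases hab hz.2 with h | h
      · exact hzn (Or.inl (hAU ⟨hz.2, h⟩))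
      · exact hzn (Or.inr (hBV ⟨hz.2, h⟩))
  obtain ⟨t, ht⟩ := hKc.elim_finite_subfamily_closed _
    (fun s : { s : Set X // IsClopen s ∧ x ∈ s } => s.2.1.1) hempty
  let Z := ⋂ s ∈ t, (s : Set X)
  have hZ : IsClopen Z := isClopen_biInter_finset fun s _ => s.2.1
  have hxZ : x ∈ Z := mem_iInter₂.2 fun s _ => s.2.2
  have hZUV : ∀ z ∈ Z, (z ∈ U ∨ z ∈ V) ∧ ¬(z ∈ U ∧ z ∈ V) := fun z hz => by
    have := eq_empty_iff_forall_notMem.mp ht z
    constructor
    · by_contra hn
      exact this ⟨Or.inr hn, hz⟩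
    · exact fun h => this ⟨Or.inl h, hz⟩
  have hZU : IsClopen (Z ∩ U) := by
    refine ⟨?_, hZ.2.inter hUo⟩
    rw [show Z ∩ U = Z ∩ Vᶜ from Set.ext fun z => ⟨fun h => ⟨h.1, fun hv => (hZUV z h.1).2 ⟨h.2, hv⟩⟩,
      fun h => ⟨h.1, (hZUV z h.1).1.resolve_right h.2⟩⟩]
    exact hZ.1.inter hVo.isClosed_compl
  refine Or.inl fun z hz => ?_
  have hzU := mem_iInter.1 hz ⟨_, hZU, hxZ, hAU ⟨mem_iInter.2 fun s => s.2.2, hxa⟩⟩
  exact (hab hz).resolve_right fun hzb => hUB hzU.2 ⟨hz, hzb⟩

theorem exists_clopen_separating {a b : X} (h : connectedComponent a ≠ connectedComponent b) :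
    ∃ s : Set X, IsClopen s ∧ a ∈ s ∧ b ∉ s := by
  by_contra! hno
  refine h (connectedComponent_eq ?_)
  rw [connectedComponent_eq_iInter]
  exact mem_iInter.2 fun s => hno s.1 s.2.1 s.2.2

instance : T2Space (ConnectedComponents X) := by
  refine ⟨fun p q hpq => ?_⟩
  obtain ⟨a, rfl⟩ := ConnectedComponents.surjective_coe p
  obtain ⟨b, rfl⟩ := ConnectedComponents.surjective_coe q
  obtain ⟨s, hs, has, hbs⟩ := exists_clopen_separating fun h => hpq (ConnectedComponents.coe_eq_coe.mpr h)
  have hsat : ∀ t : Set X, IsClopen t → (fun x : X => (x : ConnectedComponents X)) ⁻¹'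
      ((fun x : X => (x : ConnectedComponents X)) '' t) = t := fun t ht =>
    (connectedComponents_preimage_image t).trans ht.biUnion_connectedComponent_eq
  exact ⟨_, _, ConnectedComponents.isQuotientMap_coe.isOpen_preimage.mp ((hsat s hs).symm ▸ hs.2),
    ConnectedComponents.isQuotientMap_coe.isOpen_preimage.mp ((hsat sᶜ hs.compl).symm ▸ hs.compl.2),
    mem_image_of_mem _ has, mem_image_of_mem _ hbs, by
      rw [disjoint_left]
      rintro p ⟨c, hc, rfl⟩ ⟨d, hd, hdc⟩
      exact hd (hs.connectedComponent_subset hc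
        (ConnectedComponents.coe_eq_coe'.mp hdc))⟩

/-- A map inducing a bijection on clopen subsets induces a homeomorphism on components. -/
theorem isHomeomorph_connectedComponentsMap {Y : Type v} [TopologicalSpace Y] [CompactSpace Y]
    [QuasiSeparatedSpace Y] [PrespectralSpace Y] {f : X → Y} (hf : Continuous f)
    (hne : ∀ D : Set Y, IsClopen D → D.Nonempty → (f ⁻¹' D).Nonempty)
    (hex : ∀ C : Set X, IsClopen C → ∃ D, IsClopen D ∧ f ⁻¹' D = C) :
    IsHomeomorph hf.connectedComponentsMap := by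
  refine isHomeomorph_iff_continuous_bijective.mpr ⟨hf.connectedComponentsMap_continuous, ?_, ?_⟩
  · intro p q hpq
    obtain ⟨a, rfl⟩ := ConnectedComponents.surjective_coe p
    obtain ⟨b, rfl⟩ := ConnectedComponents.surjective_coe q
    by_contra hne'
    obtain ⟨s, hs, has, hbs⟩ :=
      exists_clopen_separating fun h => hne' (ConnectedComponents.coe_eq_coe.mpr h)
    obtain ⟨D, hD, rfl⟩ := hex s hs
    exact hbs (hD.connectedComponent_subset has (ConnectedComponents.coe_eq_coe'.mp hpq.symm))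
  · intro q
    obtain ⟨y, rfl⟩ := ConnectedComponents.surjective_coe q
    have hfin : (univ ∩ ⋂ s : { s : Set Y // IsClopen s ∧ y ∈ s }, f ⁻¹' (s : Set Y)).Nonempty := by
      refine isCompact_univ.inter_iInter_nonempty _
        (fun s => s.2.1.1.preimage hf) fun t => ?_
      rw [univ_inter]
      obtain ⟨x, hx⟩ := hne _ (isClopen_biInter_finset (s := t) fun s _ => s.2.1)
        ⟨y, mem_iInter₂.2 fun s _ => s.2.2⟩
      exact ⟨x, by simpa using hx⟩
    obtain ⟨x, -, hx⟩ := hfin
    refine ⟨ConnectedComponents.mk x, ConnectedComponents.coe_eq_coe'.mpr ?_⟩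
    rw [connectedComponent_eq_iInter]
    exact mem_iInter.2 fun s => mem_iInter.1 hx s

end Groth.Agent.Lib.FEt.QuasiComp
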