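import Groth.Agent.Lib.FEt.GaloisCat
import Groth.Agent.Lib.FEt.QuasiComp

/-!
# An equivalence of categories of finite etale covers identifies clopen subsets
-/

universe u

open CategoryTheory CategoryTheory.Limits AlgebraicGeometry

namespace Groth.Agent.Lib.FEt.EquivClopen

variable {X Y : Scheme.{u}} (f : X ⟶ Y) [(FEt.restrict f).IsEquivalence]

/-- The trivial cover. -/
noncomputable def triv (X : Scheme.{u}) : FEt.Cat X :=
  MorphismProperty.Over.mk ⊤ (𝟙 X) (FEt.prop.id_mem X)

theorem isEmpty_of_restrict (Z : FEt.Cat Y) (h : IsEmpty ((FEt.restrict f).obj Z).left) :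
    IsEmpty Z.left := by
  let a := Coproduct.isInitialEmpty.to Z
  have hR : IsEmpty ((FEt.restrict f).obj (Coproduct.empty Y)).left :=
    ⟨fun t => isEmptyElim (α := (⊥_ Scheme.{u}))
      ((pullback.fst (Coproduct.empty Y).hom f).base t)⟩
  have : IsIso ((MorphismProperty.Over.forget FEt.prop.{u} ⊤ X ⋙ Over.forget X).map
      ((FEt.restrict f).map a)) := by
    have := @isIso_of_isEmpty _ _ ((FEt.restrict f).map a).left h
    exact this
  have : IsIso ((FEt.restrict f).map a) :=
    isIso_of_reflects_iso _ (MorphismProperty.Over.forget FEt.prop.{u} ⊤ X ⋙ Over.forget X)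
  have : IsIso a := isIso_of_reflects_iso a (FEt.restrict f)
  exact ⟨fun z => isEmptyElim (α := (⊥_ Scheme.{u})) ((inv a).left.base z)⟩

theorem preimage_nonempty {D : Set Y} (hD : IsClopen D) (hne : D.Nonempty) :
    (f.base ⁻¹' D).Nonempty := by
  by_contra hn
  let V : (triv Y).left.Opens := ⟨D, hD.2⟩
  have := isEmpty_of_restrict f (Summand.clopenSub (triv Y) V hD.1) ⟨fun t => hn
    ⟨(pullback.snd (Summand.clopenSub (triv Y) V hD.1).hom f).base t, by
      have h1 := congrArg (fun m : (pullback (Summand.clopenSub (triv Y) V hD.1).hom f : Scheme.{u}) ⟶ Y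
        => m.base t) pullback.condition
      show f.base _ ∈ D
      exact Set.mem_of_eq_of_mem h1.symm
        (SetLike.coe_mem ((pullback.fst (Summand.clopenSub (triv Y) V hD.1).hom f).base t : V))⟩⟩
  obtain ⟨y, hy⟩ := hne
  exact this.false ⟨y, hy⟩

theorem exists_clopen {C : Set X} (hC : IsClopen C) :
    ∃ D : Set Y, IsClopen D ∧ f.base ⁻¹' D = C := by
  let V : (triv X).left.Opens := ⟨C, hC.2⟩
  let S := Summand.clopenSub (triv X) V hC.1
  let U := (FEt.restrict f).objPreimage S
  let e : (FEt.restrict f).obj U ≅ S := (FEt.restrict f).objObjPreimageIso S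
  let F := MorphismProperty.Over.forget FEt.prop.{u} ⊤ X ⋙ Over.forget X
  let a : U ⟶ triv Y := MorphismProperty.Over.homMk U.hom (Category.comp_id _)
  let el : (pullback U.hom f : Scheme.{u}) ⟶ (V : Scheme.{u}) := e.hom.left
  have hel : el ≫ V.ι = pullback.snd U.hom f :=
    (congrArg (el ≫ ·) (Category.comp_id _).symm).trans (Over.w e.hom.hom)
  have heq : F.map ((FEt.restrict f).map a) ≫ pullback.snd (𝟙 Y) f = pullback.snd U.hom f :=
    Over.w ((FEt.restrict f).map a).hom
  have hsnd : IsOpenImmersion (pullback.snd U.hom f) := by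
    have hiso : IsIso el := ⟨⟨e.inv.left, congrArg (fun m => m.left) e.hom_inv_id,
      congrArg (fun m => m.left) e.inv_hom_id⟩⟩
    rw [← hel]
    exact MorphismProperty.comp_mem @IsOpenImmersion el V.ι
      (@IsOpenImmersion.of_isIso _ _ el hiso) inferInstance
  have : Mono (F.map ((FEt.restrict f).map a)) := by
    have : Mono (F.map ((FEt.restrict f).map a) ≫ pullback.snd (𝟙 Y) f) := by
      have := hsnd
      have : Mono (pullback.snd U.hom f) := inferInstance
      exact heq ▸ this
    exact mono_of_mono _ (pullback.snd (𝟙 Y) f)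
  have : Mono ((FEt.restrict f).map a) := Functor.mono_of_mono_map F this
  have : Mono a := Functor.mono_of_mono_map (FEt.restrict f) this
  have := Summand.isOpenImmersion_left a
  have := Basic.isFinite_left a
  refine ⟨Set.range a.left.base,
    ⟨a.left.isClosedMap.isClosed_range, a.left.isOpenEmbedding.isOpen_range⟩, ?_⟩
  change f.base ⁻¹' Set.range U.hom.base = C
  rw [← Scheme.Pullback.range_snd, ← hel]
  ext x
  constructor
  · rintro ⟨t, rfl⟩
    exact SetLike.coe_mem (el.base t : V)
  · intro hx
    refine ⟨e.inv.left.base ⟨x, hx⟩, ?_⟩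
    have h1 : e.inv.left ≫ el ≫ V.ι = V.ι :=
      (Category.assoc _ _ _).symm.trans ((congrArg (· ≫ V.ι)
        (congrArg (fun m => m.left) e.inv_hom_id)).trans (Category.id_comp _))
    exact congrArg (fun m : (V : Scheme.{u}) ⟶ X => m.base ⟨x, hx⟩) h1

theorem isHomeomorph [CompactSpace X] [QuasiSeparatedSpace X] [CompactSpace Y]
    [QuasiSeparatedSpace Y] : IsHomeomorph f.continuous.connectedComponentsMap :=
  QuasiComp.isHomeomorph_connectedComponentsMap f.continuous
    (fun _ hD hne => preimage_nonempty f hD hne) (fun _ hC => exists_clopen f hC)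

end Groth.Agent.Lib.FEt.EquivClopen
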