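import Mathlib.CategoryTheory.Limits.Types.Coproducts
import Mathlib.CategoryTheory.Limits.FintypeCat
import Mathlib.CategoryTheory.FintypeCat
import Groth.Agent.Lib.FEt.Fiber

/-!
# Exactness of the fibre functor
-/

set_option linter.unusedVariables false

universe u

open CategoryTheory CategoryTheory.Limits AlgebraicGeometry

namespace Groth.Agent.Lib.FEt.FiberFunctor

variable {X : Scheme.{u}} {Ω : Type u} [Field Ω] (ξ : Spec (CommRingCat.of Ω) ⟶ X)

/-- The fibre functor is corepresented in `Over X` by the geometric point. -/
noncomputable def fiberIso :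
    MorphismProperty.Over.forget FEt.prop.{u} ⊤ X ⋙ coyoneda.obj (Opposite.op (Over.mk ξ)) ≅
      FEt.fiber ξ :=
  NatIso.ofComponents
    (fun Y =>
      { hom := TypeCat.ofHom fun t => ⟨t.left, Over.w t⟩
        inv := TypeCat.ofHom fun s => Over.homMk s.1 s.2
        hom_inv_id := ConcreteCategory.hom_ext _ _ fun t => Over.OverMorphism.ext rfl
        inv_hom_id := ConcreteCategory.hom_ext _ _ fun s => rfl })
    fun φ => ConcreteCategory.hom_ext _ _ fun t => Subtype.ext rfl

instance preservesFiniteLimits : PreservesFiniteLimits (FEt.fiber ξ) := by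
  have : PreservesFiniteLimits (coyoneda.obj (Opposite.op (Over.mk ξ))) :=
    ⟨fun J _ _ => inferInstance⟩
  have : PreservesFiniteLimits (MorphismProperty.Over.forget FEt.prop.{u} ⊤ X) := inferInstance
  have := comp_preservesFiniteLimits (MorphismProperty.Over.forget FEt.prop.{u} ⊤ X)
    (coyoneda.obj (Opposite.op (Over.mk ξ)))
  exact preservesFiniteLimits_of_natIso (fiberIso ξ)

instance preservesInitial : PreservesColimit (Functor.empty.{0} (FEt.Cat X)) (FEt.fiber ξ) := by
  refine preservesColimit_of_preserves_colimit_cocone Coproduct.isInitialEmpty ?_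
  exact (isColimitMapCoconeEmptyCoconeEquiv _ _).symm
    ((Types.initial_iff_empty _).mpr (Fiber.isEmpty_empty ξ)).some

instance preservesBinaryCoproducts :
    PreservesColimitsOfShape (Discrete WalkingPair) (FEt.fiber ξ) := by
  have : ∀ Y Z : FEt.Cat X, PreservesColimit (pair Y Z) (FEt.fiber ξ) := fun Y Z =>
    preservesColimit_of_preserves_colimit_cocone (Coproduct.isColimitSumCofan Y Z) <|
      (isColimitMapCoconeBinaryCofanEquiv _ _ _).symm <|
        BinaryCofan.isColimitMk
          (fun s => TypeCat.ofHom fun x =>
            Sum.elim s.inl s.inr ((Equiv.ofBijective _ (Fiber.sumMap_bijective ξ Y Z)).symm x))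
          (fun s => ConcreteCategory.hom_ext _ _ fun a => congrArg (Sum.elim s.inl s.inr)
            ((Equiv.ofBijective _ (Fiber.sumMap_bijective ξ Y Z)).symm_apply_apply (.inl a)))
          (fun s => ConcreteCategory.hom_ext _ _ fun a => congrArg (Sum.elim s.inl s.inr)
            ((Equiv.ofBijective _ (Fiber.sumMap_bijective ξ Y Z)).symm_apply_apply (.inr a)))
          (fun s m h₁ h₂ => ConcreteCategory.hom_ext _ _ fun x => by
            obtain ⟨a | a, rfl⟩ := (Fiber.sumMap_bijective ξ Y Z).2 x
            · exact (ConcreteCategory.congr_hom h₁ a).trans (congrArg (Sum.elim s.inl s.inr)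
                ((Equiv.ofBijective _ (Fiber.sumMap_bijective ξ Y Z)).symm_apply_apply (.inl a)).symm)
            · exact (ConcreteCategory.congr_hom h₂ a).trans (congrArg (Sum.elim s.inl s.inr)
                ((Equiv.ofBijective _ (Fiber.sumMap_bijective ξ Y Z)).symm_apply_apply (.inr a)).symm))
  exact ⟨fun {K} => preservesColimit_of_iso_diagram _ (diagramIsoPair K).symm⟩

instance preservesFiniteCoproducts : PreservesFiniteCoproducts (FEt.fiber ξ) :=
  have := preservesColimitsOfShape_pempty_of_preservesInitial (FEt.fiber ξ)
  ⟨fun n => PreservesFiniteCoproducts.of_preserves_binary_and_initial _ (Fin n)⟩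

section

variable [IsAlgClosed Ω]

instance preservesCoequalizers :
    PreservesColimitsOfShape WalkingParallelPair (FEt.fiber ξ) := by
  have : ∀ (Y Y' : FEt.Cat X) (a b : Y ⟶ Y'), PreservesColimit (parallelPair a b) (FEt.fiber ξ) :=
    fun Y Y' a b =>
    preservesColimit_of_preserves_colimit_cocone (Colimits.isColimitCofork a b) <|
      (isColimitMapCoconeCoforkEquiv _ _).symm <|
        Cofork.IsColimit.mk _
          (fun s => TypeCat.ofHom fun x =>
            s.π (Function.surjInv (Fiber.π_surjective ξ a b) x))
          (fun s => ConcreteCategory.hom_ext _ _ fun y => by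
            have h := Fiber.eqvGen_of_π_eq ξ a b
              (Function.surjInv_eq (Fiber.π_surjective ξ a b) ((FEt.fiber ξ).map (Colimits.π a b) y))
            have key : ∀ p q, Relation.EqvGen (fun x y => ∃ r, x = (FEt.fiber ξ).map a r ∧
                y = (FEt.fiber ξ).map b r) p q → s.π p = s.π q := by
              intro p q hpq
              induction hpq with
              | rel p q hpq =>
                obtain ⟨r, rfl, rfl⟩ := hpq
                exact ConcreteCategory.congr_hom s.condition r
              | refl p => rfl
              | symm p q _ ih => exact ih.symm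
              | trans p q r _ _ ih ih' => exact ih.trans ih'
            exact key _ _ h)
          (fun s m hm => ConcreteCategory.hom_ext _ _ fun x => by
            conv_lhs => rw [← Function.surjInv_eq (Fiber.π_surjective ξ a b) x]
            exact ConcreteCategory.congr_hom hm _)
  exact ⟨fun {K} => preservesColimit_of_iso_diagram _ (diagramIsoParallelPair K).symm⟩

instance preservesFiniteColimits : PreservesFiniteColimits (FEt.fiber ξ) :=
  preservesFiniteColimits_of_preservesCoequalizers_and_finiteCoproducts _

end

/-- The fibre functor with values in finite sets. -/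
noncomputable def fintypeFiber : FEt.Cat X ⥤ FintypeCat.{u} where
  obj Y := haveI := Fiber.finite_fiberObj ξ Y; FintypeCat.of (FEt.fiberObj ξ Y)
  map φ := FintypeCat.homMk ((FEt.fiber ξ).map φ)
  map_id Y := by ext x; exact ConcreteCategory.congr_hom ((FEt.fiber ξ).map_id Y) x
  map_comp φ ψ := by ext x; exact ConcreteCategory.congr_hom ((FEt.fiber ξ).map_comp φ ψ) x

/-- Forgetting finiteness recovers the fibre functor. -/
noncomputable def fintypeFiberIso : fintypeFiber ξ ⋙ FintypeCat.incl ≅ FEt.fiber ξ :=
  NatIso.ofComponents fun _ => Iso.refl _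

instance preservesFiniteLimits_fintype : PreservesFiniteLimits (fintypeFiber ξ) where
  preservesFiniteLimits J _ _ := by
    have : PreservesFiniteLimits (fintypeFiber ξ ⋙ FintypeCat.incl) :=
      preservesFiniteLimits_of_natIso (fintypeFiberIso ξ).symm
    exact preservesLimitsOfShape_of_reflects_of_preserves (fintypeFiber ξ) FintypeCat.incl

instance preservesFiniteCoproducts_fintype : PreservesFiniteCoproducts (fintypeFiber ξ) where
  preserves n := by
    have : PreservesColimitsOfShape (Discrete (Fin n)) (fintypeFiber ξ ⋙ FintypeCat.incl) :=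
      preservesColimitsOfShape_of_natIso (fintypeFiberIso ξ).symm
    exact preservesColimitsOfShape_of_reflects_of_preserves (fintypeFiber ξ) FintypeCat.incl

variable [IsAlgClosed Ω]

instance preservesFiniteColimits_fintype : PreservesFiniteColimits (fintypeFiber ξ) where
  preservesFiniteColimits J _ _ := by
    have : PreservesFiniteColimits (fintypeFiber ξ ⋙ FintypeCat.incl) :=
      preservesFiniteColimits_of_natIso (fintypeFiberIso ξ).symm
    exact preservesColimitsOfShape_of_reflects_of_preserves (fintypeFiber ξ) FintypeCat.incl

end Groth.Agent.Lib.FEt.FiberFunctor
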