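import Groth.Agent.S0289
import Groth.Agent.S12073
import Groth.Agent.Lib.AlgSpLimit.FieldLim
import Groth.Agent.Lib.Lim.Basic
import Groth.Agent.Lib.FEt.Basic
import Mathlib.FieldTheory.PurelyInseparable.Basic
import Mathlib.FieldTheory.SeparableClosure

/-!
# Descending finite etale covers and sections from an algebraic closure

Finite etale covers of `X ×_k k̄`, and finite families of sections over `k̄` of a finite etale
cover of `X`, are defined over `X ×_k L` for a finite separable extension `L/k`.
-/

set_option autoImplicit false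
set_option backward.isDefEq.respectTransparency false

universe u

open CategoryTheory CategoryTheory.Limits AlgebraicGeometry Opposite

namespace Groth.Agent.Lib.FEt.FieldDescent

open Groth.Agent.Lib.AlgSpLimit Groth.Agent.Lib.Lim.Basic

variable (k : Type u) [Field k] {X : Scheme.{u}} (f : X ⟶ Spec (CommRingCat.of k))

/-- The separable closure inside the algebraic closure. -/
noncomputable abbrev Ks : Type u := ↥(separableClosure k (AlgebraicClosure k))

/-- The finite separable subextensions. -/
noncomputable abbrev Idx : Type u := (FinSub k (Ks k))ᵒᵖ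

/-- Their spectra. -/
noncomputable abbrev diag : Idx k ⥤ Scheme.{u} := (subFunctor k (Ks k)).op ⋙ Scheme.Spec

noncomputable abbrev bcone : Cone (diag k) := Scheme.Spec.mapCone (subCocone k (Ks k)).op

instance isFiltered_finSub : IsFiltered (FinSub k (Ks k)) :=
  isFiltered_of_directed_le_nonempty _

noncomputable def isLimitBcone : IsLimit (bcone k) :=
  isLimitOfPreserves Scheme.Spec (nonempty_isColimit_subCocone k (Ks k)).some.op

noncomputable abbrev i₀ : Idx k := op ⟨⊥, inferInstance⟩

instance isAffineHom_diag {i j : Idx k} (φ : i ⟶ j) : IsAffineHom ((diag k).map φ) :=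
  inferInstanceAs (IsAffineHom (Spec.map _))

/-- The identification `Spec k ≅ Spec ⊥`. -/
noncomputable def eBot : Spec (CommRingCat.of k) ⟶ (diag k).obj (i₀ k) :=
  Spec.map (CommRingCat.ofHom (IntermediateField.botEquiv k (Ks k)).toRingHom)

instance isIso_eBot : IsIso (eBot k) := by
  have : IsIso (CommRingCat.ofHom (IntermediateField.botEquiv k (Ks k)).toRingHom :
      CommRingCat.of _ ⟶ CommRingCat.of k) :=
    (IntermediateField.botEquiv k (Ks k)).toRingEquiv.toCommRingCatIso.isIso_hom
  exact inferInstanceAs (IsIso (Spec.map _))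

theorem diag_map_eq {j : Idx k} (φ : j ⟶ i₀ k) :
    (diag k).map φ = Spec.map (CommRingCat.ofHom (algebraMap k j.unop.1)) ≫ eBot k := by
  refine Eq.trans ?_ (Spec.map_comp _ _)
  apply congrArg Spec.map
  ext x
  obtain ⟨y, hy⟩ : ∃ y : k, algebraMap k (⊥ : IntermediateField k (Ks k)) y = x :=
    ⟨IntermediateField.botEquiv k (Ks k) x, by
      rw [← IntermediateField.botEquiv_symm, AlgEquiv.symm_apply_apply]⟩
  subst hy
  refine Subtype.ext ?_
  show algebraMap k (Ks k) y = (algebraMap k j.unop.1 (IntermediateField.botEquiv k (Ks k) _) : Ks k)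
  rw [IntermediateField.botEquiv_def]
  rfl

/-- The finite separable subextension as a finite etale cover of `Spec k`. -/
noncomputable def subCover (L : FinSub k (Ks k)) : FEt.Cat (Spec (CommRingCat.of k)) :=
  MorphismProperty.Over.mk ⊤ (Spec.map (CommRingCat.ofHom (algebraMap k L.1))) <| by
    have := L.2
    have : Algebra.IsSeparable k L.1 := Algebra.isSeparable_tower_bot_of_isSeparable k L.1 (Ks k)
    refine ⟨(IsFinite.SpecMap_iff _).mpr (RingHom.finite_algebraMap.mpr inferInstance), ?_⟩
    refine (HasRingHomProperty.Spec_iff (P := @Etale)).mpr ?_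
    have : Algebra.Etale k L.1 := ⟨Algebra.FormallyEtale.of_isSeparable k L.1,
      Algebra.FinitePresentation.of_finiteType.mp inferInstance⟩
    exact RingHom.etale_algebraMap.mpr this

/-- The map `Spec k̄ → Spec L`. -/
noncomputable def barToSub (L : FinSub k (Ks k)) :
    Spec (CommRingCat.of (AlgebraicClosure k)) ⟶ Spec (CommRingCat.of L.1) :=
  Spec.map (CommRingCat.ofHom (algebraMap (Ks k) (AlgebraicClosure k))) ≫
    (bcone k).π.app (op L)

theorem barToSub_comp (L : FinSub k (Ks k)) :
    barToSub k L ≫ (subCover k L).hom =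
      Spec.map (CommRingCat.ofHom (algebraMap k (AlgebraicClosure k))) := by
  show (Spec.map _ ≫ Spec.map _) ≫ Spec.map _ = _
  rw [← Spec.map_comp, ← Spec.map_comp]
  rfl

local notation "gbar" => Spec.map (CommRingCat.ofHom (algebraMap k (AlgebraicClosure k)))

/-- The map from the geometric fibre to a stage. -/
noncomputable def toStage (L : FinSub k (Ks k)) :
    pullback f gbar ⟶ pullback (subCover k L).hom f :=
  pullback.lift (pullback.snd f gbar ≫ barToSub k L) (pullback.fst f gbar)
    (by rw [Category.assoc, barToSub_comp]; exact pullback.condition.symm)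

theorem toStage_snd (L : FinSub k (Ks k)) :
    toStage k f L ≫ pullback.snd (subCover k L).hom f = pullback.fst f gbar :=
  pullback.lift_snd _ _ _

theorem surjective_toStage (L : FinSub k (Ks k)) : Surjective (toStage k f L) := by
  have sq : IsPullback (toStage k f L) (pullback.snd f gbar) (pullback.fst (subCover k L).hom f)
      (barToSub k L) := by
    refine IsPullback.of_right ?_ (pullback.lift_fst _ _ _)
      (IsPullback.of_hasPullback (subCover k L).hom f).flip
    rw [toStage_snd, barToSub_comp]
    exact IsPullback.of_hasPullback f gbar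
  refine MorphismProperty.of_isPullback sq.flip ?_
  have : Nonempty ↥(Spec (CommRingCat.of (AlgebraicClosure k))) :=
    inferInstanceAs (Nonempty (PrimeSpectrum (AlgebraicClosure k)))
  exact ⟨fun _ => ⟨Classical.arbitrary _,
    @Subsingleton.elim _ (inferInstanceAs (Subsingleton (PrimeSpectrum L.1))) _ _⟩⟩

theorem isPullback_comp_mono {P A B C D : Scheme.{u}} {fst : P ⟶ A} {snd : P ⟶ B} {a : A ⟶ C}
    {b : B ⟶ C} (e : C ⟶ D) [Mono e] (h : IsPullback fst snd a b) :
    IsPullback fst snd (a ≫ e) (b ≫ e) :=
  ⟨⟨by rw [← Category.assoc, h.w, Category.assoc]⟩, ⟨PullbackCone.IsLimit.mk _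
    (fun s => h.lift s.fst s.snd ((cancel_mono e).1 (by simpa using s.condition)))
    (fun s => h.lift_fst _ _ _) (fun s => h.lift_snd _ _ _)
    (fun s m h1 h2 => h.hom_ext (by simpa using h1) (by simpa using h2))⟩⟩

theorem isPullback_of_comp_mono {P A B C D : Scheme.{u}} {fst : P ⟶ A} {snd : P ⟶ B} {a : A ⟶ C}
    {b : B ⟶ C} (e : C ⟶ D) [Mono e] (h : IsPullback fst snd (a ≫ e) (b ≫ e)) :
    IsPullback fst snd a b :=
  ⟨⟨(cancel_mono e).1 (by simpa using h.w)⟩, ⟨PullbackCone.IsLimit.mk _
    (fun s => h.lift s.fst s.snd (by rw [← Category.assoc, s.condition, Category.assoc]))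
    (fun s => h.lift_fst _ _ _) (fun s => h.lift_snd _ _ _)
    (fun s m h1 h2 => h.hom_ext (by simpa using h1) (by simpa using h2))⟩⟩

/-- Along a morphism with full base change, morphisms to a finite etale cover descend. -/
theorem exists_factor {P Q : Scheme.{u}} (q : P ⟶ Q) [(FEt.restrict q).Full] (p : Q ⟶ X)
    (U : FEt.Cat X) (σ : P ⟶ U.left) (hσ : σ ≫ U.hom = q ≫ p) :
    ∃ τ : Q ⟶ U.left, τ ≫ U.hom = p ∧ q ≫ τ = σ := by
  let E : FEt.Cat Q := MorphismProperty.Over.mk ⊤ (𝟙 Q) ⟨inferInstance, inferInstance⟩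
  let Us := (FEt.restrict p).obj U
  have w : (pullback.snd (𝟙 Q) q ≫ σ) ≫ U.hom = (pullback.snd (𝟙 Q) q ≫ q) ≫ p := by
    simp only [Category.assoc, hσ]
  let s : (FEt.restrict q).obj E ⟶ (FEt.restrict q).obj Us :=
    MorphismProperty.Over.homMk
      (pullback.lift (pullback.lift (pullback.snd (𝟙 Q) q ≫ σ) (pullback.snd (𝟙 Q) q ≫ q) w)
        (pullback.snd (𝟙 Q) q) (pullback.lift_snd _ _ _))
      (pullback.lift_snd _ _ _) trivial
  obtain ⟨φ, hφ⟩ := (FEt.restrict q).map_surjective s
  have h := Basic.restrict_map_fst q φ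
  rw [hφ] at h
  let φl : Q ⟶ pullback U.hom p := φ.left
  have hsnd : φl ≫ pullback.snd U.hom p = 𝟙 Q := Over.w φ.hom
  have h' : pullback.lift (pullback.snd (𝟙 Q) q ≫ σ) (pullback.snd (𝟙 Q) q ≫ q) w =
      pullback.fst (𝟙 Q) q ≫ φl := (pullback.lift_fst _ _ _).symm.trans h
  let z : P ⟶ pullback (𝟙 Q) q := pullback.lift q (𝟙 P) (by simp)
  refine ⟨φl ≫ pullback.fst U.hom p, ?_, ?_⟩
  · rw [Category.assoc, pullback.condition, ← Category.assoc, hsnd, Category.id_comp]
  · have := congrArg (fun x => z ≫ x ≫ pullback.fst U.hom p) h'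
    simp only [z, pullback.lift_fst, pullback.lift_fst_assoc, pullback.lift_snd_assoc,
      Category.assoc, Category.id_comp] at this
    exact this.symm

section Stages

/-- The base change of `X` to the separable closure. -/
noncomputable abbrev Xs : Scheme.{u} :=
  pullback f (Spec.map (CommRingCat.ofHom (algebraMap k (Ks k))))

/-- The comparison map to the base change to the separable closure. -/
noncomputable def toXs : pullback f gbar ⟶ Xs k f :=
  pullback.lift (pullback.fst f gbar)
    (pullback.snd f gbar ≫ Spec.map (CommRingCat.ofHom (algebraMap (Ks k) (AlgebraicClosure k))))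
    (by rw [Category.assoc, ← Spec.map_comp]; exact pullback.condition)

theorem isEquivalence_restrict_toXs : (FEt.restrict (toXs k f)).IsEquivalence := by
  have sq : IsPullback (toXs k f) (pullback.snd f gbar)
      (pullback.snd f (Spec.map (CommRingCat.ofHom (algebraMap k (Ks k)))))
      (Spec.map (CommRingCat.ofHom (algebraMap (Ks k) (AlgebraicClosure k)))) := by
    refine IsPullback.of_right ?_ (pullback.lift_snd _ _ _)
      (IsPullback.of_hasPullback f (Spec.map (CommRingCat.ofHom (algebraMap k (Ks k)))))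
    rw [show toXs k f ≫ pullback.fst f _ = pullback.fst f gbar from pullback.lift_fst _ _ _,
      ← Spec.map_comp]
    exact IsPullback.of_hasPullback f gbar
  let φ := algebraMap (Ks k) (AlgebraicClosure k)
  have := separableClosure.isPurelyInseparable k (AlgebraicClosure k)
  have h1 : φ.IsIntegral := fun z => (Algebra.IsAlgebraic.isAlgebraic (R := Ks k) z).isIntegral
  have h2 : Groth.Agent.H75.UH.Radicial φ := fun P hP z => by
    obtain ⟨p, hexp⟩ := ExpChar.exists (Ks k)
    obtain ⟨n, x, hx⟩ := IsPurelyInseparable.pow_mem (Ks k) p z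
    rcases hexp with _ | hp
    · refine Or.inl ?_
      simp only [one_pow, pow_one] at hx
      rw [← hx]
      exact Groth.Agent.H75.UH.ures_of_range (hp := hP) x
    · refine Or.inr ⟨p, hp, by rw [CharP.cast_eq_zero]; exact zero_mem _, n, ?_⟩
      rw [← hx]
      exact Groth.Agent.H75.UH.ures_of_range (hp := hP) x
  have h3 : RingHom.ker φ ≤ nilradical (Ks k) := by
    rw [(RingHom.injective_iff_ker_eq_bot _).mp φ.injective]
    exact bot_le
  obtain ⟨i1, i2, i3⟩ := Groth.Agent.H80.UnivHomeo.univHomeo_specMap φ h1 h2 h3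
  have : IsIntegralHom (toXs k f) := MorphismProperty.of_isPullback sq.flip i1
  have : UniversallyInjective (toXs k f) := MorphismProperty.of_isPullback sq.flip i2
  have : Surjective (toXs k f) := MorphismProperty.of_isPullback sq.flip i3
  exact Groth.Agent.S0289.result _

theorem isPullback_Xs :
    IsPullback (pullback.fst f (Spec.map (CommRingCat.ofHom (algebraMap k (Ks k)))))
      (pullback.snd f (Spec.map (CommRingCat.ofHom (algebraMap k (Ks k)))))
      (f ≫ eBot k) ((bcone k).π.app (i₀ k)) := by
  have h : (bcone k).π.app (i₀ k) =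
      Spec.map (CommRingCat.ofHom (algebraMap k (Ks k))) ≫ eBot k := by
    refine Eq.trans ?_ (Spec.map_comp _ _)
    apply congrArg Spec.map
    ext x
    obtain ⟨y, hy⟩ : ∃ y : k, algebraMap k (⊥ : IntermediateField k (Ks k)) y = x :=
      ⟨IntermediateField.botEquiv k (Ks k) x, by
        rw [← IntermediateField.botEquiv_symm, AlgEquiv.symm_apply_apply]⟩
    subst hy
    show algebraMap k (Ks k) y = algebraMap k (Ks k) (IntermediateField.botEquiv k (Ks k) _)
    rw [IntermediateField.botEquiv_def]
  rw [h]
  exact isPullback_comp_mono (eBot k) (IsPullback.of_hasPullback f _)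

/-- The identification of the stages with base changes along `Spec L → Spec k`. -/
theorem exists_stageIso (J : Over (i₀ k)) :
    ∃ e : (bcDiagram (diag k) (f ≫ eBot k)).obj J ≅ pullback (subCover k J.left.unop).hom f,
      e.hom ≫ pullback.snd (subCover k J.left.unop).hom f = pullback.fst _ _ ∧
      e.hom ≫ pullback.fst (subCover k J.left.unop).hom f = pullback.snd _ _ := by
  have sq : IsPullback (pullback.snd (f ≫ eBot k) ((diag k).map J.hom))
      (pullback.fst (f ≫ eBot k) ((diag k).map J.hom)) (subCover k J.left.unop).hom f := by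
    refine isPullback_of_comp_mono (eBot k) ?_
    rw [show (subCover k J.left.unop).hom ≫ eBot k = (diag k).map J.hom from
      (diag_map_eq k J.hom).symm]
    exact (IsPullback.of_hasPullback _ _).flip
  exact ⟨sq.isoPullback, sq.isoPullback_hom_snd, sq.isoPullback_hom_fst⟩

theorem toXs_stage (J : Over (i₀ k))
    (e : (bcDiagram (diag k) (f ≫ eBot k)).obj J ≅ pullback (subCover k J.left.unop).hom f)
    (h1 : e.hom ≫ pullback.snd (subCover k J.left.unop).hom f = pullback.fst _ _)
    (h2 : e.hom ≫ pullback.fst (subCover k J.left.unop).hom f = pullback.snd _ _) :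
    toXs k f ≫ (bcCone (c := bcone k) (isPullback_Xs k f).w).π.app J =
      toStage k f J.left.unop ≫ e.inv := by
  rw [Iso.eq_comp_inv]
  apply pullback.hom_ext
  · simp only [Category.assoc, h2]
    rw [bcCone_π_snd, ← Category.assoc]
    refine (congrArg (· ≫ _) (pullback.lift_snd _ _ _)).trans ?_
    rw [Category.assoc]
    exact (pullback.lift_fst _ _ _).symm
  · simp only [Category.assoc, h1]
    rw [bcCone_π_fst]
    exact (pullback.lift_fst _ _ _).trans (toStage_snd k f _).symm

end Stages

variable [CompactSpace X] [QuasiSeparatedSpace X]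

/-- Every finite etale cover of `X ×_k k̄` comes from a finite separable extension of `k`. -/
theorem exists_cover (V : FEt.Cat (pullback f gbar)) :
    ∃ (L : FinSub k (Ks k)) (W : FEt.Cat (pullback (subCover k L).hom f)),
      Nonempty ((FEt.restrict (toStage k f L)).obj W ≅ V) := by
  have := isEquivalence_restrict_toXs k f
  let V' := (FEt.restrict (toXs k f)).objPreimage V
  have eV : (FEt.restrict (toXs k f)).obj V' ≅ V := (FEt.restrict (toXs k f)).objObjPreimageIso V
  have := fun j => compactSpace_bcDiagram (diag k) (f ≫ eBot k) j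
  have := fun j => quasiSeparatedSpace_bcDiagram (diag k) (f ≫ eBot k) j
  obtain ⟨J, Vj, ⟨e'⟩⟩ := (Groth.Agent.S12073.result (bcDiagram (diag k) (f ≫ eBot k))
    (bcCone (isPullback_Xs k f).w) (isLimitBcCone (isLimitBcone k) (isPullback_Xs k f))).1 V'
  obtain ⟨e, h1, h2⟩ := exists_stageIso k f J
  refine ⟨J.left.unop, (FEt.restrict e.inv).obj Vj, ⟨?_ ≪≫ eV⟩⟩
  refine ((MorphismProperty.Over.pullbackComp (P := FEt.prop) (Q := ⊤) _ _).app Vj).symm ≪≫ ?_ ≪≫
    (FEt.restrict (toXs k f)).mapIso e'
  refine ?_ ≪≫ (MorphismProperty.Over.pullbackComp (P := FEt.prop) (Q := ⊤) _ _).app Vj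
  exact (MorphismProperty.Over.pullbackCongr (P := FEt.prop) (Q := ⊤)
    (toXs_stage k f J e h1 h2).symm).app Vj

/-- A finite family of morphisms over `X` from `X ×_k k̄` to a finite etale cover of `X` comes from
a finite separable extension of `k`. -/
theorem exists_sections (U : FEt.Cat X) {ι : Type u} [Finite ι]
    (σ : ι → (pullback f gbar ⟶ U.left)) (hσ : ∀ i, σ i ≫ U.hom = pullback.fst f gbar) :
    ∃ (L : FinSub k (Ks k)) (g : ι → ((FEt.restrict f).obj (subCover k L) ⟶ U)),
      ∀ i, toStage k f L ≫ (g i).left = σ i := by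
  classical
  have := isEquivalence_restrict_toXs k f
  have hq : toXs k f ≫ pullback.fst f (Spec.map (CommRingCat.ofHom (algebraMap k (Ks k)))) =
      pullback.fst f gbar := pullback.lift_fst _ _ _
  have hτ := fun i => exists_factor (toXs k f)
    (pullback.fst f (Spec.map (CommRingCat.ofHom (algebraMap k (Ks k))))) U (σ i)
    ((hσ i).trans hq.symm)
  choose τ hτ1 hτ2 using hτ
  have : LocallyOfFinitePresentation U.hom :=
    haveI : Etale U.hom := U.prop.2
    inferInstance
  choose j φ g' hg1 hg2 using fun i => exists_bc_hom (isLimitBcone k) (isPullback_Xs k f) U.hom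
    (𝟙 X) (τ i) ((hτ1 i).trans (Category.comp_id _).symm)
  obtain ⟨m, ψ, a, ha⟩ := IsCofiltered.wideCospan φ
  obtain ⟨e, h1, h2⟩ := exists_stageIso k f (Over.mk ψ)
  let t : ∀ i, Over.mk ψ ⟶ Over.mk (φ i) := fun i => Over.homMk (a i) (ha i)
  let g : ∀ i, pullback (subCover k m.unop).hom f ⟶ U.left := fun i =>
    e.inv ≫ (bcDiagram (diag k) (f ≫ eBot k)).map (t i) ≫ g' i
  have hg : ∀ i, g i ≫ U.hom = pullback.snd (subCover k m.unop).hom f := fun i => by
    have h3 := bcDiagram_map_fst (diag k) (f ≫ eBot k) (t i)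
    refine (Category.assoc _ _ _).trans ((congrArg (e.inv ≫ ·)
      ((Category.assoc _ _ _).trans (congrArg (_ ≫ ·) ((hg1 i).trans (Category.comp_id _))))).trans ?_)
    exact (congrArg (e.inv ≫ ·) h3).trans (e.inv_comp_eq.mpr h1.symm)
  refine ⟨m.unop, fun i => MorphismProperty.Over.homMk (g i) (hg i) trivial, fun i => ?_⟩
  show toStage k f m.unop ≫ g i = σ i
  have h4 := toXs_stage k f (Over.mk ψ) e h1 h2
  have h5 : (bcCone (c := bcone k) (isPullback_Xs k f).w).π.app (Over.mk (φ i)) ≫ g' i = τ i := hg2 i
  refine (Category.assoc _ _ _).symm.trans ((congrArg (· ≫ _) h4.symm).trans ?_)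
  refine (Category.assoc _ _ _).trans ((congrArg (toXs k f ≫ ·) ?_).trans (hτ2 i))
  refine Eq.trans ?_ h5
  exact (Category.assoc _ _ _).symm.trans
    (congrArg (· ≫ g' i) ((bcCone (c := bcone k) (isPullback_Xs k f).w).w (t i)))

end Groth.Agent.Lib.FEt.FieldDescent
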