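import Groth.Agent.Lib.FEt.FiberUnique
import Mathlib.CategoryTheory.Galois.IsFundamentalgroup
import Mathlib.CategoryTheory.Galois.Equivalence
import Mathlib.FieldTheory.AbsoluteGaloisGroup
import Mathlib.FieldTheory.Galois.Profinite
import Mathlib.FieldTheory.PurelyInseparable.Basic

/-!
# Finite etale covers of a field and the absolute Galois group
-/

universe u

open CategoryTheory CategoryTheory.Limits AlgebraicGeometry CategoryTheory.PreGaloisCategory

namespace Groth.Agent.Lib.FEt.FieldGalois

variable (K : Type u) [Field K]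

local notation "Kb" => AlgebraicClosure K
local notation "GK" => AlgebraicClosure K ≃ₐ[K] AlgebraicClosure K

/-- An automorphism is determined by, and continuous in, its restriction to the separable closure. -/
theorem apply_eq_of_pow_mem {g : GK} {x : Kb} {p n : ℕ} [ExpChar Kb p]
    (h : g (x ^ p ^ n) = x ^ p ^ n) : g x = x :=
  iterateFrobenius_inj Kb p n (by simpa [iterateFrobenius_def] using h)

theorem exists_pow_mem (x : Kb) :
    ∃ n : ℕ, x ^ ringExpChar K ^ n ∈ separableClosure K Kb := by
  have : ExpChar (separableClosure K Kb) (ringExpChar K) :=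
    expChar_of_injective_ringHom (algebraMap K (separableClosure K Kb)).injective _
  obtain ⟨n, y, hy⟩ := IsPurelyInseparable.pow_mem (separableClosure K Kb) (ringExpChar K) x
  exact ⟨n, hy ▸ y.2⟩

/-- Restriction to the separable closure. -/
noncomputable def res : GK →* Gal((separableClosure K Kb)/K) :=
  AlgEquiv.restrictNormalHom (separableClosure K Kb)

theorem res_apply (g : GK) (y : separableClosure K Kb) :
    ((res K g y : separableClosure K Kb) : Kb) = g y :=
  AlgEquiv.restrictNormal_commutes g (separableClosure K Kb) y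

theorem eq_of_fix {g : GK} (h : ∀ y ∈ separableClosure K Kb, g y = y) : g = 1 := by
  have : ExpChar Kb (ringExpChar K) :=
    expChar_of_injective_ringHom (algebraMap K Kb).injective _
  refine AlgEquiv.ext fun x => ?_
  obtain ⟨n, hn⟩ := exists_pow_mem K x
  exact apply_eq_of_pow_mem K (h _ hn)

theorem res_injective : Function.Injective (res K) :=
  (injective_iff_map_eq_one _).mpr fun g hg => eq_of_fix K fun y hy => by
    have := res_apply K g ⟨y, hy⟩
    rw [hg] at this
    exact this.symm

theorem res_surjective : Function.Surjective (res K) :=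
  AlgEquiv.restrictNormalHom_surjective (F := K) (K₁ := separableClosure K Kb) Kb

/-- Restriction as a group isomorphism. -/
noncomputable def resEquiv : GK ≃* Gal((separableClosure K Kb)/K) :=
  MulEquiv.ofBijective (res K) ⟨res_injective K, res_surjective K⟩

theorem continuous_resEquiv_symm : Continuous (resEquiv K).symm := by
  have : ExpChar Kb (ringExpChar K) :=
    expChar_of_injective_ringHom (algebraMap K Kb).injective _
  refine continuous_of_continuousAt_one (resEquiv K).symm.toMonoidHom ?_
  rw [continuousAt_def, map_one]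
  intro A hA
  obtain ⟨L, hL, hLA⟩ := (krullTopology_mem_nhds_one_iff K Kb A).mp hA
  let b := Module.finBasis K L
  choose n hn using fun i => exists_pow_mem K (b i : Kb)
  let T : Set (separableClosure K Kb) := Set.range fun i => ⟨(b i : Kb) ^ ringExpChar K ^ n i, hn i⟩
  have : FiniteDimensional K (IntermediateField.adjoin K T) :=
    IntermediateField.finiteDimensional_adjoin fun y _ => Algebra.IsIntegral.isIntegral y
  rw [krullTopology_mem_nhds_one_iff]
  refine ⟨IntermediateField.adjoin K T, inferInstance, fun h hh => hLA ?_⟩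
  rw [SetLike.mem_coe, IntermediateField.mem_fixingSubgroup_iff] at hh ⊢
  obtain ⟨g, rfl⟩ := (resEquiv K).surjective h
  rw [MulEquiv.coe_toMonoidHom, MulEquiv.symm_apply_apply]
  have hb : ∀ i, g (b i : Kb) = (b i : Kb) := fun i => by
    refine apply_eq_of_pow_mem K (p := ringExpChar K) (n := n i) ?_
    have h1 := congrArg Subtype.val
      (hh ⟨_, hn i⟩ (IntermediateField.subset_adjoin K T ⟨i, rfl⟩))
    rwa [show resEquiv K g = res K g from rfl, res_apply] at h1
  intro x hx
  have heq : g.toLinearMap.comp L.val.toLinearMap = L.val.toLinearMap :=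
    b.ext fun i => hb i
  exact LinearMap.congr_fun heq ⟨x, hx⟩

theorem compactSpace : CompactSpace GK :=
  (resEquiv K).symm.surjective.compactSpace (continuous_resEquiv_symm K)

/-- The geometric point given by an algebraic closure. -/
noncomputable abbrev ξ : Spec (CommRingCat.of Kb) ⟶ Spec (CommRingCat.of K) :=
  Spec.map (CommRingCat.ofHom (algebraMap K Kb))

variable {K}

/-- The automorphism of the geometric point given by a Galois element. -/
noncomputable def σ (g : GK) : Spec (CommRingCat.of Kb) ⟶ Spec (CommRingCat.of Kb) :=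
  Spec.map (CommRingCat.ofHom (g : Kb →+* Kb))

theorem σ_ξ (g : GK) : σ g ≫ ξ K = ξ K := by
  rw [σ, ξ, ← Spec.map_comp]
  congr 1
  exact CommRingCat.hom_ext (RingHom.ext fun x => AlgEquiv.commutes g x)

theorem σ_one : σ (1 : GK) = 𝟙 _ := by
  rw [σ, show CommRingCat.ofHom ((1 : GK) : Kb →+* Kb) = 𝟙 _ from rfl, Spec.map_id]

theorem σ_mul (g h : GK) : σ (g * h) = σ g ≫ σ h := by
  rw [σ, σ, σ, ← Spec.map_comp]
  rfl

noncomputable instance (Y : FEt.Cat (Spec (CommRingCat.of K))) :
    MulAction GK ((FiberFunctor.fintypeFiber (ξ K)).obj Y) where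
  smul g s := (⟨σ g ≫ s.1, by rw [Category.assoc, s.2, σ_ξ]⟩ : FEt.fiberObj (ξ K) Y)
  one_smul s := Subtype.ext (show σ 1 ≫ s.1 = s.1 by rw [σ_one, Category.id_comp])
  mul_smul g h s := Subtype.ext
    (show σ (g * h) ≫ s.1 = σ g ≫ σ h ≫ s.1 by rw [σ_mul, Category.assoc])

theorem smul_val {Y : FEt.Cat (Spec (CommRingCat.of K))} (g : GK)
    (s : FEt.fiberObj (ξ K) Y) :
    (g • (show ((FiberFunctor.fintypeFiber (ξ K)).obj Y).obj from s) : FEt.fiberObj (ξ K) Y).1 = σ g ≫ s.1 :=
  rfl

instance isNaturalSMul : IsNaturalSMul (FiberFunctor.fintypeFiber (ξ K)) GK where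
  naturality g {_ _} f _ := Subtype.ext (Category.assoc (σ g) _ f.left)

variable (Y : FEt.Cat (Spec (CommRingCat.of K)))

instance isAffine_left : IsAffine Y.left := by
  let f : Y.left ⟶ Spec (CommRingCat.of K) := Y.hom
  have : IsFinite f := Y.prop.1
  exact isAffine_of_isAffineHom f

/-- The structure map on global sections. -/
noncomputable def structMap : CommRingCat.of K ⟶ Γ(Y.left, ⊤) :=
  (Scheme.ΓSpecIso (CommRingCat.of K)).inv ≫ Y.hom.appTop

theorem finite_structMap : (structMap Y).hom.Finite := by
  have : IsFinite Y.hom := Y.prop.1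
  rw [structMap, CommRingCat.hom_comp]
  exact (IsFinite.finite_app Y.hom ⊤ (isAffineOpen_top (Spec (CommRingCat.of K)))).comp
    (RingHom.Finite.of_surjective _
      (ConcreteCategory.bijective_of_isIso (Scheme.ΓSpecIso (CommRingCat.of K)).inv).2)

variable {Y}

/-- The value of global functions at a geometric point. -/
noncomputable def ev (s : FEt.fiberObj (ξ K) Y) : Γ(Y.left, ⊤) →+* Kb :=
  ((s.1).appTop ≫ (Scheme.ΓSpecIso (CommRingCat.of Kb)).hom).hom

theorem specMap_ev (s : FEt.fiberObj (ξ K) Y) :
    Spec.map (CommRingCat.ofHom (ev s)) ≫ Y.left.isoSpec.inv = s.1 := by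
  rw [Iso.comp_inv_eq, ev, CommRingCat.ofHom_hom, Spec.map_comp,
    Scheme.isoSpec_hom, Scheme.toSpecΓ_naturality]
  rw [SpecMap_ΓSpecIso_hom]

theorem ev_injective : Function.Injective (ev : FEt.fiberObj (ξ K) Y → _) := fun s t h =>
  Subtype.ext ((specMap_ev s).symm.trans ((by rw [h]) : _ = _) |>.trans (specMap_ev t))

theorem ev_structMap (s : FEt.fiberObj (ξ K) Y) (x : K) :
    ev s ((structMap Y).hom x) = algebraMap K Kb x := by
  have h : structMap Y ≫ CommRingCat.ofHom (ev s) = CommRingCat.ofHom (algebraMap K Kb) := by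
    rw [structMap, ev, CommRingCat.ofHom_hom, Category.assoc, ← Scheme.Hom.comp_appTop_assoc, s.2,
      Scheme.ΓSpecIso_naturality, Iso.inv_hom_id_assoc]
  exact congr($(h).hom x)

theorem ev_smul (g : GK) (s : FEt.fiberObj (ξ K) Y) (x : Γ(Y.left, ⊤)) :
    ev (Y := Y) ⟨σ g ≫ s.1, by rw [Category.assoc, s.2, σ_ξ]⟩ x = g (ev s x) := by
  change ((σ g ≫ s.1).appTop ≫ (Scheme.ΓSpecIso (CommRingCat.of Kb)).hom).hom x = _
  rw [Scheme.Hom.comp_appTop, Category.assoc, σ, Scheme.ΓSpecIso_naturality]
  rfl

theorem continuousSMul : ContinuousSMul GK ((FiberFunctor.fintypeFiber (ξ K)).obj Y) := by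
  refine continuousSMul_iff_stabilizer_isOpen.mpr fun s => ?_
  let : Algebra K Γ(Y.left, ⊤) := (structMap Y).hom.toAlgebra
  have : Module.Finite K Γ(Y.left, ⊤) := finite_structMap Y
  let e : Γ(Y.left, ⊤) →ₐ[K] Kb := { ev s with commutes' := ev_structMap s }
  let b := Module.finBasis K Γ(Y.left, ⊤)
  let L : IntermediateField K Kb := IntermediateField.adjoin K (Set.range fun i => e (b i))
  have : FiniteDimensional K L :=
    IntermediateField.finiteDimensional_adjoin fun y _ => Algebra.IsIntegral.isIntegral y
  refine Subgroup.isOpen_mono (H₁ := L.fixingSubgroup) (fun g hg => ?_)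
    (IntermediateField.fixingSubgroup_isOpen L)
  have hge : g.toLinearMap.comp e.toLinearMap = e.toLinearMap :=
    b.ext fun i => (IntermediateField.mem_fixingSubgroup_iff _ _).mp hg _
      (IntermediateField.subset_adjoin K _ ⟨i, rfl⟩)
  exact ev_injective (RingHom.ext fun x => (ev_smul g s x).trans (LinearMap.congr_fun hge x))

theorem subsingleton_of_isConnected [PreGaloisCategory.IsConnected Y] (p q : Y.left) : p = q := by
  have : IsArtinianRing Γ(Y.left, ⊤) := by
    let : Algebra K Γ(Y.left, ⊤) := (structMap Y).hom.toAlgebra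
    have : Module.Finite K Γ(Y.left, ⊤) := finite_structMap Y
    exact IsArtinianRing.of_finite K _
  have : DiscreteTopology Y.left := Y.left.isoSpec.hom.homeomorph.isEmbedding.discreteTopology
  let V : Y.left.Opens := ⟨{p}, isOpen_discrete _⟩
  have hmono : Mono (Summand.clopenIncl Y V (isClosed_discrete _)) :=
    ((MorphismProperty.Over.forget FEt.prop.{u} ⊤ _) ⋙ Over.forget _).mono_of_mono_map
      (inferInstanceAs (Mono V.ι))
  have hne : IsInitial (Summand.clopenSub Y V (isClosed_discrete _)) → False := fun hi => by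
    let e := hi.to (Coproduct.empty _)
    exact IsEmpty.false (α := ((⊥_ Scheme.{u} : Scheme.{u}) : Type u)) (e.left.base ⟨p, rfl⟩)
  have := PreGaloisCategory.IsConnected.noTrivialComponent (X := Y) _
    (Summand.clopenIncl Y V (isClosed_discrete _)) hne
  have h2 : IsIso V.ι := inferInstanceAs (IsIso
    (((MorphismProperty.Over.forget FEt.prop.{u} ⊤ _) ⋙ Over.forget _).map
      (Summand.clopenIncl Y V (isClosed_discrete _))))
  obtain ⟨x, rfl⟩ := V.ι.surjective q
  exact x.2.symm

theorem isPretransitive [PreGaloisCategory.IsConnected Y] :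
    MulAction.IsPretransitive GK ((FiberFunctor.fintypeFiber (ξ K)).obj Y) := by
  refine ⟨fun s t => ?_⟩
  let : Algebra K Γ(Y.left, ⊤) := (structMap Y).hom.toAlgebra
  have : Module.Finite K Γ(Y.left, ⊤) := finite_structMap Y
  let e₁ : Γ(Y.left, ⊤) →ₐ[K] Kb := { ev s with commutes' := ev_structMap s }
  let e₂ : Γ(Y.left, ⊤) →ₐ[K] Kb := { ev t with commutes' := ev_structMap t }
  have hker : RingHom.ker e₁ = RingHom.ker e₂ := by
    have h : Spec.map (CommRingCat.ofHom (ev s)) (IsLocalRing.closedPoint Kb) =
        Spec.map (CommRingCat.ofHom (ev t)) (IsLocalRing.closedPoint Kb) := by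
      refine Y.left.isoSpec.inv.homeomorph.injective ?_
      exact subsingleton_of_isConnected (Y := Y) _ _
    have := congrArg PrimeSpectrum.asIdeal h
    simp only [IsLocalRing.closedPoint, IsLocalRing.maximalIdeal_eq_bot] at this
    exact this
  have : Module.Finite K e₁.range :=
    Module.Finite.of_surjective e₁.rangeRestrict.toLinearMap (AlgHom.rangeRestrict_surjective e₁)
  have hint : Algebra.IsIntegral K e₁.range := Algebra.IsIntegral.of_finite K _
  have hf : IsField e₁.range :=
    isField_of_isIntegral_of_isField' (R := K) (Field.toIsField K)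
  let φ₁ : (Γ(Y.left, ⊤) ⧸ RingHom.ker e₁) ≃ₐ[K] e₁.range :=
    Ideal.quotientKerEquivRange e₁
  let χ : e₁.range →ₐ[K] Kb :=
    (Ideal.Quotient.liftₐ (RingHom.ker e₁) e₂ fun x hx => by rwa [hker] at hx).comp φ₁.symm
  let : Field e₁.range := hf.toField
  let E := χ.liftNormal Kb
  refine ⟨AlgEquiv.ofBijective E (Algebra.IsAlgebraic.algHom_bijective E), ?_⟩
  refine ev_injective (RingHom.ext fun x => (ev_smul _ s x).trans ?_)
  have hE := χ.liftNormal_commutes Kb ⟨e₁ x, x, rfl⟩
  refine hE.trans ((Algebra.algebraMap_self_apply _).trans ?_)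
  have hq : φ₁.symm ⟨e₁ x, x, rfl⟩ = Ideal.Quotient.mk _ x :=
    φ₁.symm_apply_eq.mpr (Subtype.ext rfl)
  change χ _ = e₂ x
  simp only [χ, AlgHom.comp_apply, AlgEquiv.coe_toAlgHom, hq]
  rfl

theorem non_trivial (g : GK)
    (h : ∀ (Y : FEt.Cat (Spec (CommRingCat.of K))) (s : (FiberFunctor.fintypeFiber (ξ K)).obj Y),
      g • s = s) : g = 1 := by
  refine eq_of_fix K fun y hy => ?_
  let L : IntermediateField K Kb := IntermediateField.adjoin K {y}
  have : FiniteDimensional K L :=
    IntermediateField.adjoin.finiteDimensional (Algebra.IsIntegral.isIntegral y)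
  have : Algebra.IsSeparable K L :=
    (IntermediateField.isSeparable_adjoin_simple_iff_isSeparable K Kb).mpr
      (mem_separableClosure_iff.mp hy)
  have : Algebra.FormallyEtale K L := Algebra.FormallyEtale.of_isSeparable K L
  have : Algebra.Etale K L := { finitePresentation := Algebra.FinitePresentation.of_finiteType.mp inferInstance }
  let p : Spec (CommRingCat.of L) ⟶ Spec (CommRingCat.of K) :=
    Spec.map (CommRingCat.ofHom (algebraMap K L))
  have hp : FEt.prop.{u} p := ⟨(IsFinite.SpecMap_iff _).mpr
      (RingHom.finite_algebraMap.mpr inferInstance),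
    (HasRingHomProperty.Spec_iff (P := @Etale)).mpr (RingHom.etale_algebraMap.mpr inferInstance)⟩
  let Y : FEt.Cat (Spec (CommRingCat.of K)) := MorphismProperty.Over.mk ⊤ p hp
  let s : FEt.fiberObj (ξ K) Y := ⟨Spec.map (CommRingCat.ofHom (algebraMap L Kb)), by
    change _ ≫ p = _
    rw [← Spec.map_comp, ← CommRingCat.ofHom_comp, ← IsScalarTower.algebraMap_eq]⟩
  have := congrArg Subtype.val (h Y s)
  change σ g ≫ Spec.map (CommRingCat.ofHom (algebraMap L Kb)) = _ at this
  rw [σ, ← Spec.map_comp] at this
  exact congr($(Spec.map_injective this).hom ⟨y, IntermediateField.mem_adjoin_simple_self K y⟩)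

theorem isFundamentalGroup :
    haveI := compactSpace K
    haveI := FiberUnique.galoisCategory (X := Spec (CommRingCat.of K))
    IsFundamentalGroup (FiberFunctor.fintypeFiber (ξ K)) GK :=
  haveI := compactSpace K
  haveI := FiberUnique.galoisCategory (X := Spec (CommRingCat.of K))
  { transitive_of_isGalois := fun Y _ => isPretransitive (Y := Y)
    continuous_smul := fun Y => continuousSMul (Y := Y)
    non_trivial' := non_trivial }

end Groth.Agent.Lib.FEt.FieldGalois

namespace Groth.Agent.Lib.FEt.FieldGalois

/-- Automorphisms of the fibre functor, with or without remembering finiteness. -/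
noncomputable def autEquiv {X : Scheme.{u}} {Ω : Type u} [Field Ω]
    (ξ : Spec (CommRingCat.of Ω) ⟶ X) :
    Aut (FiberFunctor.fintypeFiber ξ) ≃* Aut (FEt.fiber ξ) :=
  (((Functor.FullyFaithful.ofFullyFaithful FintypeCat.incl).whiskeringRight
      (FEt.Cat X)).autMulEquivOfFullyFaithful (FiberFunctor.fintypeFiber ξ)).trans
    (FiberFunctor.fintypeFiberIso ξ).conjAut

/-- The absolute Galois group is the fundamental group of the spectrum of a field. -/
theorem nonempty_mulEquiv (K : Type u) [Field K] :
    Nonempty (Field.absoluteGaloisGroup K ≃* FEt.piOne (Spec (CommRingCat.of K)) (ξ K)) := by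
  have := compactSpace K
  have := FiberUnique.galoisCategory (X := Spec (CommRingCat.of K))
  have := GaloisCat.fiberFunctor (ξ K)
  have := isFundamentalGroup (K := K)
  exact ⟨(toAutMulEquiv (FiberFunctor.fintypeFiber (ξ K))
    (AlgebraicClosure K ≃ₐ[K] AlgebraicClosure K)).trans (autEquiv _)⟩

open FintypeCatDiscrete in
/-- Covers of the spectrum of a field are finite sets with a continuous Galois action. -/
theorem nonempty_equivalence (K : Type u) [Field K] :
    Nonempty (FEt.Cat (Spec (CommRingCat.of K)) ≌
      ContAction FintypeCat.{u} (Field.absoluteGaloisGroup K)) := by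
  have := compactSpace K
  have := FiberUnique.galoisCategory (X := Spec (CommRingCat.of K))
  have := GaloisCat.fiberFunctor (ξ K)
  have := isFundamentalGroup (K := K)
  let G := AlgebraicClosure K ≃ₐ[K] AlgebraicClosure K
  let F := FiberFunctor.fintypeFiber (ξ K)
  let f : G ≃ₜ* Aut F :=
    { toAutMulEquiv F G with
      continuous_toFun := (toAutMulEquiv_isHomeomorph F G).continuous
      continuous_invFun := (toAutHomeo F G).continuous_invFun.congr fun t =>
        (toAutMulEquiv F G).injective (by
          rw [toAutMulEquiv_apply, ← toAutHomeo_apply]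
          exact ((toAutHomeo F G).apply_symm_apply t).trans
            ((toAutMulEquiv F G).apply_symm_apply t).symm) }
  exact ⟨(functorToContAction F).asEquivalence.trans (ContAction.resEquiv _ f)⟩

end Groth.Agent.Lib.FEt.FieldGalois
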