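import Groth.Agent.Lib.FEt.FiberFunctor
import Groth.Agent.Lib.FEt.Conservative
import Groth.Agent.Lib.FEt.Summand

/-!
# The Galois category of finite etale covers; exactness of base change
-/

universe u

open CategoryTheory CategoryTheory.Limits AlgebraicGeometry

namespace Groth.Agent.Lib.FEt.GaloisCat

variable {X : Scheme.{u}} {Ω : Type u} [Field Ω]

/-- Fibres of a base change. -/
noncomputable def restrictFiberIso {X' : Scheme.{u}} (f : X' ⟶ X)
    (ξ : Spec (CommRingCat.of Ω) ⟶ X') :
    FEt.restrict f ⋙ FEt.fiber ξ ≅ FEt.fiber (ξ ≫ f) :=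
  NatIso.ofComponents
    (fun Y => Equiv.toIso
      { toFun := fun s => ⟨s.1 ≫ pullback.fst Y.hom f, by
          exact (Category.assoc _ _ _).trans ((congrArg (s.1 ≫ ·) pullback.condition).trans
            ((Category.assoc _ _ _).symm.trans (congrArg (· ≫ f) s.2)))⟩
        invFun := fun t => ⟨pullback.lift t.1 ξ t.2, pullback.lift_snd _ _ _⟩
        left_inv := fun s => Subtype.ext (pullback.hom_ext (pullback.lift_fst _ _ _)
          ((pullback.lift_snd _ _ _).trans s.2.symm))
        right_inv := fun t => Subtype.ext (pullback.lift_fst _ _ _) })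
    fun φ => ConcreteCategory.hom_ext _ _ fun s => Subtype.ext
      (((Category.assoc _ _ _).trans (congrArg (s.1 ≫ ·) (Basic.restrict_map_fst f φ))).trans
        (Category.assoc _ _ _).symm)

theorem meetsClopens_points (X : Scheme.{u}) :
    Conservative.MeetsClopens X (Set.range fun x : X =>
      Fiber.point (Spec.map (CommRingCat.ofHom
        (algebraMap (X.residueField x) (AlgebraicClosure (X.residueField x)))) ≫
          X.fromSpecResidueField x)) := by
  refine fun s hs hne => ?_
  obtain ⟨x, hx⟩ := hne
  refine ⟨x, hx, x, ?_⟩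
  exact Scheme.fromSpecResidueField_apply x _

instance preservesFiniteColimits_restrict {X' : Scheme.{u}} (f : X' ⟶ X) :
    PreservesFiniteColimits (FEt.restrict f) where
  preservesFiniteColimits J _ _ := ⟨fun {K} => by
    refine preservesColimit_of_preserves_colimit_cocone (colimit.isColimit K) ?_
    let c := (FEt.restrict f).mapCocone (colimit.cocone K)
    have : IsIso ((colimit.isColimit (K ⋙ FEt.restrict f)).desc c) := by
      refine Conservative.isIso_of_bijective (fun x : X' => Spec.map (CommRingCat.ofHom
        (algebraMap (X'.residueField x) (AlgebraicClosure (X'.residueField x)))) ≫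
          X'.fromSpecResidueField x) (meetsClopens_points X') _ fun x => ?_
      set F := FEt.fiber (Spec.map (CommRingCat.ofHom
        (algebraMap (X'.residueField x) (AlgebraicClosure (X'.residueField x)))) ≫
          X'.fromSpecResidueField x)
      have : PreservesFiniteColimits (FEt.restrict f ⋙ F) :=
        preservesFiniteColimits_of_natIso (restrictFiberIso f _).symm
      have h₁ := isColimitOfPreserves F (colimit.isColimit (K ⋙ FEt.restrict f))
      have h₂ : IsColimit (F.mapCocone c) :=
        isColimitOfPreserves (FEt.restrict f ⋙ F) (colimit.isColimit K)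
      have hh := IsColimit.hom_isIso h₁ h₂
        (F.mapCoconeMorphism ((colimit.isColimit _).descCoconeMorphism c))
      have : IsIso (F.map ((colimit.isColimit (K ⋙ FEt.restrict f)).desc c)) :=
        inferInstanceAs (IsIso ((Cocone.forget _).map
          (F.mapCoconeMorphism ((colimit.isColimit _).descCoconeMorphism c))))
      exact (isIso_iff_bijective _).mp this
    exact IsColimit.ofPointIso (colimit.isColimit (K ⋙ FEt.restrict f)) (i := this)⟩

variable [IsAlgClosed Ω] (ξ : Spec (CommRingCat.of Ω) ⟶ X)

theorem fiberFunctor [ConnectedSpace X] :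
    PreGaloisCategory.FiberFunctor (FiberFunctor.fintypeFiber ξ) where
  preservesQuotientsByFiniteGroups G _ _ := by
    obtain ⟨G', hg, hf, ⟨e⟩⟩ := Finite.exists_type_univ_nonempty_mulEquiv.{_, 0} G
    exact preservesColimitsOfShape_of_equiv e.toSingleObjEquiv.symm _
  reflectsIsos := ⟨fun φ h => Conservative.isIso_of_bijective_one ξ φ
    ((isIso_iff_bijective _).mp
      (inferInstanceAs (IsIso (FintypeCat.incl.map ((FiberFunctor.fintypeFiber ξ).map φ)))))⟩

end Groth.Agent.Lib.FEt.GaloisCat
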