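import Groth.Agent.Lib.FEt.FiberUnique
import Groth.Prelude.Def_PiSp
import Mathlib.CategoryTheory.Galois.Decomposition
import Mathlib.CategoryTheory.Galois.Prorepresentability

/-!
# Topological generators of fundamental groups and clopen subsets of covers
-/

universe u

open CategoryTheory CategoryTheory.Limits AlgebraicGeometry CategoryTheory.PreGaloisCategory

namespace Groth.Agent.Lib.FEt.TopGen

variable {X : Scheme.{u}} [ConnectedSpace X] {Ω : Type u} [Field Ω] [IsAlgClosed Ω]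
  (ξ : Spec (CommRingCat.of Ω) ⟶ X)

/-- The action of the fundamental group on a fibre. -/
noncomputable def act (σ : FEt.piOne X ξ) (Z : FEt.Cat X) (s : FEt.fiberObj ξ Z) :
    FEt.fiberObj ξ Z :=
  σ.hom.app Z s

/-- Maps on fibres. -/
noncomputable def fmap {Y Z : FEt.Cat X} {Ω' : Type u} [Field Ω'] (q : Spec (CommRingCat.of Ω') ⟶ X)
    (i : Y ⟶ Z) (y : FEt.fiberObj q Y) : FEt.fiberObj q Z :=
  (FEt.fiber q).map i y

theorem fmap_comp {W Y Z : FEt.Cat X} (i : W ⟶ Y) (j : Y ⟶ Z) (w : FEt.fiberObj ξ W) :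
    fmap ξ (i ≫ j) w = fmap ξ j (fmap ξ i w) :=
  ConcreteCategory.congr_hom ((FEt.fiber ξ).map_comp i j) w

/-- Every point of a fibre lies on a connected component. -/
theorem exists_component (Z : FEt.Cat X) (s : FEt.fiberObj ξ Z) :
    ∃ (Y : FEt.Cat X) (i : Y ⟶ Z) (y : FEt.fiberObj ξ Y),
      fmap ξ i y = s ∧ PreGaloisCategory.IsConnected Y ∧ Mono i := by
  have := FiberUnique.galoisCategory (X := X)
  have := GaloisCat.fiberFunctor ξ
  obtain ⟨Y, i, y, h⟩ := fiber_in_connected_component (FiberFunctor.fintypeFiber ξ) Z s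
  exact ⟨Y, i, y, h⟩

/-- The fundamental group is transitive on the fibres of connected covers. -/
theorem exists_aut_apply_eq (Z : FEt.Cat X) [PreGaloisCategory.IsConnected Z]
    (s t : FEt.fiberObj ξ Z) : ∃ σ : FEt.piOne X ξ, act ξ σ Z s = t := by
  have := FiberUnique.galoisCategory (X := X)
  have := GaloisCat.fiberFunctor ξ
  obtain ⟨σ, hσ⟩ := MulAction.exists_smul_eq (Aut (FiberFunctor.fintypeFiber ξ))
    (show ((FiberFunctor.fintypeFiber ξ).obj Z : Type u) from s) t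
  exact ⟨(FiberFunctor.fintypeFiberIso ξ).symm ≪≫ Functor.isoWhiskerRight σ FintypeCat.incl ≪≫
    FiberFunctor.fintypeFiberIso ξ, hσ⟩

theorem mul_apply (σ τ : FEt.piOne X ξ) (Z : FEt.Cat X) (s : FEt.fiberObj ξ Z) :
    act ξ (σ * τ) Z s = act ξ σ Z (act ξ τ Z s) := rfl

theorem one_apply (Z : FEt.Cat X) (s : FEt.fiberObj ξ Z) :
    act ξ (1 : FEt.piOne X ξ) Z s = s := rfl

theorem apply_inv (σ : FEt.piOne X ξ) (Z : FEt.Cat X) (s : FEt.fiberObj ξ Z) :
    act ξ σ Z (act ξ σ⁻¹ Z s) = s := by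
  rw [← mul_apply, mul_inv_cancel, one_apply]

theorem map_apply (σ : FEt.piOne X ξ) {Y Z : FEt.Cat X} (i : Y ⟶ Z) (y : FEt.fiberObj ξ Y) :
    act ξ σ Z (fmap ξ i y) = fmap ξ i (act ξ σ Y y) :=
  ConcreteCategory.congr_hom (σ.hom.naturality i) y

/-- A topologically generated group stabilises a set as soon as the generators do. -/
theorem apply_mem_iff {S : Set (FEt.piOne X ξ)} (hS : PiSp.TopGenerates S) (Z : FEt.Cat X)
    (O : Set (FEt.fiberObj ξ Z)) (h : ∀ σ ∈ S, ∀ s, act ξ σ Z s ∈ O ↔ s ∈ O)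
    (σ : FEt.piOne X ξ) (s : FEt.fiberObj ξ Z) : act ξ σ Z s ∈ O ↔ s ∈ O := by
  let T : Set (FEt.piOne X ξ) := {τ | ∀ s, act ξ τ Z s ∈ O ↔ s ∈ O}
  have hgen : ((Subgroup.closure S : Subgroup (FEt.piOne X ξ)) : Set (FEt.piOne X ξ)) ⊆ T := by
    intro τ hτ
    induction hτ using Subgroup.closure_induction with
    | mem x hx => exact h x hx
    | one => exact fun s => by rw [one_apply]
    | mul x y _ _ hx hy => exact fun s => by rw [mul_apply]; exact (hx _).trans (hy s)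
    | inv x _ hx =>
        intro s
        have := hx (act ξ x⁻¹ Z s)
        rw [apply_inv] at this
        exact this.symm
  let _ : ∀ W : FEt.Cat X, TopologicalSpace (FEt.fiberObj ξ W → FEt.fiberObj ξ W) := fun _ => ⊥
  have : DiscreteTopology (FEt.fiberObj ξ Z → FEt.fiberObj ξ Z) := ⟨rfl⟩
  let _ : TopologicalSpace (FEt.piOne X ξ) := PiSp.piOneTopology X ξ
  let e : FEt.piOne X ξ → ∀ W : FEt.Cat X, FEt.fiberObj ξ W → FEt.fiberObj ξ W :=
    fun τ W s => act ξ τ W s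
  have he : Continuous e := continuous_induced_dom
  have hc : Continuous (fun τ : FEt.piOne X ξ => e τ Z) := (continuous_apply Z).comp he
  have hT : @IsClosed _ (PiSp.piOneTopology X ξ) T :=
    (isClosed_discrete {q : FEt.fiberObj ξ Z → FEt.fiberObj ξ Z | ∀ s, q s ∈ O ↔ s ∈ O}).preimage hc
  have : σ ∈ T := (hT.closure_subset_iff.mpr hgen) (hS σ)
  exact this s

/-- Fibre products of covers. -/
noncomputable def prodCover (Y Z : FEt.Cat X) : FEt.Cat X :=
  MorphismProperty.Over.mk ⊤ (pullback.fst Y.hom Z.hom ≫ Y.hom)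
    (MorphismProperty.comp_mem _ _ _ (MorphismProperty.pullback_fst _ _ Z.prop) Y.prop)

/-- The terminal cover. -/
noncomputable def idCover (X : Scheme.{u}) : FEt.Cat X :=
  MorphismProperty.Over.mk ⊤ (𝟙 X) ⟨inferInstance, inferInstance⟩

/-- Finitely many fibre points are dominated by a point of a connected cover. -/
theorem exists_dominating (l : Finset ((Z : FEt.Cat X) × FEt.fiberObj ξ Z)) :
    ∃ (Y : FEt.Cat X) (_ : PreGaloisCategory.IsConnected Y) (y : FEt.fiberObj ξ Y),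
      ∀ p ∈ l, ∃ f : Y ⟶ p.1, fmap ξ f y = p.2 := by
  classical
  induction l using Finset.induction with
  | empty =>
    obtain ⟨Y, _, y, -, hY, -⟩ := exists_component ξ (idCover X) ⟨ξ, Category.comp_id _⟩
    exact ⟨Y, hY, y, fun _ hp => absurd hp (Finset.notMem_empty _)⟩
  | insert p l _ ih =>
    obtain ⟨Y, hY, y, hy⟩ := ih
    let P := prodCover Y p.1
    let π₁ : P ⟶ Y := MorphismProperty.Over.homMk (pullback.fst Y.hom p.1.hom) rfl
    let π₂ : P ⟶ p.1 := MorphismProperty.Over.homMk (pullback.snd Y.hom p.1.hom)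
      (pullback.condition).symm
    let z : FEt.fiberObj ξ P := ⟨pullback.lift y.1 p.2.1 (y.2.trans p.2.2.symm), by
      exact (Category.assoc _ _ _).symm.trans ((congrArg (· ≫ Y.hom) (pullback.lift_fst _ _ _)).trans y.2)⟩
    obtain ⟨Y', i, y', hy', hY', -⟩ := exists_component ξ P z
    refine ⟨Y', hY', y', fun q hq => ?_⟩
    rcases Finset.mem_insert.mp hq with rfl | hq
    · refine ⟨i ≫ π₂, ?_⟩
      rw [fmap_comp, hy']
      exact Subtype.ext (pullback.lift_snd _ _ _)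
    · obtain ⟨f, hf⟩ := hy q hq
      refine ⟨i ≫ π₁ ≫ f, ?_⟩
      rw [fmap_comp, fmap_comp, hy',
        show fmap ξ π₁ z = y from Subtype.ext (pullback.lift_fst _ _ _), hf]

/-- A subgroup transitive on the fibres of connected covers is dense. -/
theorem topGenerates_of_transitive (S : Set (FEt.piOne X ξ))
    (h : ∀ (Z : FEt.Cat X) [PreGaloisCategory.IsConnected Z] (s t : FEt.fiberObj ξ Z),
      ∃ σ ∈ Subgroup.closure S, act ξ σ Z s = t) : PiSp.TopGenerates S := by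
  classical
  intro σ
  rw [mem_closure_iff]
  intro U hU hσ
  obtain ⟨V, hV, rfl⟩ := (@isOpen_induced_iff _ _
    (@Pi.topologicalSpace (FEt.Cat X) (fun W => FEt.fiberObj ξ W → FEt.fiberObj ξ W) fun _ => ⊥)
    _ _).mp hU
  obtain ⟨I, w, hw, hsub⟩ := (@isOpen_pi_iff (FEt.Cat X)
    (fun W => FEt.fiberObj ξ W → FEt.fiberObj ξ W) (fun _ => ⊥) V).mp hV _ hσ
  have hfin : ∀ Z : FEt.Cat X, Fintype (FEt.fiberObj ξ Z) := fun Z =>
    @Fintype.ofFinite _ (Fiber.finite_fiberObj ξ Z)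
  obtain ⟨Y, hY, y, hdom⟩ := exists_dominating ξ (I.sigma fun Z => Finset.univ)
  obtain ⟨τ, hτ, hτy⟩ := h Y y (act ξ σ Y y)
  refine ⟨τ, hsub fun Z hZ => ?_, hτ⟩
  have : (fun s : FEt.fiberObj ξ Z => act ξ τ Z s) = fun s => σ.hom.app Z s := funext fun s => by
    obtain ⟨f, hf⟩ := hdom ⟨Z, s⟩ (Finset.mem_sigma.mpr ⟨hZ, Finset.mem_univ _⟩)
    rw [← show fmap ξ f y = s from hf]
    exact (map_apply ξ τ f y).trans ((congrArg (fmap ξ f) hτy).trans (map_apply ξ σ f y).symm)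
  exact Set.mem_of_eq_of_mem this (hw Z hZ).2

/-- Clopen subsets attached to stable subsets of a fibre. -/
theorem exists_clopen (Z : FEt.Cat X) (O : Set (FEt.fiberObj ξ Z))
    (hO : ∀ (σ : FEt.piOne X ξ) s, act ξ σ Z s ∈ O ↔ s ∈ O) :
    ∃ A : Set Z.left, IsClopen A ∧
      ∀ {Ω' : Type u} [Field Ω'] [IsAlgClosed Ω'] (q : Spec (CommRingCat.of Ω') ⟶ X)
        (ψ : FEt.fiber ξ ≅ FEt.fiber q) (s : FEt.fiberObj ξ Z),
        Fiber.point (ψ.hom.app Z s).1 ∈ A ↔ s ∈ O := by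
  choose Y i y hy hconn hmono using fun s : O => exists_component ξ Z s.1
  have := Fiber.finite_fiberObj ξ Z
  refine ⟨⋃ s : O, Set.range (i s).left.base, ⟨isClosed_iUnion_of_finite fun s => ?_,
    isOpen_iUnion fun s => ?_⟩, fun {Ω'} _ _ q ψ s => ⟨fun hs => ?_, fun hs => ?_⟩⟩
  · have := Basic.isFinite_left (i s)
    exact (i s).left.isClosedMap.isClosed_range
  · have := hmono s
    have := Summand.isOpenImmersion_left (i s)
    exact (i s).left.isOpenEmbedding.isOpen_range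
  · obtain ⟨o, ho⟩ := Set.mem_iUnion.mp hs
    have := hmono o
    have := Summand.isOpenImmersion_left (i o)
    let l := IsOpenImmersion.lift (i o).left (ψ.hom.app Z s).1 (Set.range_subset_iff.mpr fun t => by
      rw [Fiber.base_eq_point]; exact ho)
    let t : FEt.fiberObj q (Y o) := ⟨l, by
      refine Eq.trans (congrArg (l ≫ ·) (Over.w (i o).hom).symm) ?_
      exact (Category.assoc _ _ _).symm.trans
        ((congrArg (· ≫ Z.hom) (IsOpenImmersion.lift_fac _ _ _)).trans (ψ.hom.app Z s).2)⟩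
    have ht : (FEt.fiber q).map (i o) t = ψ.hom.app Z s :=
      Subtype.ext (IsOpenImmersion.lift_fac _ _ _)
    have hts : fmap ξ (i o) (ψ.inv.app (Y o) t) = s := by
      refine Eq.trans (ConcreteCategory.congr_hom (ψ.inv.naturality (i o)) t).symm ?_
      exact (congrArg (ψ.inv.app Z) ht).trans (ConcreteCategory.congr_hom (ψ.hom_inv_id_app Z) s)
    have := hconn o
    obtain ⟨σ, hσ⟩ := exists_aut_apply_eq ξ (Y o) (y o) (ψ.inv.app (Y o) t)
    rw [← hts, ← hσ, ← map_apply, hy o, hO]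
    exact o.2
  · refine Set.mem_iUnion.mpr ⟨⟨s, hs⟩, ?_⟩
    have h1 : ψ.hom.app Z s = (FEt.fiber q).map (i ⟨s, hs⟩) (ψ.hom.app _ (y ⟨s, hs⟩)) :=
      ((congrArg (ψ.hom.app Z) (hy ⟨s, hs⟩)).symm).trans
        (ConcreteCategory.congr_hom (ψ.hom.naturality (i ⟨s, hs⟩)) _)
    rw [h1]
    exact ⟨_, rfl⟩

end Groth.Agent.Lib.FEt.TopGen
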